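import Cfsg.Agent.VAN.Rk.Co
import Cfsg.Agent.H120.OZ.ChevEl

/-!
# S4942, rank two: tools for the Chevalley groups of rank two (helper77)
-/

set_option autoImplicit false
set_option linter.unusedSectionVars false

namespace Cfsg.Agent.VAN.Rk

open Cfsg Cfsg.Agent.LieExceptional.BNPairCore

universe u

/-- elliptic elements have no fixed points on a natural module -/
theorem R2.nat_layer {G : Type u} [Group G] {D : R2 G} {i : Bool} {g : G} (hg : g ∈ D.Par i)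
    (hell : ∀ y ∈ D.Par i, y⁻¹ * g * y ∉ D.P.B) {Z : Subgroup G} (hB : ∀ b ∈ D.P.B, ∀ z ∈ Z, b * z * b⁻¹ ∈ Z)
    (hn : ∀ z ∈ Z, D.n i * z * (D.n i)⁻¹ ∈ Z → z = 1) {v y : G} (hy : y ∈ D.Par i) (hz : y⁻¹ * v * y ∈ Z)
    (h : g * v = v * g) : v = 1 := by
  have h1 : y⁻¹ * g * y ∈ D.Par i := mul_mem (mul_mem (inv_mem hy) hg) hy
  obtain ⟨a, ha, b, hb, e⟩ := mem_C.1 (h1.resolve_left (hell y hy))
  have h2 : D.n i * (b * (y⁻¹ * v * y) * b⁻¹) * (D.n i)⁻¹ = a⁻¹ * (y⁻¹ * v * y) * a⁻¹⁻¹ := by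
    have h3 : y⁻¹ * g * y * (y⁻¹ * v * y) * (y⁻¹ * g * y)⁻¹ = y⁻¹ * v * y := by
      calc _ = y⁻¹ * (g * v) * g⁻¹ * y := by group
        _ = _ := by rw [h]; group
    rw [e] at h3
    nth_rewrite 2 [← h3]
    group
  have h4 := hn _ (hB b hb _ hz) (h2 ▸ hB _ (inv_mem ha) _ hz)
  calc v = y * b⁻¹ * (b * (y⁻¹ * v * y) * b⁻¹) * b * y⁻¹ := by group
    _ = 1 := by rw [h4]; group

open Cfsg.Agent.ChevalleyStructure.SL2Hom (up lo)
open Cfsg.Agent.H866.OZ (Co Ellip)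

theorem exists_ellip_pow (F : Type u) [Field F] [Fintype F] :
    ∃ B : Matrix.SpecialLinearGroup (Fin 2) F, Ellip B ∧ B ^ (Fintype.card F + 1) = 1 := by
  obtain ⟨g, N, h1, h2, h3, -⟩ := H120.OZ.exists_elt F
  obtain ⟨q, hq⟩ : ∃ q, q = Fintype.card F := ⟨_, rfl⟩
  have hq2 : 1 < q := hq ▸ Fintype.one_lt_card
  rw [← hq] at h1 h2 ⊢
  have e : q ^ 2 - 1 = (q - 1) * (q + 1) := by rw [mul_comm, ← Nat.sq_sub_sq, one_pow]
  let B : Matrix.SpecialLinearGroup (Fin 2) F := ⟨(g ^ (q - 1)).1, by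
    rw [← H120.OZ.coe_det, map_pow, h3, ← h2, pow_orderOf_eq_one, Units.val_one]⟩
  have hB : orderOf B = q + 1 := by
    rw [← orderOf_injective Matrix.SpecialLinearGroup.toGL Matrix.SpecialLinearGroup.toGL_injective,
      show Matrix.SpecialLinearGroup.toGL B = g ^ (q - 1) from Units.ext rfl, orderOf_pow_of_dvd (by omega)
      (by rw [h1, e]; exact dvd_mul_right _ _), h1, e, Nat.mul_div_cancel_left _ (by omega)]
  refine ⟨B, fun C hC => ?_, by rw [← hB, pow_orderOf_eq_one]⟩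
  obtain ⟨A, hA⟩ : ∃ A, A = C⁻¹ * B * C := ⟨_, rfl⟩
  rw [← hA] at hC
  have m : ∀ (X Y : Matrix.SpecialLinearGroup (Fin 2) F) i j, (X * Y).1 i j = X.1 i 0 * Y.1 0 j + X.1 i 1 * Y.1 1 j :=
    fun X Y i j => by rw [Matrix.SpecialLinearGroup.coe_mul, Matrix.mul_apply, Fin.sum_univ_two]
  have k1 : ∀ k : ℕ, (A ^ k).1 1 0 = 0 ∧ (A ^ k).1 0 0 = A.1 0 0 ^ k ∧ (A ^ k).1 1 1 = A.1 1 1 ^ k := by
    intro k
    induction k with
    | zero => simp
    | succ k ih =>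
      rw [pow_succ, m, m, m, ih.1, ih.2.1, ih.2.2, hC]
      refine ⟨?_, ?_, ?_⟩ <;> ring
  have hd := A.2
  rw [Matrix.det_fin_two, hC, mul_zero, sub_zero] at hd
  obtain ⟨a1, a2, a3⟩ := k1 (q - 1)
  rw [hq, FiniteField.pow_card_sub_one_eq_one _ (left_ne_zero_of_mul_eq_one hd), ← hq] at a2
  rw [hq, FiniteField.pow_card_sub_one_eq_one _ (right_ne_zero_of_mul_eq_one hd), ← hq] at a3
  have k2 : ∀ k : ℕ, ((A ^ (q - 1)) ^ k).1 = !![1, k * (A ^ (q - 1)).1 0 1; 0, 1] := by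
    intro k
    induction k with
    | zero => rw [pow_zero, Nat.cast_zero, zero_mul]; exact Matrix.one_fin_two
    | succ k ih =>
      rw [Matrix.eta_fin_two ((A ^ (q - 1)) ^ (k + 1)).1, pow_succ, m, m, m, m, ih, a1, a2, a3]
      simp [add_mul, add_comm]
  have k3 : A ^ ((q - 1) * q) = 1 := by
    rw [pow_mul]
    apply Subtype.ext
    rw [k2, hq, Nat.cast_card_eq_zero, zero_mul]
    exact Matrix.one_fin_two.symm
  rw [hA, show C⁻¹ * B * C = C⁻¹ * B * C⁻¹⁻¹ by rw [inv_inv], conj_pow, mul_inv_eq_one, mul_eq_left] at k3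
  have k4 := orderOf_dvd_of_pow_eq_one k3
  rw [hB] at k4
  have k5 := Nat.le_of_dvd (by omega) (Nat.Coprime.dvd_of_dvd_mul_right (by simp) k4)
  omega

open CoxeterSystem Cfsg.Agent.ChevalleyStructure.CoxeterGeom Cfsg.Agent.Tits.Roots Cfsg.Agent.Tits.Core
  Cfsg.Agent.Nodes.Reps Cfsg.Agent.Nodes.BNOf Cfsg.Agent.Nodes.StabComb Cfsg.Agent.Nodes.Bruhat
  Cfsg.Agent.Nodes.LeviDec Cfsg.Agent.Nodes.OppDec Cfsg.Agent.Nodes.RGDChev Cfsg.Agent.KFacts.RgdChevCoord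
open Cfsg.Lie Cfsg.Agent.ChevalleyStructure Cfsg.Agent.ChevalleyStructure.Elts
  Cfsg.Agent.ChevalleyStructure.RootVec Cfsg.Agent.ChevalleyStructure.RootVecTab
  Cfsg.Agent.ChevalleyStructure.NPerm Cfsg.Agent.ChevalleyStructure.CoxeterGeomTypes
open Cfsg.Agent.H934.PQR.TorGen (tau)
open Cfsg.Agent.H120.OZ
open scoped commutatorElement

namespace Chev

variable {D : ChevalleyDatum} {M : CoxeterMatrix (Fin 2)} (hp : IsType D 2 M) {F : Type u} [Field F]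

/-- the homomorphism of a node -/
structure IsPs (i : Fin 2) (Ψ : Matrix.SpecialLinearGroup (Fin 2) F →* ↥(D.group F)) : Prop where
  up : ∀ s, Ψ (up s) = xr hp (D.simple i) s
  lo : ∀ s, Ψ (lo s) = xr hp (D.neg (D.simple i)) s
  tau : ∀ c : Fˣ, Ψ (tau c) = hc hp i (c : F)

theorem exists_ps (F : Type u) [Field F] (i : Fin 2) : ∃ Ψ, IsPs (F := F) hp i Ψ := by
  obtain ⟨Ψ, h1, h2, h3⟩ := exists_psi (K := F) hp i
  exact ⟨Ψ, h1, h2, h3⟩

include hp in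
theorem slt (i : Fin 2) : D.simple i < D.nroots := simple_lt hp.inList (lt_rank hp i)

theorem conj_xr {t : ↥(D.group F)} (ht : t ∈ TT D F) {r : ℕ} (hr : r < D.nroots) (a : F) :
    t * xr hp r a * t⁻¹ = xr hp r (ch hp (vec D 2 r) t * a) := by
  rw [← xc_vec hp hr, (act hp hr ht).2, xc_vec hp hr]

theorem comm_of_ch {t : ↥(D.group F)} (ht : t ∈ TT D F) {r : ℕ} (hr : r < D.nroots) (h : ch hp (vec D 2 r) t = 1) (a : F) :
    t * xr hp r a = xr hp r a * t := by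
  rw [← mul_inv_eq_iff_eq_mul, conj_xr hp ht hr, h, one_mul]

theorem n_xr (i : Fin 2) {r : ℕ} (hr : r < D.nroots) : ∃ c : F, c ≠ 0 ∧ ∀ a,
    nc hp F i * xr hp r a * (nc hp F i)⁻¹ = xr hp (D.reflectRoot i r) (c * a) := by
  obtain ⟨c, h1, h2⟩ := nact hp (K := F) (i := i) hr
  refine ⟨c, h1, fun a => ?_⟩
  rw [← xc_vec hp hr, h2, xc_vec hp (reflectRoot_lt hp.inList (lt_rank hp i) hr)]

theorem xr_pow' (r : ℕ) (a : F) (k : ℕ) : xr hp r a ^ k = xr hp r (k * a) := by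
  induction k with
  | zero => rw [pow_zero, Nat.cast_zero, zero_mul, xr_zero]
  | succ k ih => rw [pow_succ, ih, xr_add, Nat.cast_succ, add_mul, one_mul]

/-- the commutator formula -/
theorem comm_eq {r s : ℕ} (hr : r < D.nroots) (hs : s < D.nroots) (hrs : s ≠ r) (hneg : s ≠ D.neg r) (a b : F) :
    ⁅xr hp s a, xr hp r b⁆ = ((D.commTerms r s).map fun c => xr hp c.1 ((c.2.1 : F) * b ^ c.2.2.1 * (-a) ^ c.2.2.2)).prod := by
  have e : ⁅xG hp.inList s a, xG hp.inList r b⁆ = wordG hp.inList (D.commWord F r s (-b) (-a)) := by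
    rw [← comm_xG hp hr hs hrs hneg, xG_inv, xG_inv, _root_.neg_neg, _root_.neg_neg]
  have key : ∀ w : List (ℕ × ℤ × ℕ × ℕ), (((w.map fun c => xr hp c.1 ((c.2.1 : F) * b ^ c.2.2.1 * (-a) ^ c.2.2.2)).prod :
      ↥(D.group F)) : GL D.Idx F) = wordG hp.inList (w.map fun c => (c.1, (c.2.1 : F) * (- -b) ^ c.2.2.1 * (-a) ^ c.2.2.2)) := by
    intro w
    induction w with
    | nil => rfl
    | cons c w ih => rw [List.map_cons, List.map_cons, List.prod_cons, wordG_cons, Subgroup.coe_mul, ih, coe_xr, _root_.neg_neg]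
  apply Subtype.ext
  rw [key]
  exact e

/-- torus elements -/
noncomputable def tt (s : F) (a b : ℕ) : ↥(D.group F) := hc hp 0 (s ^ a) * hc hp 1 (s ^ b)

theorem tt_mem {s : F} (hs : s ≠ 0) (a b : ℕ) : tt hp s a b ∈ TT D F :=
  mul_mem (hc_mem hp 0 (pow_ne_zero _ hs)) (hc_mem hp 1 (pow_ne_zero _ hs))

theorem ch_tt {s : F} (hs : s ≠ 0) (a b : ℕ) {r : ℕ} (hr : r < D.nroots) {e : ℕ}
    (he : a * D.cartan 0 r + b * D.cartan 1 r = e) : ch hp (vec D 2 r) (tt hp s a b) = s ^ e := by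
  rw [tt, ch_mul hp hr (hc_mem hp 0 (pow_ne_zero _ hs)) (hc_mem hp 1 (pow_ne_zero _ hs)), ch_hc hp 0 (pow_ne_zero _ hs) hr,
    ch_hc hp 1 (pow_ne_zero _ hs) hr, ← zpow_natCast s e, ← he, zpow_add₀ hs, zpow_mul, zpow_mul, zpow_natCast, zpow_natCast]
  rfl

theorem mem_X (i : Fin 2) {g : ↥(D.group F)} : g ∈ XX D 2 F (sr i) ↔ ∃ a, g = xr hp (D.simple i) a := by
  rw [← vec_simple hp i, mem_XX_vec hp (slt hp i)]

theorem xr_mem_U {W : Type*} [Group W] (cs : CoxeterSystem M W) {r : ℕ} (hr : r < D.nroots) (h : ∀ k, 0 ≤ vec D 2 r k) (a : F) :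
    xr hp r a ∈ RGD.Sup (XX D 2 F) (RGD.Pos cs hp.isCartan) :=
  RGD.le_Sup (S := RGD.Pos cs hp.isCartan) ⟨(isRoot_iff hp cs _).2 ⟨r, hr, rfl⟩, h⟩ ((mem_XX_vec hp hr).2 ⟨a, rfl⟩)

theorem VJ_le {W : Type*} [Group W] (cs : CoxeterSystem M W) (i : Fin 2) {L : List ℕ}
    (h : ∀ k : Fin 2, k ≠ i → ∀ r < D.nroots, 0 < vec D 2 r k → r ∈ L) :
    VJ cs hp.isCartan (XX D 2 F) {i} ≤ GS hp F L := by
  refine RGD.Sup_le fun x hx => ?_
  obtain ⟨h1, h2, k, hk, hk0⟩ := hx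
  obtain ⟨r, hr, rfl⟩ := (isRoot_iff hp cs x).1 h1
  intro g hg
  obtain ⟨a, rfl⟩ := (mem_XX_vec hp hr).1 hg
  exact xr_mem_GS hp (h k (fun h => hk h) r hr hk0) a

theorem U_le {W : Type*} [Group W] (cs : CoxeterSystem M W) {L : List ℕ}
    (h : ∀ r < D.nroots, (∀ k : Fin 2, 0 ≤ vec D 2 r k) → r ∈ L) :
    RGD.Sup (XX D 2 F) (RGD.Pos cs hp.isCartan) ≤ GS hp F L := by
  refine RGD.Sup_le fun x hx => ?_
  obtain ⟨h1, h2⟩ := hx
  obtain ⟨r, hr, rfl⟩ := (isRoot_iff hp cs x).1 h1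
  intro g hg
  obtain ⟨a, rfl⟩ := (mem_XX_vec hp hr).1 hg
  exact xr_mem_GS hp (h r hr h2) a

theorem comm_of_GS {L : List ℕ} {z : ↥(D.group F)} (h : ∀ r ∈ L, ∀ a : F, xr hp r a * z = z * xr hp r a)
    {v : ↥(D.group F)} (hv : v ∈ GS hp F L) : v * z = z * v := by
  have h1 : GS hp F L ≤ Subgroup.centralizer {z} := by
    refine (Subgroup.closure_le _).2 ?_
    rintro _ ⟨r, hr, a, rfl⟩
    exact Subgroup.mem_centralizer_singleton_iff.2 (h r hr a)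
  exact Subgroup.mem_centralizer_singleton_iff.1 (h1 hv)

variable {hp} {i : Fin 2} {Ψ : Matrix.SpecialLinearGroup (Fin 2) F →* ↥(D.group F)}

theorem IsPs.co (h : IsPs hp i Ψ) : Co (TT D F) (nc hp F) (XX D 2 F) i Ψ := by
  refine ⟨fun x => ?_, fun a b e => ?_, ?_, fun c hc => ?_⟩
  · rw [mem_X hp]
    simp only [h.up]
  · rw [h.up, h.up] at e
    exact xr_inj hp (slt hp i) e
  · apply Subtype.ext
    show _ = nG hp.inList (D.simple i) 1
    unfold Cfsg.Agent.Nodes.RGDFoldSL.wS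
    rw [map_mul, map_mul, h.up, h.lo, nG_def]
    rfl
  · have h1 := h.tau (Units.mk0 c hc)
    rw [Cfsg.Agent.H934.PQR.TorGen.tau_eq] at h1
    rw [show c = ((Units.mk0 c hc : Fˣ) : F) from rfl, h1]
    exact hc_mem hp i hc

theorem IsPs.mem (h : IsPs hp i Ψ) {K : Subgroup ↥(D.group F)} (h1 : ∀ a, xr hp (D.simple i) a ∈ K)
    (h2 : ∀ a, xr hp (D.neg (D.simple i)) a ∈ K) (B : Matrix.SpecialLinearGroup (Fin 2) F) : Ψ B ∈ K := by
  have h4 : Subgroup.closure (Set.range (SL2Hom.up (F := F)) ∪ Set.range (SL2Hom.lo (F := F))) ≤ K.comap Ψ := by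
    rw [Subgroup.closure_le]
    rintro _ (⟨t, rfl⟩ | ⟨t, rfl⟩)
    · show Ψ _ ∈ K
      rw [h.up]
      exact h1 t
    · show Ψ _ ∈ K
      rw [h.lo]
      exact h2 t
  exact h4 (SL2Hom.mem_closure_SL2 B)

theorem IsPs.comm (h : IsPs hp i Ψ) {z : ↥(D.group F)} (h1 : ∀ a, z * xr hp (D.simple i) a = xr hp (D.simple i) a * z)
    (h2 : ∀ a, z * xr hp (D.neg (D.simple i)) a = xr hp (D.neg (D.simple i)) a * z)
    (B : Matrix.SpecialLinearGroup (Fin 2) F) : z * Ψ B = Ψ B * z :=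
  (Subgroup.mem_centralizer_singleton_iff.1 (h.mem (K := Subgroup.centralizer {z})
    (fun a => Subgroup.mem_centralizer_singleton_iff.2 (h1 a).symm)
    (fun a => Subgroup.mem_centralizer_singleton_iff.2 (h2 a).symm) B)).symm

theorem IsPs.conj [Finite ↥(D.group F)] (h : IsPs hp i Ψ) {L : List ℕ} (h1 : chk D L (D.simple i))
    (h2 : chk D L (D.neg (D.simple i))) (B : Matrix.SpecialLinearGroup (Fin 2) F) {v : ↥(D.group F)}
    (hv : v ∈ GS hp F L) : Ψ B * v * (Ψ B)⁻¹ ∈ GS hp F L :=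
  (Subgroup.mem_normalizer_iff.1 (h.mem (K := Subgroup.normalizer (GS hp F L : Set ↥(D.group F)))
    (fun a => Subgroup.mem_normalizer_fintype fun _ hx => conj_mem hp (slt hp i) h1 a hx)
    (fun a => Subgroup.mem_normalizer_fintype fun _ hx => conj_mem hp (neg_lt hp.inList (slt hp i)) h2 a hx) B) v).1 hv

/-- the step for the elements `t Ψ(B)` -/
theorem IsPs.step [Finite F] [Finite ↥(D.group F)] (h : IsPs hp i Ψ) {L : List ℕ} {r : ℕ} (hr : r < D.nroots) (hc : chk D L r)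
    (h1 : chk D L (D.simple i)) (h2 : chk D L (D.neg (D.simple i)))
    (h3 : r ≠ D.simple i ∧ r ≠ D.neg (D.simple i) ∧ D.commTerms (D.simple i) r = [])
    (h4 : r ≠ D.neg (D.simple i) ∧ r ≠ D.neg (D.neg (D.simple i)) ∧ D.commTerms (D.neg (D.simple i)) r = [])
    {t : ↥(D.group F)} (ht : t ∈ TT D F) (h5 : ch hp (vec D 2 r) t ≠ 1) (B : Matrix.SpecialLinearGroup (Fin 2) F)
    {v : ↥(D.group F)} (hv : v ∈ GS hp F (r :: L)) (e : t * Ψ B * v = v * (t * Ψ B)) : v ∈ GS hp F L := by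
  refine H120.OZ.step hp hr hc h5 (fun a => ?_) (fun w hw => ?_) hv e
  · have h6 := h.comm (fun b => commute_xr hp (slt hp i) hr h3.1 h3.2.1 h3.2.2 a b)
      (fun b => commute_xr hp (neg_lt hp.inList (slt hp i)) hr h4.1 h4.2.1 h4.2.2 a b) B
    rw [← conj_xr hp ht hr, mul_assoc t, ← h6]
    group
  · have h6 := tconj_mem hp (fun r hr => (h1 r hr).1) ht (h.conj h1 h2 B hw)
    rwa [show t * (Ψ B * w * (Ψ B)⁻¹) * t⁻¹ = t * Ψ B * w * (t * Ψ B)⁻¹ by group] at h6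

variable (hp) [Fintype F] (p : ℕ) [Fact p.Prime] [CharP F p]

theorem two (hM : 0 < M 0 1) : Two M.toCoxeterSystem hp.isCartan p (TT D F) (nc hp F) (XX D 2 F) (fun b => cond b 0 1) :=
  ⟨rgd (K := F) hp _ p, by decide, by decide, by
    rw [eq_top_iff, ← G1_eq_top hp M.toCoxeterSystem (K := F)]
    exact le_sup_right, fun s hs t ht => TT_comm hp hs ht, hM⟩

include hp in
theorem card_X (i : Fin 2) : Nat.card (XX D 2 F (sr i)) = Fintype.card F := by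
  rw [← Nat.card_eq_fintype_card]
  symm
  refine Nat.card_congr (Equiv.ofBijective (fun a : F => (⟨xr hp (D.simple i) a, (mem_X hp i).2 ⟨a, rfl⟩⟩ :
    XX D 2 F (sr i))) ⟨fun a b e => xr_inj hp (slt hp i) (congrArg Subtype.val e), ?_⟩)
  rintro ⟨g, hg⟩
  obtain ⟨a, rfl⟩ := (mem_X hp i).1 hg
  exact ⟨a, rfl⟩

theorem num [Finite M.Group] [Finite ↥(D.group F)] (hM : 0 < M 0 1) {h c : ℕ} (hm : M 0 1 = 2 * h) (h2 : 2 ≤ h)
    (hG : Nat.card ↥(D.group F) = Fintype.card F ^ (2 * h) * c) (hc : ¬ p ∣ c) (h6 : Fintype.card F ^ (2 * h) ≠ 64) :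
    ∃ l, Nonempty ((two (F := F) hp p hM).r2.Num p l) := by
  obtain ⟨a, hpp, ha⟩ := FiniteField.card F p
  have h0 := a.pos
  have e : Fintype.card F ^ (2 * h) = p ^ (h * (a + a)) := by rw [ha, ← pow_mul]; congr 1; ring
  refine R2.exists_num _ (p := p) (h := h) (k := a) (c := c) (fun _ => a) hpp hm h2 (fun _ => h0)
    (fun b => (card_X hp _).trans ha) (Two.isPGroup _) (fun t ht => ha ▸ TT_pow hp ht) h0 (by nlinarith) (by rw [hG, e]) hc ?_
  rintro ⟨h3, h4⟩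
  apply h6
  rw [e, h4, h3]
  norm_num

/-- the elements `t x` -/
theorem unip {t : ↥(D.group F)} (ht : t ∈ TT D F) {r : ℕ} (hr : r < D.nroots) (h : ch hp (vec D 2 r) t = 1) :
    p ∣ orderOf (t * xr hp r 1) ∧ (t * xr hp r 1) ^ Fintype.card F = t := by
  have hc : Commute t (xr hp r 1) := comm_of_ch hp ht hr h 1
  have hq : 1 < Fintype.card F := Fintype.one_lt_card
  constructor
  · have h1 : (t * xr hp r 1) ^ (Fintype.card F - 1) = xr hp r (-1) := by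
      rw [hc.mul_pow, TT_pow hp ht, one_mul, xr_pow', Nat.cast_sub hq.le, Nat.cast_one, Nat.cast_card_eq_zero, zero_sub, mul_one]
    have h2 : orderOf (xr hp r (-1 : F)) = p := orderOf_eq_prime
      (by rw [xr_pow', CharP.cast_eq_zero, zero_mul, xr_zero]) fun e =>
        neg_ne_zero.2 one_ne_zero (xr_inj hp hr (e.trans (xr_zero hp r).symm))
    rw [← h2, ← h1]
    exact orderOf_pow_dvd _
  · rw [hc.mul_pow, xr_pow', Nat.cast_card_eq_zero, zero_mul, xr_zero, mul_one]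
    obtain ⟨k, hk⟩ : ∃ k, Fintype.card F = k + 1 := ⟨_, (Nat.sub_add_cancel hq.le).symm⟩
    have h1 := TT_pow hp ht
    rw [hk, Nat.add_sub_cancel] at h1
    rw [hk, pow_succ, h1, one_mul]

theorem not_dvd_sub {k : ℕ} (hk : 0 < k) : ¬ p ∣ Fintype.card F ^ k - 1 := fun hd => by
  obtain ⟨a, hpp, ha⟩ := FiniteField.card F p
  have h1 : p ∣ Fintype.card F ^ k := (ha ▸ dvd_pow_self p a.ne_zero : p ∣ Fintype.card F).trans (dvd_pow_self _ hk.ne')
  exact hpp.one_lt.ne' (Nat.dvd_one.1 ((Nat.dvd_sub_iff_right (Nat.one_le_pow _ _ Fintype.card_pos) h1).1 hd))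

end Chev

end Cfsg.Agent.VAN.Rk
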