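import Cfsg.Agent.VAN.Iface
import Cfsg.Agent.H956.OZ.Ree
import Cfsg.Agent.H664.R1.U3Iso
import Cfsg.Agent.H664.R1.U3S
import Cfsg.Agent.LieRecognition.SzMatrix

/-!
# S4942, groups of rank one: Suzuki, Ree, `U₃(q)` (helper77)

The three elements are a regular element of the torus, an element of prime order `r` (a primitive prime divisor of
`|U|² - 1`) and a non-trivial unipotent element.
-/

set_option autoImplicit false

namespace Cfsg.Agent.VAN.Rk

open Cfsg Cfsg.Agent.H664.R1 Cfsg.Agent.H956.OZ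

universe u v

/-- `Van3` passes to quotients. -/
theorem van3_of_surj {G : Type u} {H : Type v} [Group G] [Group H] (h : Van3 G) (f : G →* H)
    (hf : Function.Surjective f) : Van3 H := by
  obtain ⟨g₁, g₂, g₃, h⟩ := h
  refine ⟨f g₁, f g₂, f g₃, fun χ hχ h1 => h _ (Characters.Core.isIrr_comp f hf hχ) ?_⟩
  intro h2
  apply h1
  funext x
  obtain ⟨y, rfl⟩ := hf x
  exact congrFun h2 y

/-- non-abelian simple groups are perfect -/
theorem perfect_of_simple {G : Type u} [Group G] [IsSimpleGroup G] (h : ¬ IsMulCommutative G) :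
    commutator G = ⊤ := by
  rcases IsSimpleGroup.eq_bot_or_eq_top_of_normal (commutator G) inferInstance with h1 | h1
  · exfalso
    apply h
    refine ⟨⟨fun a b => ?_⟩⟩
    have h2 := Subgroup.commutator_mem_commutator (Subgroup.mem_top a) (Subgroup.mem_top b)
    rw [← commutator_def, h1, Subgroup.mem_bot] at h2
    exact commutatorElement_eq_one_iff_mul_comm.1 h2
  · exact h1

theorem perfect_of_equiv {G : Type u} {H : Type v} [Group G] [Group H] (h : commutator G = ⊤) (e : G ≃* H) :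
    commutator H = ⊤ := by
  have h1 := Subgroup.map_commutator (⊤ : Subgroup G) ⊤ e.toMonoidHom
  rw [← commutator_def, h, Subgroup.map_top_of_surjective _ e.surjective] at h1
  exact h1.symm

/-- a character whose degree contains the full `r`-part of the order vanishes on the `r`-singular elements -/
theorem zero_of_dvd {G : Type u} [Group G] [Finite G] {χ : G → ℂ} (hχ : IsIrrCharacter G χ) {d r : ℕ}
    (hr : r.Prime) (hd : χ 1 = d) (h : ∀ c, r ^ c ∣ Nat.card G → r ^ c ∣ d) {g : G} (hg : r ∣ orderOf g) :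
    χ g = 0 := by
  obtain ⟨c, b, hrb, hcb⟩ := Nat.exists_eq_pow_mul_and_not_dvd (n := Nat.card G) Nat.card_pos.ne' r hr.ne_one
  refine H732.VZ.zero_of_defect hr hcb hrb ⟨χ, hχ⟩ ?_ hg
  have h1 : charDegree χ = d := by
    have h2 := H686.CharKit.charDegree_irr ⟨χ, hχ⟩
    have h3 : (charDegree χ : ℂ) = d := h2.trans hd
    exact_mod_cast h3
  show r ^ c ∣ charDegree χ
  rw [h1]
  exact h c (by rw [hcb]; exact Dvd.intro _ rfl)

/-- **Rank one.** -/
theorem van3_of_split {G : Type u} [Group G] [Finite G] (D : Split G) (hperf : commutator G = ⊤) {p v r : ℕ}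
    (hp : p.Prime) (hv : v ≠ 0) (hU : Nat.card D.U = p ^ v) {t : G} (ht : t ∈ D.B)
    (hreg : ∀ u ∈ D.U, u * t = t * u → u = 1) (hr : r.Prime) (hr2 : r ≠ 2) (hrd : r ∣ p ^ v + 1)
    (hrT : ¬ r ∣ Nat.card D.T) (hrk : ∀ k, 0 < k → k < v → ¬ r ∣ p ^ k + 1) : Van3 G := by
  classical
  have := Fintype.ofFinite G
  have : Fintype D.U := Fintype.ofFinite _
  have hrf : Fact r.Prime := ⟨hr⟩
  have hrU : ¬ r ∣ p ^ v := by
    intro h1
    exact hr.one_lt.ne' (Nat.dvd_one.1 ((Nat.dvd_add_right h1).1 hrd))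
  have hrB : ¬ r ∣ Nat.card D.B := by
    rw [D.card_B, hU]
    intro h1
    rcases hr.dvd_mul.1 h1 with h2 | h2
    · exact hrU h2
    · exact hrT h2
  have hcG : Nat.card G = (p ^ v + 1) * Nat.card D.B := by rw [D.card_G, hU]
  obtain ⟨z, hz⟩ := exists_prime_orderOf_dvd_card' (G := G) r (by rw [hcG]; exact hrd.mul_right _)
  have hnt : Nontrivial D.U := by
    rw [← Finite.one_lt_card_iff_nontrivial, hU]
    exact Nat.one_lt_pow hv hp.one_lt
  obtain ⟨y, hy⟩ := exists_ne (1 : D.U)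
  have hy1 : (y : G) ≠ 1 := fun h => hy (Subtype.ext h)
  refine ⟨t, z, y, fun χ hχ hne1 => ?_⟩
  rcases R1.cases D hχ with h0 | ⟨f, hf⟩ | h1 | hst | ⟨f, χ', d, d', -, -, -, hχ', hne, hne', hd, hd', hdd, hdv, hdv'⟩
  · exact Or.inl (R1.cusp_zero hχ h0 (fun u hu => D.nU _ ht u hu) hreg)
  · refine Or.inr (Or.inl ?_)
    rw [hf]
    apply R1.ps_zero
    apply Ree.not_mem_of_coprime
    · rw [hz]; exact hr.ne_one
    · rw [hz]; exact (Nat.Prime.coprime_iff_not_dvd hr).2 hrB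
  · exact absurd h1 hne1
  · refine Or.inr (Or.inr ?_)
    have h1 := D.ps_U 1 (fun _ _ => rfl) y.2 hy1
    rw [hst, Pi.add_apply, Pi.one_apply] at h1
    linear_combination h1
  · refine Or.inr (Or.inl ?_)
    have hd1 : d ≠ 1 := fun h1 => hne (Ree.eq_one_of_perfect hperf hχ (by rw [hd, h1, Nat.cast_one]))
    have hd1' : d' ≠ 1 := fun h1 => hne' (Ree.eq_one_of_perfect hperf hχ' (by rw [hd', h1, Nat.cast_one]))
    refine zero_of_dvd hχ hr hd (fun c hc => ?_) (by rw [hz])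
    have hrc : r ^ c ∣ p ^ v + 1 := by
      rw [hcG] at hc
      exact (Nat.Coprime.pow_left c ((Nat.Prime.coprime_iff_not_dvd hr).2 hrB)).dvd_of_dvd_mul_right hc
    exact (R1.arith hp hr hr2 hrk (by rw [← hU]; exact hdv) (by rw [← hU]; exact hdv')
      (by rw [← hU]; exact hdd) hd1 hd1' hrc).1

/-- a primitive prime divisor of `p ^ (2 v) - 1` -/
theorem exists_r {p v : ℕ} (hp : 2 ≤ p) (hv : 2 ≤ v) (h6 : ¬ (p = 2 ∧ v = 3)) :
    ∃ r : ℕ, r.Prime ∧ r ≠ 2 ∧ r ∣ p ^ v + 1 ∧ (∀ k, 0 < k → k < 2 * v → ¬ r ∣ p ^ k - 1) ∧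
      ∀ k, 0 < k → k < v → ¬ r ∣ p ^ k + 1 := by
  obtain ⟨r, hr, h1, h2, -⟩ := Cfsg.Agent.Lib.Zsigmondy.exists_primitive (a := p) (n := 2 * v) hp (by omega)
    (by omega) (by omega)
  have hr1 : 2 * v ≤ r - 1 := Nat.le_of_dvd (by have := hr.two_le; omega) h2
  have e : ∀ k, p ^ (2 * k) - 1 = (p ^ k + 1) * (p ^ k - 1) := by
    intro k
    rw [two_mul, pow_add]
    have := Nat.mul_self_sub_mul_self_eq (p ^ k) 1
    simpa using this
  have h4 : ∀ k, 0 < k → k < 2 * v → ¬ r ∣ p ^ k - 1 := by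
    intro k hk hk2 hd
    have h6 := Nat.le_of_dvd hk ((h1 _).1 hd)
    omega
  refine ⟨r, hr, by omega, ?_, h4, ?_⟩
  · have h5 : r ∣ p ^ (2 * v) - 1 := (h1 _).2 dvd_rfl
    rw [e] at h5
    rcases (hr.dvd_mul).1 h5 with h6 | h6
    · exact h6
    · exact absurd h6 (h4 v (by omega) (by omega))
  · intro k hk hk2 hd
    refine h4 (2 * k) (by omega) (by omega) ?_
    rw [e]
    exact hd.mul_right _

/-- a generator of the multiplicative group -/
theorem exists_unit_pow_ne {K : Type*} [Field K] [Fintype K] {n : ℕ} (hn : 0 < n) (h : n < Fintype.card K - 1) :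
    ∃ a : Kˣ, a ^ n ≠ 1 := by
  obtain ⟨a, ha⟩ := IsCyclic.exists_generator (α := Kˣ)
  have hao : orderOf a = Fintype.card K - 1 := by
    rw [orderOf_eq_card_of_forall_mem_zpowers ha, Nat.card_units, Nat.card_eq_fintype_card]
  refine ⟨a, fun h1 => ?_⟩
  have := Nat.le_of_dvd hn (orderOf_dvd_of_pow_eq_one h1)
  omega

/-! ### The small Ree groups -/

theorem van3_ree {K : Type*} [Field K] [Fintype K] {m : ℕ} (hm : 1 ≤ m) (hK : Fintype.card K = 3 ^ (2 * m + 1)) :
    Van3 ↥(Cfsg.Lie.twistedG2 K (3 ^ m)) := by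
  obtain ⟨U, h, n, D⟩ := Cfsg.Agent.ChevalleyStructure.Ree.Data.exists_data hK
  have : Finite ↥(Cfsg.Lie.twistedG2 K (3 ^ m)) := inferInstance
  obtain ⟨r, hr, hr2, hrd, hrm, hrk⟩ := exists_r (p := 3) (v := 3 * (2 * m + 1)) (by norm_num) (by omega) (by omega)
  have h27 : 3 ^ 3 ≤ 3 ^ (2 * m + 1) := Nat.pow_le_pow_right (by norm_num) (by omega)
  obtain ⟨a, ha⟩ := exists_unit_pow_ne (K := K) (n := 2) (by norm_num) (by rw [hK]; omega)
  refine van3_of_split (Ree.spl D) (Cfsg.Agent.S1116.result hK hm) Nat.prime_three (v := 3 * (2 * m + 1)) (by omega)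
    ?_ (Cfsg.Agent.LieRecognition.ReeSplit.h_mem_bSub D a) (Ree.reg D hK (by rwa [pow_two] at ha)) hr hr2 hrd ?_ hrk
  · have h1 : Nat.card (Ree.spl D).U = Fintype.card K ^ 3 := Cfsg.Agent.LieRecognition.ReeSylowThree.card_uSub D
    rw [h1, hK, ← pow_mul, mul_comm]
  · have h1 : Nat.card (Ree.spl D).T = Fintype.card K - 1 := Cfsg.Agent.H71.ReeOut.card_hSub D
    rw [h1, hK]
    exact hrm _ (by omega) (by omega)

/-- **The row of the small Ree groups.** -/
theorem row_ree : Row.{u} (fun G _ => Lie.IsoRee G) := by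
  rintro G _ _ _ _ ⟨K, _, _, m, hm, hK, ⟨e⟩⟩
  exact (van3_ree hm hK).of_equiv e.symm

/-! ### The Suzuki groups -/

section Sz

open Cfsg.Agent.LieRecognition.SzMatrix

variable {F : Type*} [Field F] {θ : F →+* F} {e : ℕ}

/-- the diagonal subgroup of the Suzuki group -/
def szT (H : Good F θ e) : Subgroup ↥(Cfsg.Lie.Sz F e) := (MonoidHom.mk' H.d fun k l => (H.d_mul k l).symm).range

theorem mem_szT (H : Good F θ e) {g : ↥(Cfsg.Lie.Sz F e)} : g ∈ szT H ↔ ∃ k, H.d k = g := Iff.rfl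

theorem card_szT [Finite F] (H : Good F θ e) : Nat.card (szT H) = Nat.card F - 1 := by
  rw [← Nat.card_units]
  exact (Nat.card_congr (MonoidHom.ofInjective
    (f := MonoidHom.mk' H.d fun k l => (H.d_mul k l).symm) (fun _ _ h => H.d_inj h)).toEquiv).symm

theorem sz_w_conj (H : Good F θ e) (k : Fˣ) : H.w * H.d k * H.w = H.d k⁻¹ := by
  rw [H.w_mul_d, mul_assoc, H.w_mul_w, mul_one]

/-- the split BN pair of rank one of the Suzuki groups -/
def szSplit (H : Good F θ e) : Split ↥(Cfsg.Lie.Sz F e) where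
  B := H.borel
  U := H.unip
  T := szT H
  w := H.w
  UB := H.unip_le_borel
  TB := by
    rintro _ ⟨k, rfl⟩
    exact H.d_mem_borel k
  nU := fun b hb u hu => H.borel_normalizes b hb u hu
  dec := by
    intro b hb
    obtain ⟨x, y, k, rfl⟩ := (H.mem_borel_iff' b).1 hb
    exact ⟨_, H.u_mem_unip x y, _, ⟨k, rfl⟩, rfl⟩
  disj := by
    intro u hu ht
    obtain ⟨x, y, rfl⟩ := (H.mem_unip_iff u).1 hu
    obtain ⟨k, hk⟩ := (mem_szT H).1 ht
    have h1 : H.u x y * H.d 1 = H.u 0 0 * H.d k := by rw [H.d_one, mul_one, H.u_zero, one_mul, hk]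
    obtain ⟨rfl, rfl, -⟩ := H.u_mul_d_inj h1
    exact H.u_zero
  comm := by
    intro s hs t ht
    obtain ⟨k, rfl⟩ := (mem_szT H).1 hs
    obtain ⟨l, rfl⟩ := (mem_szT H).1 ht
    rw [H.d_mul, H.d_mul, mul_comm]
  wT := by
    intro t ht
    obtain ⟨k, rfl⟩ := (mem_szT H).1 ht
    rw [H.w_inv, sz_w_conj]
    exact ⟨k⁻¹, rfl⟩
  wT' := by
    intro t ht
    obtain ⟨k, rfl⟩ := (mem_szT H).1 ht
    rw [H.w_inv, sz_w_conj]
    exact ⟨k⁻¹, rfl⟩
  cap := by
    intro b hb hb'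
    obtain ⟨x, y, k, rfl⟩ := (H.mem_borel_iff' b).1 hb
    have h1 : (H.w)⁻¹ * H.u x y * H.w ∈ H.borel := by
      have h2 : (H.w)⁻¹ * H.u x y * H.w = (H.w)⁻¹ * (H.u x y * H.d k) * H.w * (H.w * H.d k * H.w)⁻¹ := by
        rw [← H.w_inv]
        simp only [inv_inv]
        rw [H.w_inv]
        have h3 := H.w_mul_w
        calc H.w * H.u x y * H.w = H.w * (H.u x y * H.d k) * (H.d k)⁻¹ * H.w := by group
          _ = H.w * (H.u x y * H.d k) * (H.w * H.w) * (H.d k)⁻¹ * H.w := by rw [h3, mul_one]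
          _ = H.w * (H.u x y * H.d k) * H.w * (H.w⁻¹ * H.d k * H.w⁻¹)⁻¹ := by group
          _ = _ := by rw [H.w_inv]
      rw [h2, sz_w_conj]
      exact H.borel.mul_mem hb' (H.borel.inv_mem (H.d_mem_borel _))
    rw [H.inter_trivial _ (H.u_mem_unip x y) h1, one_mul]
    exact ⟨k, rfl⟩
  big := by
    intro x hx
    obtain ⟨s, hs, h⟩ := H.bruhat_sz x hx
    exact ⟨s, H.unip_le_borel hs, _, h, by group⟩
  wB := H.w_not_mem_borel

/-- every non-trivial diagonal element is regular -/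
theorem sz_reg (H : Good F θ e) {k : Fˣ} (hk : k ≠ 1) : ∀ u ∈ H.unip, u * H.d k = H.d k * u → u = 1 := by
  intro u hu hc
  obtain ⟨x, y, rfl⟩ := (H.mem_unip_iff u).1 hu
  rw [H.d_mul_u] at hc
  obtain ⟨h1, h2, -⟩ := H.u_mul_d_inj hc
  have hθ : θ (k : F) ≠ 0 := theta_ne_zero θ k
  have hk1 : (k : F) ≠ 1 := fun h => hk (Units.ext h)
  have h3 : θ (k : F) ≠ 1 := by
    intro h
    apply hk1
    apply θ.injective
    rw [h, map_one]
  have h4 : (k : F) ^ 2 ≠ θ k := by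
    intro h
    apply hk1
    have h6 : θ (k : F) = k := by
      apply θ.injective
      rw [H.sq, ← h]
    rw [h6] at h
    have h7 : (k : F) * (k - 1) = 0 := by linear_combination h
    rcases mul_eq_zero.1 h7 with h8 | h8
    · exact absurd h8 k.ne_zero
    · exact sub_eq_zero.1 h8
  have hx : x = 0 := by
    by_contra hx
    apply h4
    field_simp at h1
    exact h1.symm
  have hy : y = 0 := by
    by_contra hy
    apply h3
    have : y * θ k = y * 1 := by rw [mul_one]; exact h2.symm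
    exact mul_left_cancel₀ hy this
  rw [hx, hy, H.u_zero]

theorem van3_sz [Fintype F] {m : ℕ} (hm : 1 ≤ m) (hF : Fintype.card F = 2 ^ (2 * m + 1))
    (hperf : commutator ↥(Cfsg.Lie.Sz F (2 ^ (m + 1))) = ⊤) : Van3 ↥(Cfsg.Lie.Sz F (2 ^ (m + 1))) := by
  have H := good hF
  have : Finite ↥(Cfsg.Lie.Sz F (2 ^ (m + 1))) := inferInstance
  obtain ⟨r, hr, hr2, hrd, hrm, hrk⟩ := exists_r (p := 2) (v := 2 * (2 * m + 1)) (by norm_num) (by omega) (by omega)
  have h8 : 2 ^ 3 ≤ 2 ^ (2 * m + 1) := Nat.pow_le_pow_right (by norm_num) (by omega)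
  obtain ⟨a, ha⟩ := exists_unit_pow_ne (K := F) (n := 1) (by norm_num) (by rw [hF]; omega)
  rw [pow_one] at ha
  refine van3_of_split (szSplit H) hperf Nat.prime_two (v := 2 * (2 * m + 1)) (by omega)
    ?_ (H.d_mem_borel a) (sz_reg H ha) hr hr2 hrd ?_ hrk
  · have h1 : Nat.card (szSplit H).U = Nat.card F ^ 2 := H.card_unip
    rw [h1, Nat.card_eq_fintype_card, hF, ← pow_mul, mul_comm]
  · have h1 : Nat.card (szSplit H).T = Nat.card F - 1 := card_szT H
    rw [h1, Nat.card_eq_fintype_card, hF]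
    exact hrm _ (by omega) (by omega)

/-- **The row of the Suzuki groups.** -/
theorem row_sz : Row.{u} (fun G _ => Lie.IsoSuzuki G) := by
  rintro G _ _ _ hna ⟨F, _, _, m, hm, hF, ⟨e⟩⟩
  exact (van3_sz hm hF (perfect_of_equiv (perfect_of_simple hna) e)).of_equiv e.symm

end Sz

/-! ### The unitary groups in dimension three -/

section U3

open Cfsg.Agent.H664.R1.U3

variable {F : Type*} [Field F] {σ : F →+* F} [hσ : Fact (∀ x, σ (σ x) = x)]

theorem u3_reg [Fintype F] {t : F} (ht : t ≠ 0) (h1 : t * σ t ≠ 1) :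
    ∀ u ∈ (spS σ).U, u * (⟨pr σ (dg t (σ t / t) ht (dgS_rel ht)), ⟨_, dgS_mem t ht _, rfl⟩⟩ : S σ) =
      ⟨pr σ (dg t (σ t / t) ht (dgS_rel ht)), ⟨_, dgS_mem t ht _, rfl⟩⟩ * u → u = 1 := by
  rintro ⟨_, hS⟩ ⟨u, hu, rfl⟩ hc
  obtain ⟨a, b, h, rfl⟩ := exists_un hu
  set z := dg t (σ t / t) ht (dgS_rel ht) with hz
  have h2 : pr σ (un a b h) * pr σ z = pr σ z * pr σ (un a b h) := congrArg Subtype.val hc
  have h3 : (z * un a b h * z⁻¹)⁻¹ * un a b h ∈ Sc σ := by
    apply QuotientGroup.eq.1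
    show pr σ (z * un a b h * z⁻¹) = pr σ (un a b h)
    rw [map_mul, map_mul, map_inv, ← h2, mul_inv_cancel_right]
  have h4 := dg_conj_un t (σ t / t) ht (dgS_rel ht) a b h (conj_rel (dgS_rel ht) h)
  rw [← hz] at h4
  have h5 := Un_disj ((Un σ).mul_mem ((Un σ).inv_mem (by rw [h4]; exact un_mem _ _ _)) (un_mem a b h)) h3
  rw [inv_mul_eq_one, h4] at h5
  have h6 := congrArg (mat σ) h5
  rw [mat_un, mat_un] at h6
  have h7 : t * σ (σ t / t) * a = a := congrFun (congrFun h6 0) 1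
  have h8 : t * σ t * b = b := congrFun (congrFun h6 0) 2
  have h0 : σ t ≠ 0 := (map_ne_zero σ).2 ht
  have ha : a = 0 := by
    by_contra ha
    apply h1
    have h9 : t * σ (σ t / t) = 1 := mul_right_cancel₀ ha (by rw [one_mul]; exact h7)
    rw [map_div₀, hσ.out] at h9
    field_simp at h9
    have h10 := congrArg σ h9
    rw [map_pow, hσ.out] at h10
    have h11 : t * (t * σ t - 1) = 0 := by linear_combination (σ t) * h9 + h10
    rcases mul_eq_zero.1 h11 with h12 | h12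
    · exact absurd h12 ht
    · exact sub_eq_zero.1 h12
  have hb : b = 0 := by
    by_contra hb
    exact h1 (mul_right_cancel₀ hb (by rw [one_mul]; exact h8))
  apply Subtype.ext
  show pr σ (un a b h) = 1
  have h9 : un a b h = 1 := by
    apply mat_inj
    rw [mat_un, mat_one, ha, hb, map_zero, neg_zero]
    exact Matrix.one_fin_three.symm
  rw [h9, map_one]

/-- `U₃(q)`, `q ≥ 3` -/
theorem van3_psu3 {F : Type*} [Field F] [Fintype F] {q : ℕ} (hF : Fintype.card F = q ^ 2) (hq : q ≠ 2)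
    (hperf : commutator (Cfsg.PSU 3 F q) = ⊤) : Van3 (Cfsg.PSU 3 F q) := by
  obtain ⟨σ, hσ, hs, ⟨e⟩⟩ := exists_iso hF
  refine Van3.of_equiv ?_ e.symm
  have : Finite (PG σ) := inferInstance
  obtain ⟨p, k, hp, -, hpk, hk⟩ := Cfsg.Agent.LieClassical.HermBasic.exists_prime_pow hF
  have hq3 : 3 ≤ q := by
    have h1 : 1 < p ^ k := Nat.one_lt_pow hk.ne' hp.one_lt
    omega
  obtain ⟨r, hr, hr2, hrd, hrm, hrk⟩ := exists_r (p := p) (v := 3 * k) hp.two_le (by omega) (by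
    rintro ⟨rfl, h1⟩
    have h2 : k = 1 := by omega
    rw [h2] at hpk
    exact hq hpk)
  obtain ⟨a, ha⟩ := exists_unit_pow_ne (K := F) (n := q + 1) (by omega) (by
    rw [hF]
    have : q + 1 + 1 < q ^ 2 := by nlinarith
    omega)
  have ha1 : (a : F) * σ a ≠ 1 := by
    intro h1
    apply ha
    apply Units.ext
    rw [Units.val_pow_eq_pow_val, pow_succ', ← hs, h1, Units.val_one]
  refine van3_of_split (spS σ) (perfect_of_equiv hperf e) hp (v := 3 * k) (by omega) ?_ ?_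
    (u3_reg a.ne_zero ha1) hr hr2 hrd ?_ hrk
  · rw [card_US hF hs, hpk, ← pow_mul, mul_comm]
  · exact (spS σ).TB ⟨_, dg_mem _ _ _ _, rfl⟩
  · intro h1
    have h2 := h1.trans (card_TS hF hs)
    rw [hpk, ← pow_mul] at h2
    exact hrm _ (by omega) (by omega) h2

end U3

end Cfsg.Agent.VAN.Rk
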