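import Cfsg.Agent.VAN.Rk.Chev
import Cfsg.Agent.VAN.Lin.UFourTwo
import Cfsg.Agent.S1060
import Cfsg.Agent.S0822
import Cfsg.Agent.S0270

/-!
# S4942: the groups `PSp₄(q)`, `q ≥ 3` (helper77)
-/

set_option autoImplicit false
set_option linter.unusedSectionVars false

namespace Cfsg.Agent.VAN.Rk

open Cfsg CoxeterSystem Cfsg.Agent.ChevalleyStructure.CoxeterGeom Cfsg.Agent.Tits.Roots Cfsg.Agent.Nodes.LeviDec
  Cfsg.Agent.Nodes.RGDChev Cfsg.Agent.KFacts.RgdChevCoord
open Cfsg.Lie Cfsg.Agent.ChevalleyStructure Cfsg.Agent.ChevalleyStructure.CoxeterGeomTypes Cfsg.Agent.H120.OZ Chev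

universe u

theorem isB2 : IsType chevB2 2 (CoxeterMatrix.B 2) := by simp [IsType, typeList]

theorem van3_b2 (F : Type u) [Field F] [Fintype F] (h4 : 4 ≤ Fintype.card F)
    [IsSimpleGroup ↥(chevB2.group F)] : Van3 ↥(chevB2.group F) := by
  classical
  obtain ⟨p, hcp⟩ := CharP.exists F
  have hpp : Fact p.Prime := ⟨CharP.char_is_prime F p⟩
  have hG := S1060.result (F := F) rfl
  have hfin : Finite ↥(chevB2.group F) := Nat.finite_of_card_ne_zero fun h => by
    rw [h, mul_zero] at hG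
    exact mul_ne_zero (mul_ne_zero (pow_ne_zero _ Fintype.card_ne_zero) fun e => not_dvd_sub (F := F) p two_pos (by rw [e]; simp))
      (fun e => not_dvd_sub (F := F) p four_pos (by rw [e]; simp)) hG.symm
  have hW : Finite (CoxeterMatrix.B 2).Group := finite_W isB2 (CoxeterMatrix.B 2).toCoxeterSystem
  obtain ⟨c, hc, hpc⟩ : ∃ c, Nat.card ↥(chevB2.group F) = Fintype.card F ^ (2 * 2) * c ∧ ¬ p ∣ c := by
    obtain ⟨d, hd⟩ : Nat.gcd 2 (Fintype.card F - 1) ∣ Fintype.card F ^ 2 - 1 :=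
      (Nat.gcd_dvd_right _ _).trans (Nat.sub_one_dvd_pow_sub_one _ _)
    refine ⟨d * (Fintype.card F ^ 4 - 1), Nat.eq_of_mul_eq_mul_left (Nat.gcd_pos_of_pos_left (Fintype.card F - 1) two_pos) ?_,
      fun h => ?_⟩
    · rw [hG]
      nth_rewrite 1 [hd]
      ring
    · rcases hpp.out.dvd_mul.1 h with h | h
      · exact not_dvd_sub (F := F) p two_pos (hd ▸ h.mul_left _)
      · exact not_dvd_sub (F := F) p four_pos h
  have hperf : commutator ↥(chevB2.group F) = ⊤ := perfect_of_simple fun h => by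
    let _ : CommGroup ↥(chevB2.group F) := { (inferInstance : Group _) with mul_comm := fun a b => h.is_comm.comm a b }
    have h1 : (Nat.card ↥(chevB2.group F)).Prime := IsSimpleGroup.prime_card
    rw [hc, show 2 * 2 = 1 + 3 from rfl, pow_add, pow_one, mul_assoc] at h1
    refine Nat.not_prime_mul (by omega) (fun e => ?_) h1
    have := Nat.pow_le_pow_left h4 3
    rw [Nat.eq_one_of_mul_eq_one_right e] at this
    omega
  have hM : 0 < CoxeterMatrix.B 2 0 1 := by decide
  obtain ⟨l, ⟨E⟩⟩ := num isB2 p hM (h := 2) (by decide) le_rfl hc hpc (by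
    have := Nat.pow_le_pow_left h4 (2 * 2)
    omega)
  obtain ⟨s, hs⟩ := exists_unit_pow_ne (K := F) two_pos (by omega)
  have hs2 : (s : F) ^ 2 ≠ 1 := fun h => hs (Units.ext h)
  have h0 := s.ne_zero
  obtain ⟨Ψ, hΨ⟩ := exists_ps isB2 F 1
  obtain ⟨B, hB, hB1⟩ := exists_ellip_pow F
  have H := two (F := F) isB2 p hM
  have ht := tt_mem isB2 h0 1 1
  have ht' := tt_mem isB2 h0 1 2
  have hcm := hΨ.comm (comm_of_ch isB2 ht (by decide) (by rw [ch_tt isB2 h0 1 1 (e := 0) (by decide) (by decide), pow_zero]))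
    (comm_of_ch isB2 ht (by decide) (by rw [ch_tt isB2 h0 1 1 (e := 0) (by decide) (by decide), pow_zero]))
  obtain ⟨u1, u2⟩ := unip isB2 p ht' (r := 5) (by decide) (by rw [ch_tt isB2 h0 1 2 (e := 0) (by decide) (by decide), pow_zero])
  refine R2.van3 E hperf false (mul_mem (H.r2.B_le_Par _ (H.r2.TB ht)) (H.co_mem (i := false) hΨ.co B))
    (H.co_ell (i := false) hΨ.co ht hcm hB) (fun v hv h => ?_) u1
    (H.r2.B_le_Par _ (mul_mem (H.r2.TB ht') (H.r2.UB (xr_mem_U isB2 _ (by decide) (by decide) 1)))) fun v hv h => ?_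
  · have h1 := (show Commute _ v from h).pow_left (Fintype.card F + 1)
    rw [(show Commute _ _ from hcm B).mul_pow, ← map_pow, hB1, map_one, mul_one] at h1
    have e : ∀ r < chevB2.nroots, ((1 : ℕ) : ℤ) * chevB2.cartan 0 r + (1 : ℕ) * chevB2.cartan 1 r = (1 : ℕ) →
        ch isB2 (vec chevB2 2 r) (tt isB2 (s : F) 1 1 ^ (Fintype.card F + 1)) ≠ 1 := fun r hr he => by
      rwa [ch_pow isB2 hr ht, ch_tt isB2 h0 1 1 hr he, pow_one, pow_succ, FiniteField.pow_card, ← sq]
    have s0 := VJ_le isB2 _ 1 (L := [5, 6, 7]) (by decide +kernel) hv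
    have s1 := tstep isB2 (by decide) (by decide +kernel) (pow_mem ht _) (e 5 (by decide) (by decide)) s0 h1
    have s2 := tstep isB2 (by decide) (by decide +kernel) (pow_mem ht _) (e 6 (by decide) (by decide)) s1 h1
    have s3 := hΨ.step (by decide) (by decide +kernel) (by decide +kernel) (by decide +kernel) (by decide +kernel)
      (by decide +kernel) ht (by rwa [ch_tt isB2 h0 1 1 (e := 2) (by decide) (by decide)]) B s2 h
    rwa [GS_nil, Subgroup.mem_bot] at s3
  · have h1 := (show Commute _ v from h).pow_left (Fintype.card F)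
    rw [u2] at h1
    have e : ∀ r < chevB2.nroots, ((1 : ℕ) : ℤ) * chevB2.cartan 0 r + (2 : ℕ) * chevB2.cartan 1 r = (2 : ℕ) →
        ch isB2 (vec chevB2 2 r) (tt isB2 (s : F) 1 2) ≠ 1 := fun r hr he => by
      rwa [ch_tt isB2 h0 1 2 hr he]
    have s0 := VJ_le isB2 _ 0 (L := [4, 6, 7]) (by decide +kernel) hv
    have s1 := tstep isB2 (by decide) (by decide +kernel) ht' (e 4 (by decide) (by decide)) s0 h1
    have s2 := tstep isB2 (by decide) (by decide +kernel) ht' (e 6 (by decide) (by decide)) s1 h1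
    have s3 := tstep isB2 (by decide) (by decide +kernel) ht' (e 7 (by decide) (by decide)) s2 h1
    rwa [GS_nil, Subgroup.mem_bot] at s3

/-- **the groups `PSp₄(q)`, `q ≥ 3`** -/
theorem van3_psp4 (F : Type) [Field F] [Fintype F] (h3 : 3 ≤ Fintype.card F) : Van3 (PSp 2 F) := by
  rcases h3.eq_or_lt with h | h
  · obtain ⟨e⟩ := S0822.result (F := SporadicA.FieldFour.F4) (K := F) rfl h.symm
    exact Lin.van3_u42_model.of_equiv e
  · obtain ⟨e⟩ := B2Sp4.chevB2_equiv_PSp F
    have := S0270.result (F := F) 2 le_rfl fun _ => h3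
    have := e.isSimpleGroup
    exact (van3_b2 F h).of_equiv e

end Cfsg.Agent.VAN.Rk
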