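import Cfsg.Agent.VAN.Iface
import Cfsg.Agent.H727.TC.Mid
import Cfsg.Agent.H504.TC.ExcK

/-!
# S4942 from Kawanaka's sum and two isolated primes; the rows `E₆`, `E₇`, `²E₆` (helper77)
-/

set_option autoImplicit false

namespace Cfsg.Agent.VAN.Rk

open Cfsg Cfsg.Agent.H727.TC Cfsg.Agent.H448.Van Cfsg.Agent.H730.OZ Cfsg.Lie

universe u

section abs

variable {G : Type u} [Group G] [Finite G] [IsSimpleGroup G]

/-- the middle characters of `x, y` vanish at the `p`-singular element `g` -/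
theorem van3_of_mid {p : ℕ} (hp : p.Prime) (hK : Kaw p G) (x y : G) {g : G} (hg : p ∣ orderOf g)
    (h : ∀ χ : IrrCharacter G, IsMid p x y χ → (χ : G → ℂ) g = 0) : Van3 G := by
  refine ⟨x, y, g, fun χ hχ hne => ?_⟩
  by_cases hm : IsMid p x y ⟨χ, hχ⟩
  · exact Or.inr (Or.inr (h _ hm))
  · refine zero_of_not_mid hp hK (χ := ⟨χ, hχ⟩) (fun h1 => hne ?_) hm hg
    exact congrArg Subtype.val h1

/-- **Two isolated primes.** -/
theorem van3_of_isol {p : ℕ} (hp : p.Prime) (hpG : p ∣ Nat.card G) (hK : Kaw p G) {r₁ r₂ : ℕ} {x y : G}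
    (hx : Isol G p r₁ x) (hy : Isol G p r₂ y)
    (ha : ∀ (m : ℕ) (e : ℤ), (e = 1 ∨ e = -1) → 0 < m → m < 2 * (Nat.card G).factorization p →
      (r₁ : ℤ) ∣ e * p ^ m - 1 → (r₂ : ℤ) ∣ e * p ^ m - 1 → False) : Van3 G := by
  have : Fact p.Prime := ⟨hp⟩
  obtain ⟨g, hg⟩ := exists_prime_orderOf_dvd_card' (G := G) p hpG
  refine van3_of_mid hp hK x y (g := g) (by rw [hg]) ?_
  rintro χ ⟨h1, h2, m, e, he, hs, hm0, hm⟩
  exact (char_of_isol hp hx hy ha χ h1 h2 m e he hs hm0 hm).elim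

/-- two isolated primes given by their orders -/
theorem van3_of_iso {p : ℕ} (hp : p.Prime) (hK : Kaw p G) {r s D E N : ℕ}
    (hr : H732.VZ.Iso G p r) (hs : H732.VZ.Iso G p s) (hro : orderOf (p : ZMod r) = D) (hso : orderOf (p : ZMod s) = E)
    (hD : 3 ≤ D) (hE : 3 ≤ E) (hN0 : N ≠ 0) (hN : 2 * (Nat.card G).factorization p = N)
    (hmid : ∀ (m : ℕ) (e : ℤ), (e = 1 ∨ e = -1) → 0 < m → m < N → D ∣ 2 * m → E ∣ 2 * m →
      (e = -1 → ¬ D ∣ m ∧ ¬ E ∣ m) → (e = 1 → D ∣ m ∧ E ∣ m) → False) : Van3 G := by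
  have h4 := H504.TC.four_le hr.prime hD hro
  have h5 := H504.TC.four_le hs.prime hE hso
  obtain ⟨x, hx⟩ := Isol.of_iso hr (by omega)
  obtain ⟨y, hy⟩ := Isol.of_iso hs (by omega)
  refine van3_of_isol hp (Nat.dvd_of_factorization_pos (by omega)) hK hx hy fun m e he hm hm2 h6 h7 => ?_
  obtain ⟨a1, a2, a3⟩ := H504.TC.ords' hr.prime hro hD h6 he
  obtain ⟨b1, b2, b3⟩ := H504.TC.ords' hs.prime hso hE h7 he
  exact hmid m e he hm (by omega) a1 b1 (fun h => ⟨a2 h, b2 h⟩) fun h => ⟨a3 h, b3 h⟩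

end abs

/-- **`E₆(q)`** -/
theorem row_e6 : VAN.Row.{u} (fun G _ => Lie.IsoChevE6 G) := by
  rintro G _ _ hs _ ⟨F, i1, i2, ⟨e⟩⟩
  obtain ⟨p, hc⟩ := CharP.exists F
  obtain ⟨a, hp, hF⟩ := FiniteField.card F p
  have : Fact p.Prime := ⟨hp⟩
  have ha := a.pos
  have : IsSimpleGroup ↥(chevE6.group F) := (MulEquiv.isSimpleGroup_congr e).1 hs
  have hK := H279.OZ.kaw_of_hasRGD hp (Nodes.RGDChev.hasRGD_E6 F p)
  obtain ⟨r, hr, hro⟩ := good_E6_9 hp ha hF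
  obtain ⟨s, hs, hso⟩ := good_E6_8 hp ha hF
  refine Van3.of_equiv ?_ e.symm
  refine van3_of_iso hp hK hr.iso hs.iso hro hso (by omega) (by omega) (N := 72 * a) (by omega)
    (by rw [H504.TC.v_E6 hp ha hF]; ring)
    fun m e he hm hm2 h1 h2 h3 h4 => mid_E6 ha hm hm2 (Or.inl rfl) h1 h2 (fun h => (h3 h).1) h4 he

/-- **`E₇(q)`** -/
theorem row_e7 : VAN.Row.{u} (fun G _ => Lie.IsoE7 G) := by
  rintro G _ _ hs _ ⟨F, i1, i2, ⟨e⟩⟩
  obtain ⟨p, hc⟩ := CharP.exists F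
  obtain ⟨a, hp, hF⟩ := FiniteField.card F p
  have : Fact p.Prime := ⟨hp⟩
  have ha := a.pos
  have : IsSimpleGroup ↥(chevE7.group F) := (MulEquiv.isSimpleGroup_congr e).1 hs
  have hK := H279.OZ.kaw_of_hasRGD hp (Nodes.RGDChev.hasRGD_E7 F p)
  obtain ⟨r, hr, hro⟩ := good_E7_7 hp ha hF
  obtain ⟨s, hs, hso⟩ := good_E7_18 hp ha hF
  refine Van3.of_equiv ?_ e.symm
  refine van3_of_iso hp hK hr.iso hs.iso hro hso (by omega) (by omega) (N := 126 * a) (by omega)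
    (by rw [H504.TC.v_E7 hp ha hF]; ring)
    fun m e he hm hm2 h1 h2 h3 h4 => mid_E7 ha hm hm2 h1 h2 (fun h => (h3 h).1) h4 he

/-- **`²E₆(q)`** -/
theorem row_e6t : VAN.Row.{u} (fun G _ => Lie.Iso2E6 G) := by
  rintro G _ _ hs _ ⟨K, i1, i2, q, hq, hF, ⟨e⟩⟩
  obtain ⟨p, hc⟩ := CharP.exists K
  obtain ⟨b, hp, hb⟩ := FiniteField.card K p
  obtain ⟨r, a, hr, ha, rfl⟩ := hq
  have hr' : r.Prime := hr.nat_prime
  have hrp : r = p := by
    have h1 : r ∣ p ^ (b : ℕ) := by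
      rw [← hb, hF]
      exact (dvd_pow_self r ha.ne').trans (dvd_pow_self _ two_ne_zero)
    exact (Nat.prime_dvd_prime_iff_eq hr' hp).1 (hr'.dvd_of_dvd_pow h1)
  subst hrp
  have : Fact r.Prime := ⟨hr'⟩
  have : IsSimpleGroup ↥(twistedE6 K (r ^ a)) := (MulEquiv.isSimpleGroup_congr e).1 hs
  have hK := H279.OZ.kaw_of_hasRGD hp (Nodes.RGDTwE6.hasRGD (hr'.isPrimePow.pow ha.ne') hF r)
  obtain ⟨t, ht, hto⟩ := good_2E6_18 hp ha rfl hF
  obtain ⟨s, hs, hso⟩ := good_2E6_8 hp ha rfl hF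
  refine Van3.of_equiv ?_ e.symm
  refine van3_of_iso hp hK ht.iso hs.iso hto hso (by omega) (by omega) (N := 72 * a) (by omega)
    (by rw [H504.TC.v_2E6 hp ha rfl hF]; ring)
    fun m e he hm hm2 h1 h2 h3 h4 => mid_E6 ha hm hm2 (Or.inr rfl) h1 h2 (fun h => (h3 h).1) h4 he

end Cfsg.Agent.VAN.Rk
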