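import Cfsg.Agent.VAN.Rk.GTwo
import Cfsg.Agent.VAN.Sm.SpSix
import Cfsg.Agent.H954.DR.RowG23
import Cfsg.Agent.H332.PQ.Rgd

/-!
# S4942: the group `G₂(3)` and the row `G₂(q)` (helper77)

The triple consists of elements of orders `7`, `13`, `6`. A character which vanishes at none of them has degree `1`, `6`,
`27` or `162`. The degree `27` is excluded by counting fixed points of `3`-subgroups, the degrees `6` and `162` by the
orthogonality relations for the columns of `7` and `13`.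
-/

set_option autoImplicit false
set_option linter.unusedSectionVars false
set_option maxRecDepth 100000

namespace Cfsg.Agent.VAN.Rk

open Cfsg CoxeterSystem Cfsg.Agent.ChevalleyStructure.CoxeterGeom Cfsg.Agent.Tits.Roots Cfsg.Agent.Nodes.LeviDec
  Cfsg.Agent.Nodes.RGDChev Cfsg.Agent.KFacts.RgdChevCoord
open Cfsg.Lie Cfsg.Agent.ChevalleyStructure Cfsg.Agent.ChevalleyStructure.CoxeterGeomTypes Cfsg.Agent.H120.OZ Chev
open scoped commutatorElement

universe u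

theorem exists_sum_char {G : Type u} [Group G] {χ : G → ℂ} (hχ : IsIrrCharacter G χ) {K : Type} [Group K] [Fintype K]
    (φ : K →* G) : ∃ m : ℕ, ∑ k, χ (φ k) = Fintype.card K * m := by
  obtain ⟨n, ρ, -, rfl⟩ := hχ
  have h0 : (Nat.card K : ℂ) ≠ 0 := Nat.cast_ne_zero.2 Nat.card_pos.ne'
  let _ := invertibleOfNonzero h0
  have h1 := Representation.card_inv_mul_sum_char_eq_finrank (ρ.comp φ)
  exact ⟨_, by rw [← h1, ← Nat.card_eq_fintype_card, ← mul_assoc, mul_inv_cancel₀ h0, one_mul]; rfl⟩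

/-- counting fixed points -/
theorem count_fix {G : Type u} [Group G] {χ : G → ℂ} (hχ : IsIrrCharacter G χ) {A Z W : Type} [Group A] [Group Z] [Group W]
    [Fintype A] [Fintype Z] [Fintype W] (φ : A × Z × W →* G) {d : ℕ} (hd : χ 1 = d)
    (h1 : ∀ y : Z × W, y ≠ 1 → χ (φ (1, y)) = 0) (h2 : ∀ a z w, a ≠ 1 → χ (φ (a, z, w)) = χ (φ (a, 1, w))) :
    ((Fintype.card A * Fintype.card Z * Fintype.card W : ℕ) : ℤ) ∣ (Fintype.card Z - 1) * d := by
  classical
  obtain ⟨m, hm⟩ := exists_sum_char hχ φ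
  obtain ⟨k, hk⟩ := exists_sum_char hχ (φ.comp ((MonoidHom.id A).prodMap (MonoidHom.inr Z W)))
  rw [Fintype.sum_prod_type, ← Finset.add_sum_erase _ _ (Finset.mem_univ 1)] at hm hk
  rw [Finset.sum_eq_single 1 (fun y _ hy => h1 y hy) (by simp), show ((1 : A), (1 : Z × W)) = 1 from rfl, map_one, hd,
    Finset.sum_congr rfl (g := fun a => Fintype.card Z * ∑ w, χ (φ (a, 1, w))) fun a ha => by
      rw [Fintype.sum_prod_type, Finset.sum_congr rfl fun z _ => Finset.sum_congr rfl fun w _ =>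
        h2 a z w (Finset.ne_of_mem_erase ha), Finset.sum_const, nsmul_eq_mul, Finset.card_univ], ← Finset.mul_sum] at hm
  have hk' : ∑ w, χ (φ (1, 1, w)) + ∑ a ∈ Finset.univ.erase 1, ∑ w, χ (φ (a, 1, w)) = _ := hk
  rw [Finset.sum_eq_single 1 (fun w _ hw => h1 (1, w) fun e => hw (congrArg Prod.snd e)) (by simp),
    show ((1 : A), (1 : Z), (1 : W)) = 1 from rfl, map_one, hd] at hk'
  refine ⟨k - m, ?_⟩
  apply Int.cast_injective (α := ℂ)
  simp only [Fintype.card_prod] at hm hk'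
  push_cast at hm hk' ⊢
  linear_combination (Fintype.card Z : ℂ) * hk' - hm

namespace GTwo

variable {F : Type} [Field F] [Fintype F]

/-- the root groups as homomorphisms -/
noncomputable def xh (F : Type) [Field F] (r : ℕ) : Multiplicative F →* ↥(chevG2.group F) :=
  MonoidHom.mk' (fun a => xr tyG2 r a.toAdd) fun a b => by rw [toAdd_mul, xr_add]

theorem comm3 [CharP F 3] {r s : ℕ} (h : r = s ∨ (r < chevG2.nroots ∧ s < chevG2.nroots ∧ s ≠ r ∧ s ≠ chevG2.neg r ∧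
    ∀ c ∈ chevG2.commTerms r s, (3 : ℤ) ∣ c.2.1)) (a b : F) : Commute (xr tyG2 s a) (xr tyG2 r b) := by
  rcases h with rfl | ⟨h1, h2, h3, h4, h5⟩
  · show _ * _ = _ * _
    rw [xr_add, xr_add, add_comm]
  · rw [← commutatorElement_eq_one_iff_commute, comm_eq tyG2 h1 h2 h3 h4]
    refine List.prod_eq_one fun x hx => ?_
    obtain ⟨c, hc, rfl⟩ := List.mem_map.1 hx
    rw [(CharP.intCast_eq_zero_iff F 3 _).2 (h5 c hc), zero_mul, zero_mul, xr_zero]

theorem comm87 [CharP F 3] (t s : F) : ⁅xr tyG2 8 t, xr tyG2 7 s⁆ = xr tyG2 9 (2 * t * s) := by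
  rw [comm_eq tyG2 (by decide) (by decide) (by decide) (by decide),
    show chevG2.commTerms 7 8 = [(9, -2, 1, 1), (10, -3, 2, 1), (11, 3, 1, 2)] by decide +kernel]
  simp only [List.map_cons, List.map_nil, List.prod_cons, List.prod_nil]
  rw [(CharP.intCast_eq_zero_iff F 3 (-3)).2 (by norm_num), (CharP.intCast_eq_zero_iff F 3 3).2 (by norm_num)]
  simp only [zero_mul, xr_zero, mul_one]
  congr 1
  push_cast
  ring

theorem two_ne [CharP F 3] : (2 : F) ≠ 0 ∧ (2 : F) ≠ 1 :=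
  ⟨fun h => absurd ((CharP.cast_eq_zero_iff F 3 2).1 (by exact_mod_cast h)) (by norm_num),
    fun h => one_ne_zero (α := F) (by linear_combination h)⟩

theorem card_three (hF : Fintype.card F = 3) : Nat.card ↥(chevG2.group F) = 4245696 := by
  rw [S1059.result hF]
  norm_num

theorem no27 [CharP F 3] (hF : Fintype.card F = 3) {χ : ↥(chevG2.group F) → ℂ} (hχ : IsIrrCharacter _ χ) :
    charDegree χ ≠ 27 := by
  intro hd
  have hfin : Finite ↥(chevG2.group F) := Nat.finite_of_card_ne_zero (by rw [card_three hF]; norm_num)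
  have hW : Finite CoxeterMatrix.G₂.Group := finite_W tyG2 CoxeterMatrix.G₂.toCoxeterSystem
  obtain ⟨hsim, hna⟩ := S1055.result (F := F) ⟨2, two_ne⟩
  have hd1 : χ 1 = (27 : ℕ) := by rw [← hd]; exact (H686.CharKit.charDegree_irr ⟨χ, hχ⟩).symm
  have hcl := Characters.Core.isIrr_isClassFunction hχ
  obtain ⟨Ψ, hΨ⟩ := exists_ps tyG2 F 1
  have hU := H332.PQ.index_U (rgd (K := F) tyG2 CoxeterMatrix.G₂.toCoxeterSystem 3) (G1_eq_top tyG2 _)
  have c9 : ∀ a B, xr tyG2 9 a * Ψ B = Ψ B * xr tyG2 9 a := fun a => hΨ.comm (fun b => comm3 (by decide +kernel) a b)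
    fun b => comm3 (by decide +kernel) a b
  let φ := (xh F 7).noncommCoprod ((xh F 9).noncommCoprod ((xh F 10).noncommCoprod (xh F 11) fun a b => comm3 (by decide +kernel) _ _)
    fun a b => (comm3 (by decide +kernel) _ _).mul_right (comm3 (by decide +kernel) _ _))
    fun a b => (comm3 (by decide +kernel) _ _).mul_right
      ((comm3 (by decide +kernel) _ _).mul_right (comm3 (by decide +kernel) _ _))
  have hφ : ∀ s a b c, φ (s, a, b, c) =
      xr tyG2 7 s.toAdd * (xr tyG2 9 a.toAdd * (xr tyG2 10 b.toAdd * xr tyG2 11 c.toAdd)) := fun _ _ _ _ => rfl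
  have key := count_fix hχ φ hd1 ?_ ?_
  · revert key
    simp only [Fintype.card_prod, Fintype.card_multiplicative, hF]
    decide
  · rintro ⟨a, b, c⟩ hy
    obtain ⟨B, e, hB⟩ := exists_conj hΨ b.toAdd c.toAdd
    have h1 : Ψ B * φ (1, a, b, c) * (Ψ B)⁻¹ = xr tyG2 9 a.toAdd * xr tyG2 11 e := by
      rw [hφ, toAdd_one, xr_zero, one_mul, ← mul_assoc (Ψ B), ← c9, ← hB]
      group
    rw [← hcl _ (Ψ B), h1]
    refine Sm.zero_of_coprime hna hχ (fun h => by rw [h] at hd1; norm_num at hd1) (fun h => hy ?_) ?_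
    · obtain ⟨k, hk, h3⟩ := n_xr (F := F) tyG2 1 (r := 11) (by decide)
      rw [show chevG2.reflectRoot (1 : Fin 2) 11 = 10 by decide +kernel] at h3
      have h4 := c9 a.toAdd (Nodes.RGDFoldSL.wS 1)
      rw [hΨ.co.w, eq_inv_of_mul_eq_one_left h, xr_inv, ← eq_mul_inv_iff_mul_eq, h3] at h4
      have h5 : e = 0 := neg_eq_zero.1 ((mul_eq_zero.1 (inter h4.symm)).resolve_left hk)
      rw [h5, xr_zero, mul_inv_eq_one, mul_eq_left, mul_eq_one_iff_eq_inv, xr_inv] at hB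
      rw [h5, xr_zero, mul_one, ← xr_zero tyG2 9] at h
      have h6 := inter hB
      rw [h6, xr_zero, ← xr_zero tyG2 11] at hB
      have h7 := xr_inj tyG2 (by decide) hB
      have h8 : a.toAdd = 0 := xr_inj tyG2 (by decide) h
      exact Prod.ext h8 (Prod.ext h6 (neg_eq_zero.1 h7.symm))
    · rw [hd, show 27 = 3 ^ 3 from rfl]
      refine Nat.Coprime.pow_right _ (Nat.Coprime.symm ((Nat.Prime.coprime_iff_not_dvd Nat.prime_three).2 fun h => hU
        (h.trans (Subgroup.index_dvd_of_le fun u hu => ?_))))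
      refine Subgroup.mem_centralizer_singleton_iff.2 (comm_of_GS tyG2 (L := [6, 7, 8, 9, 10, 11]) (fun r hr x => ?_)
        (U_le tyG2 _ (by decide +kernel) hu))
      have h3 : ∀ r ∈ [6, 7, 8, 9, 10, 11], 9 = r ∨ (9 < chevG2.nroots ∧ r < chevG2.nroots ∧ r ≠ 9 ∧ r ≠ chevG2.neg 9 ∧
        ∀ c ∈ chevG2.commTerms 9 r, (3 : ℤ) ∣ c.2.1) := by decide +kernel
      exact (comm3 (h3 r hr) _ _).mul_right (comm11 hr _ _)
  · rintro s a ⟨b, c⟩ hs
    obtain ⟨t, ht⟩ : ∃ t : F, 2 * t * s.toAdd = a.toAdd :=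
      ⟨a.toAdd / (2 * s.toAdd), by rw [mul_right_comm, mul_div_cancel₀ _ (mul_ne_zero two_ne.1 hs)]⟩
    rw [← hcl (φ (s, 1, b, c)) (xr tyG2 8 t), hφ, hφ, toAdd_one, xr_zero, one_mul, ← mul_assoc (xr tyG2 7 _),
      (comm3 (r := 9) (s := 7) (by decide +kernel) _ _).eq, ← ht, ← comm87, commutatorElement_def]
    have h3 : Commute (xr tyG2 8 t) (xr tyG2 10 b.toAdd * xr tyG2 11 c.toAdd) :=
      (comm3 (by decide +kernel) _ _).mul_right (comm3 (by decide +kernel) _ _)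
    congr 1
    rw [mul_assoc (xr tyG2 8 t) (_ * _), mul_assoc (xr tyG2 7 _) (_ * _), ← h3.inv_left.eq]
    group

open Cfsg.Agent.H653.Sys Cfsg.Agent.H653.Sieve Cfsg.Agent.H954.DR.RowG2

/-- at most `n` characters of degree `d` -/
def cle (d : ℕ) (n : ℤ) : Cond := ⟨fun x => Nat.beq x d, n, false, true⟩

/-- at least `n` characters of degree `d` -/
def cge (d : ℕ) (n : ℤ) : Cond := ⟨fun x => Nat.beq x d, n, true, false⟩

theorem degs : ∀ i ≤ 6, ∀ j ≤ 6, allV (Ds.map PD.fam) (2 ^ i * 3 ^ j) (fun _ => false) = false → ¬ 2 ^ 6 ∣ 2 ^ i * 3 ^ j →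
      ¬ 3 ^ 6 ∣ 2 ^ i * 3 ^ j → 2 ^ i * 3 ^ j = 1 ∨ 2 ^ i * 3 ^ j = 27 ∨ 2 ^ i * 3 ^ j = 6 ∨ 2 ^ i * 3 ^ j = 162 := by
  intro i hi j hj
  interval_cases i <;> interval_cases j <;> decide +kernel

theorem van3_three (hF : Fintype.card F = 3) : Van3 ↥(chevG2.group F) := by
  classical
  have : CharP F 3 := charP_of_card_eq_prime hF
  have hfin : Finite ↥(chevG2.group F) := Nat.finite_of_card_ne_zero (by rw [card_three hF]; norm_num)
  have hirr := Characters.Core.finite_irr (G := ↥(chevG2.group F))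
  have := Fintype.ofFinite (IrrCharacter ↥(chevG2.group F))
  obtain ⟨hs, -⟩ := S1055.result (F := F) ⟨2, two_ne⟩
  obtain ⟨d₁, -, -, h1, -, -, m1, -, -⟩ := H954.DR.RowG2.unip (K := F)
  have hst := st_mem (K := F)
  rw [hF] at h1 hst
  obtain rfl : d₁ = 104 := by omega
  have c13 := cent_of_hasT (by norm_num) (H719.hasT_G2_3 (F := F) (q := 3) (N := 13) (Phi := 13) hF
    (by norm_num) (by norm_num))
  have c7 := cent_of_hasT (by norm_num) (H719.hasT_G2_6 (F := F) (q := 3) (N := 7) (Phi := 7) hF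
    (by norm_num) (by norm_num))
  have C : ∀ Cs : List Cond, List.Forall (fun c => c.Holds ↥(chevG2.group F)) Cs →
      Ctx ↥(chevG2.group F) (fun g => orderOf g) 4245696 L (Ds.map PD.fam) Cs := fun Cs h =>
    ctx_of_primes (card_three hF) (by norm_num) (by decide +kernel) (by decide +kernel) (by decide +kernel)
      (List.forall_iff_forall_mem.1 ⟨c7, c13⟩) (List.forall_iff_forall_mem.1 h)
  have no : ∀ Cs a cs ms, List.Forall (fun c => c.Holds ↥(chevG2.group F)) Cs →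
      H653.Sys.chk 4245696 L (Ds.map PD.fam) Cs [] a cs ms = true → False := fun Cs a cs ms h h' => by
    obtain ⟨m, hm, -⟩ := (C Cs h).cl [] a cs ms h'
    simp at hm
  have dich : ∀ d n, (cle d n).Holds ↥(chevG2.group F) ∨ (cge d (n + 1)).Holds ↥(chevG2.group F) := fun d n =>
    (le_or_gt (num ↥(chevG2.group F) fun x => Nat.beq x d) n).imp (fun h => ⟨fun e => by simp [cle] at e, fun _ => h⟩)
      fun h => ⟨fun _ => h, fun e => by simp [cge] at e⟩
  have a27 : (cle 27 0).Holds ↥(chevG2.group F) := ⟨fun e => by simp [cle] at e, fun _ =>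
    (Finset.sum_eq_zero fun χ _ => by
      have h2 : Nat.beq (deg χ) 27 = false := Bool.eq_false_iff.2 fun e => no27 hF χ.2 (Nat.eq_of_beq_eq_true e)
      show cond (Nat.beq (deg χ) 27) _ _ = _
      rw [h2, cond_false]).le⟩
  have a729 := condEq_holds hst
  have a104 := condEq_holds m1
  obtain ⟨x, hx, -⟩ := c7
  obtain ⟨y, hy, -⟩ := c13
  have h2 : (2 : F) ≠ 0 := two_ne.1
  have ht := tt_mem tyG2 h2 1 2
  obtain ⟨u1, u2⟩ := Chev.unip tyG2 3 ht (r := 7) (by decide) (by rw [ch_tt tyG2 h2 1 2 (e := 0) (by decide) (by decide), pow_zero])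
  have u3 : 2 ∣ orderOf (tt tyG2 (2 : F) 1 2 * xr tyG2 7 1) := by
    have h3 : orderOf (tt tyG2 (2 : F) 1 2) = 2 := orderOf_eq_prime (by have := TT_pow tyG2 ht; rwa [hF] at this) fun e => by
      have h4 := ch_tt tyG2 h2 1 2 (r := 6) (e := 1) (by decide) (by decide)
      rw [e, ch_one tyG2 (by decide), pow_one] at h4
      exact two_ne.2 h4.symm
    have h5 := orderOf_pow_dvd (x := tt tyG2 (2 : F) 1 2 * xr tyG2 7 1) (Fintype.card F)
    rwa [u2, h3] at h5
  refine ⟨x, y, tt tyG2 (2 : F) 1 2 * xr tyG2 7 1, fun χ hχ hχ1 => ?_⟩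
  obtain ⟨d, hd⟩ : ∃ d, deg ⟨χ, hχ⟩ = d := ⟨_, rfl⟩
  have hd1 : χ 1 = d := by rw [← hd]; exact (H686.CharKit.charDegree_irr ⟨χ, hχ⟩).symm
  have z : ∀ r k : ℕ, r.Prime → ¬ r ^ (k + 1) ∣ 4245696 → r ^ k ∣ d → ∀ g, r ∣ orderOf g → χ g = 0 := fun r k hr hk h g hg =>
    zero_of_dvd hχ hr hd1 (fun c hc => (pow_dvd_pow r (by
      by_contra h3
      exact hk ((pow_dvd_pow r (by omega)).trans (card_three hF ▸ hc)))).trans h) hg
  by_cases h7 : 7 ^ 1 ∣ d
  · exact Or.inl (z 7 1 (by norm_num) (by norm_num) h7 x (by rw [hx]))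
  by_cases h13 : 13 ^ 1 ∣ d
  · exact Or.inr (Or.inl (z 13 1 (by norm_num) (by norm_num) h13 y (by rw [hy])))
  by_cases h64 : 2 ^ 6 ∣ d
  · exact Or.inr (Or.inr (z 2 6 (by norm_num) (by norm_num) h64 _ u3))
  by_cases h729 : 3 ^ 6 ∣ d
  · exact Or.inr (Or.inr (z 3 6 (by norm_num) (by norm_num) h729 _ u1))
  exfalso
  have hdv : d ∣ 2 ^ 6 * 3 ^ 6 := by
    have h3 : d ∣ 2 ^ 6 * 3 ^ 6 * 7 ^ 1 * 13 ^ 1 := by
      rw [← hd, show 2 ^ 6 * 3 ^ 6 * 7 ^ 1 * 13 ^ 1 = 4245696 from rfl, ← card_three hF]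
      exact Blocks.Knorr.charDegree_dvd hχ
    exact ((Nat.Prime.coprime_iff_not_dvd (by norm_num)).2 h7).symm.dvd_of_dvd_mul_right
      (((Nat.Prime.coprime_iff_not_dvd (by norm_num)).2 h13).symm.dvd_of_dvd_mul_right h3)
  obtain ⟨a, b, ha, hb, rfl⟩ := (Nat.dvd_mul).1 hdv
  obtain ⟨i, hi, rfl⟩ := (Nat.dvd_prime_pow Nat.prime_two).1 ha
  obtain ⟨j, hj, rfl⟩ := (Nat.dvd_prime_pow Nat.prime_three).1 hb
  obtain ⟨Ws, hWs⟩ := (C [] trivial).sys
  have h3 : allV (Ds.map PD.fam) (2 ^ i * 3 ^ j) (fun _ => false) = false := Bool.eq_false_iff.2 fun e =>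
    Bool.false_ne_true (allV_spec hWs ⟨χ, hχ⟩ (k := fun _ => false) (hd ▸ e))
  rcases degs i hi j hj h3 h64 h729 with h | h | h | h
  · exact hχ1 ((C [] trivial).one ⟨χ, hχ⟩ (hd.trans h))
  · exact no27 hF hχ (hd.trans h)
  · exact no [condEq 729, condEq 104, condEq 6, cle 27 0] 0 [⟨1, 832, 0, [448]⟩, ⟨0, 0, 0, []⟩] [-2457, -728, -1274, 91]
      ⟨a729, a104, condEq_holds ⟨⟨χ, hχ⟩, hd.trans h⟩, a27⟩ (by decide +kernel)
  have a162 := condEq_holds ⟨⟨χ, hχ⟩, hd.trans h⟩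
  rcases dich 1728 0 with b1 | b1
  · rcases dich 64 1 with b2 | b2
    · exact no [condEq 729, condEq 104, condEq 162, cle 27 0, cle 64 1] 0 [⟨1, 832, 0, [994]⟩, ⟨0, 0, 0, []⟩]
        [-3549, -728, 0, 1183, 1092] ⟨a729, a104, a162, a27, b2⟩ (by decide +kernel)
    · exact no [condEq 104, condEq 162, cge 64 (1 + 1), cle 1728 0] 0 [⟨10, 8320, 0, [-8702]⟩, ⟨1, 84, 364, []⟩]
        [-7280, -18928, -26572, 29484] ⟨a104, a162, b2, b1⟩ (by decide +kernel)
  · exact no [condEq 729, condEq 104, condEq 162, cge 1728 (0 + 1)] 0 [⟨-1, 624, 0, [280]⟩, ⟨0, 0, 0, []⟩]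
      [-455, -728, -182, -2912] ⟨a729, a104, a162, b1⟩ (by decide +kernel)

end GTwo

/-- **the row `G₂(q)`** -/
theorem row_g2 : Row.{u} (fun G _ => Lie.IsoChevG2 G) := by
  rintro G _ _ _ - ⟨F, _, _, h3, ⟨e⟩⟩
  refine Van3.of_equiv ?_ e.symm
  rcases h3.eq_or_lt with h | h
  · exact GTwo.van3_three h.symm
  · exact van3_g2_four F h

end Cfsg.Agent.VAN.Rk
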