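import Cfsg.Agent.VAN.Rk.Co
import Cfsg.Agent.S1067

/-!
# S4942: the row `³D₄(q)` (helper77)
-/

set_option autoImplicit false
set_option linter.unusedSectionVars false

namespace Cfsg.Agent.VAN.Rk

open Module Cfsg Cfsg.Lie CoxeterSystem Cfsg.Agent.ChevalleyStructure.CoxeterGeom Cfsg.Agent.Tits.Roots
  Cfsg.Agent.Nodes.Reps Cfsg.Agent.Nodes.BNOf Cfsg.Agent.Nodes.Bruhat Cfsg.Agent.Nodes.LeviDec
open Cfsg.Agent.Nodes.RGDTwD4 Cfsg.Agent.Nodes.RGDTwNode.D4 Cfsg.Agent.H866.D4Wf.Frame Cfsg.Agent.H866.OZ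
  Cfsg.Agent.H866.OZ.D4 Cfsg.Agent.KFacts.TwDFour.Out Cfsg.Agent.CpAut.RgdTwD4

universe u

theorem exists_prime_td4 {q : ℕ} (hq : 2 ≤ q) : ∃ r, r.Prime ∧ r ∣ q ^ 6 + 1 ∧ ¬ r ∣ 2 ∧
    ¬ r ∣ q ^ 12 * (q ^ 2 - 1) * (q ^ 6 - 1) * (q ^ 8 + q ^ 4 + 1) := by
  obtain ⟨r, hr, h2, h1⟩ : ∃ r, r.Prime ∧ r ≠ 2 ∧ r ∣ q ^ 2 + 1 := by
    by_contra hc
    push Not at hc
    have h1 := Nat.eq_prime_pow_of_unique_prime_dvd (n := q ^ 2 + 1) (p := 2) (by omega) fun {d} hd hdd => by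
      by_contra h
      exact hc d hd h hdd
    obtain ⟨k, hk⟩ : ∃ k, q ^ 2 + 1 = 2 ^ k := ⟨_, h1⟩
    have h3 : 5 ≤ q ^ 2 + 1 := by nlinarith
    obtain ⟨j, rfl⟩ : ∃ j, k = j + 2 := ⟨k - 2, by
      by_contra h
      have : k ≤ 1 := by omega
      interval_cases k <;> omega⟩
    have h4 : q ^ 2 % 4 = 0 ∨ q ^ 2 % 4 = 1 := by
      rcases (show q % 4 = 0 ∨ q % 4 = 1 ∨ q % 4 = 2 ∨ q % 4 = 3 by omega) with h | h | h | h <;>
        simp [Nat.pow_mod, h]
    rw [pow_add] at hk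
    omega
  have k3 : ∀ x : ZMod 3, x ^ 2 ≠ -1 := by decide
  have : Fact r.Prime := ⟨hr⟩
  have e : (q : ZMod r) ^ 2 = -1 := by
    have := (ZMod.natCast_eq_zero_iff _ _).2 h1
    push_cast at this
    exact eq_neg_of_add_eq_zero_left this
  have n2 : ¬ r ∣ 2 := fun h => h2 ((Nat.prime_dvd_prime_iff_eq hr Nat.prime_two).1 h)
  have z2 : (2 : ZMod r) ≠ 0 := fun h => n2 ((ZMod.natCast_eq_zero_iff 2 r).1 (by exact_mod_cast h))
  have z3 : (3 : ZMod r) ≠ 0 := fun h => by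
    have h3 := (Nat.prime_dvd_prime_iff_eq hr Nat.prime_three).1 ((ZMod.natCast_eq_zero_iff 3 r).1 (by exact_mod_cast h))
    subst h3
    exact k3 _ e
  refine ⟨r, hr, h1.trans ⟨q ^ 4 - q ^ 2 + 1, ?_⟩, n2, fun h => ?_⟩
  · have h4 : q ^ 2 ≤ q ^ 4 := Nat.pow_le_pow_right (by omega) (by norm_num)
    zify [h4]
    ring
  · have h3 := (ZMod.natCast_eq_zero_iff _ _).2 h
    have a2 : 1 ≤ q ^ 2 := Nat.one_le_pow _ _ (by omega)
    have a6 : 1 ≤ q ^ 6 := Nat.one_le_pow _ _ (by omega)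
    push_cast [a2, a6] at h3
    have h4 : (q : ZMod r) ^ 12 * ((q : ZMod r) ^ 2 - 1) * ((q : ZMod r) ^ 6 - 1) * ((q : ZMod r) ^ 8 + (q : ZMod r) ^ 4 + 1)
        = 2 * 2 * 3 := by
      rw [show (q : ZMod r) ^ 12 = ((q : ZMod r) ^ 2) ^ 6 by ring, show (q : ZMod r) ^ 6 = ((q : ZMod r) ^ 2) ^ 3 by ring,
        show (q : ZMod r) ^ 8 = ((q : ZMod r) ^ 2) ^ 4 by ring, show (q : ZMod r) ^ 4 = ((q : ZMod r) ^ 2) ^ 2 by ring, e]
      ring
    rw [h4] at h3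
    exact mul_ne_zero (mul_ne_zero z2 z2) z3 h3

theorem van3_td4 {K : Type} [Field K] [Fintype K] {q : ℕ} (hq : IsPrimePow q) (hK : Fintype.card K = q ^ 3)
    (hperf : commutator ↥(twistedD4 K q) = ⊤) : Van3 ↥(twistedD4 K q) := by
  classical
  obtain ⟨p, a, hp, ha, hqa⟩ := (isPrimePow_nat_iff q).1 hq
  have : Fact p.Prime := ⟨hp⟩
  have hcp : CharP K p := by
    obtain ⟨r, hr⟩ := CharP.exists K
    obtain ⟨b, hr', hb⟩ := FiniteField.card K r
    have h2 : p ∣ r ^ (b : ℕ) := by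
      rw [← hb, hK, ← hqa]
      exact (dvd_pow_self p ha.ne').trans (dvd_pow_self _ (by norm_num))
    rwa [(Nat.prime_dvd_prime_iff_eq hp hr').1 (hp.dvd_of_dvd_pow h2)]
  obtain ⟨φ, hφ⟩ := Cfsg.Agent.ChevalleyStructure.D4Fixed.exists_frob hq hK
  have : Finite CoxeterMatrix.G₂.Group := finiteW cs
  have := Fintype.ofFinite (KD φ 0)
  have := Fintype.ofFinite (KD φ 1)
  have h2 := hq.two_le
  have H : Two cs isCartan p (T K q) (n hφ) (X φ q) (fun b => cond b 0 1) :=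
    ⟨rgd' hK hφ p, by decide, by decide, GG_top hK hφ, fun s hs t ht => T_comm hK hφ hs ht, by decide⟩
  have hG := Cfsg.Agent.S1067.result hq hK
  have hpq : p ∣ q := hqa ▸ dvd_pow_self p ha.ne'
  obtain ⟨l, ⟨E⟩⟩ := H.r2.exists_num (p := p) (h := 3) (k := 3 * a) (c := (q ^ 2 - 1) * (q ^ 6 - 1) * (q ^ 8 + q ^ 4 + 1))
    (fun b => cond b a (3 * a)) hp (show CoxeterMatrix.G₂ 0 1 = 2 * 3 by decide) (by norm_num) (by rintro (_ | _) <;> simp <;> omega)
    (by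
      rintro (_ | _)
      · show Nat.card (X φ q (sr 1)) = p ^ (3 * a)
        rw [card_X1 hK hφ, ← hqa, ← pow_mul, mul_comm]
      · show Nat.card (X φ q (sr 0)) = p ^ a
        rw [card_X0 hK hφ hq, hqa]) H.isPGroup
    (fun t ht => by
      rw [mul_comm, pow_mul, hqa]
      refine eq_one_of_ch hK hφ (pow_mem ht _) ?_ ?_
      · rw [ch_pow hK hφ ht]
        have h3 := FiniteField.pow_card_sub_one_eq_one _ (ch_ne_zero hK hφ ht 0)
        rw [← Nat.card_eq_fintype_card, card_KD0 hK hφ hq] at h3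
        obtain ⟨c, hc⟩ := Nat.sub_dvd_pow_sub_pow q 1 3
        rw [one_pow] at hc
        rw [hc, pow_mul, h3, one_pow]
      · rw [ch_pow hK hφ ht]
        have h3 := FiniteField.pow_card_sub_one_eq_one _ (ch_ne_zero hK hφ ht 1)
        rwa [← Nat.card_eq_fintype_card, card_KD1 hK hφ] at h3)
    (by omega) (by show 3 * a < 3 * (a + 3 * a); omega)
    (by
      show _ = p ^ (3 * (a + 3 * a)) * _
      rw [hG, show 3 * (a + 3 * a) = a * 12 by ring, pow_mul, hqa]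
      ring)
    (by
      have h1 : ∀ k, 0 < k → ¬ p ∣ q ^ k - 1 := fun k hk hd =>
        hp.one_lt.ne' (Nat.dvd_one.1 ((Nat.dvd_sub_iff_right (Nat.one_le_pow _ _ (by omega))
          (hpq.trans (dvd_pow_self _ hk.ne'))).1 hd))
      intro hd
      rcases hp.dvd_mul.1 hd with hd | hd
      · rcases hp.dvd_mul.1 hd with hd | hd
        · exact h1 2 (by norm_num) hd
        · exact h1 6 (by norm_num) hd
      · exact hp.one_lt.ne' (Nat.dvd_one.1 ((Nat.dvd_add_right (dvd_add (hpq.trans (dvd_pow_self _ (by norm_num)))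
          (hpq.trans (dvd_pow_self _ (by norm_num))))).1 hd)))
    (by show ¬ (p = 2 ∧ 3 * (a + 3 * a) = 6); omega)
  obtain ⟨r, g, El, h5, hrd⟩ := exists_el hK hφ hq
  have hm : ¬ r ∣ Nat.card (Matrix.SpecialLinearGroup (Fin 2) (KD φ 0)) := by
    rw [card_SL2, card_KD0 hK hφ hq]
    exact not_dvd_SL hq El.prime h5 hrd
  obtain ⟨B, hB⟩ := exists_ellip (F := KD φ 0)
  obtain ⟨g', hg'⟩ := exists_prime_orderOf_dvd_card' (G := ↥(twistedD4 K q)) p (by
    rw [hG, mul_assoc, mul_assoc]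
    exact (hpq.trans (dvd_pow_self _ (by norm_num))).mul_right _)
  refine R2.van3_of_cusp E hperf true (g := g * PhiD hφ hK 0 B) (g' := g')
    (mul_mem (H.r2.B_le_Par _ (H.r2.TB El.mem)) (H.co_mem (i := true) (co hK hφ 0) B))
    (H.co_ell (i := true) (co hK hφ 0) El.mem (El.comm0 hq) hB) (fun v hv h => El.free hq hm hB hv h) (by rw [hg'])
    fun N ρ hρ hU ht => Or.inr fun c hc => ?_
  have hV : av ρ (H.r2.V true) ≠ 0 := fun h => ht (by rw [h, mul_zero, map_zero])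
  have h3 := E.cusp_dvd ρ H.isPGroup H.not_dvd_T true hU hV (fun k hk hd => ?_) c hc
  · rwa [Module.finrank_fin_fun] at h3
  rw [av_eq] at hU hV hd
  obtain ⟨d, hd1, hd2⟩ := finrank_V H.R H.top hρ hU (i := 0) hV (n' := n' hφ)
    (fun l hl => n'_both hK hφ hl) (fun w k hk hw => dich hK hφ hk hw)
  obtain ⟨s, hs, s1, s2, s3⟩ := exists_prime_td4 h2
  have hk6 : p ^ k = q ^ 6 := by
    have e1 : E.h = 3 := by
      have h4 : 6 = 2 * E.h := E.hm
      omega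
    have e2 : ∀ b, E.f b = cond b a (3 * a) := by
      rintro (_ | _)
      · have h4 : Nat.card (X φ q (sr 1)) = _ := E.hq false
        rw [card_X1 hK hφ] at h4
        refine Nat.pow_right_injective hp.two_le ?_
        show p ^ _ = p ^ (3 * a)
        rw [← h4, mul_comm, pow_mul, hqa]
      · have h4 : Nat.card (X φ q (sr 0)) = _ := E.hq true
        rw [card_X0 hK hφ hq] at h4
        exact Nat.pow_right_injective hp.two_le (h4.symm.trans hqa.symm)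
    rw [e1, e2, e2] at hk
    have h4 : k = a * 6 := by
      have : 2 * k = 3 * (a + 3 * a) := hk
      omega
    rw [h4, pow_mul, hqa]
  rw [hk6] at hd
  rw [← hG] at s3
  have s4 : ¬ s ∣ d := fun h => s3 (h.trans (hd1.trans (Subgroup.card_subgroup_dvd_card _)))
  rcases hs.dvd_mul.1 (s1.trans hd) with h | h
  · exact s3 h
  · rcases hd2 with e | e
    · exact s4 (e ▸ h)
    · rcases hs.dvd_mul.1 (e ▸ h) with h | h
      · exact s2 h
      · exact s4 h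

/-- **the row `³D₄(q)`** -/
theorem row_d4t : Row.{u} (fun G _ => Lie.Iso3D4 G) := by
  rintro G _ _ _ hna ⟨K, _, _, q, hq, hK, ⟨e⟩⟩
  exact (van3_td4 hq hK (perfect_of_equiv (perfect_of_simple hna) e)).of_equiv e.symm

end Cfsg.Agent.VAN.Rk
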