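import Cfsg.Agent.VAN.Rk.One
import Cfsg.Agent.S2299
import Cfsg.Agent.S2300
import Cfsg.Agent.S2321
import Cfsg.Agent.S2322
import Cfsg.Agent.ClassicalGeometry.PSL2Basic

/-!
# S4942, the groups `L₂(q)` (helper77)
-/

set_option autoImplicit false

namespace Cfsg.Agent.VAN.Rk

open Cfsg Cfsg.Agent.H956.OZ

universe u v

/-- an element of `SL₂` without eigenvector -/
theorem exists_elliptic {F : Type*} [Field F] [Fintype F] (hq : 4 ≤ Fintype.card F) :
    ∃ g : Matrix.SpecialLinearGroup (Fin 2) F, ∀ (c : F) (v : Fin 2 → F), v ≠ 0 →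
      (g : Matrix (Fin 2) (Fin 2) F).mulVec v ≠ c • v := by
  classical
  obtain ⟨a, ha⟩ := exists_unit_pow_ne (K := F) (n := 2) (by norm_num) (by omega)
  let f : F → F := fun c => c + c⁻¹
  have hf : ¬ Function.Surjective f := by
    intro h
    have h1 := Finite.injective_iff_surjective.2 h
    have h2 : f a = f (a : F)⁻¹ := by
      show (a : F) + (a : F)⁻¹ = (a : F)⁻¹ + (a : F)⁻¹⁻¹
      rw [inv_inv, add_comm]
    have h3 := h1 h2
    apply ha
    apply Units.ext
    rw [Units.val_pow_eq_pow_val, pow_two, Units.val_one]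
    nth_rewrite 2 [h3]
    exact mul_inv_cancel₀ a.ne_zero
  rw [Function.Surjective] at hf
  push Not at hf
  obtain ⟨t, ht⟩ := hf
  refine ⟨⟨!![0, -1; 1, t], by simp [Matrix.det_fin_two]⟩, fun c v hv h => ?_⟩
  have h0 := congrFun h 0
  have h1 := congrFun h 1
  simp [Matrix.mulVec, dotProduct, Fin.sum_univ_two] at h0 h1
  have hv0 : v 0 ≠ 0 := by
    intro h2
    apply hv
    funext i
    fin_cases i
    · exact h2
    · rw [h2, mul_zero, neg_eq_zero] at h0
      exact h0
  have h2 : v 0 * (1 - t * c + c * c) = 0 := by linear_combination h1 + (t - c) * h0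
  have h3 : 1 - t * c + c * c = 0 := (mul_eq_zero.1 h2).resolve_left hv0
  have hc : c ≠ 0 := by
    intro h4
    rw [h4] at h3
    simp at h3
  apply ht c
  show c + c⁻¹ = t
  field_simp
  linear_combination h3

theorem van3_sl2_odd {F : Type*} [Field F] [Fintype F] (hq : 4 ≤ Fintype.card F) (hodd : Odd (Fintype.card F))
    (hperf : commutator (Matrix.SpecialLinearGroup (Fin 2) F) = ⊤) :
    Van3 (Matrix.SpecialLinearGroup (Fin 2) F) := by
  obtain ⟨a, ha⟩ := exists_unit_pow_ne (K := F) (n := 2) (by norm_num) (by omega)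
  obtain ⟨g, hg⟩ := exists_elliptic hq
  have ha' : (a : F) ^ 2 ≠ 1 := fun h => ha (Units.ext (by rw [Units.val_pow_eq_pow_val, h, Units.val_one]))
  refine ⟨⟨!![(a : F), 0; 0, (a : F)⁻¹], by simp [Matrix.det_fin_two]⟩, g,
    ⟨!![1, 1; 0, 1], by simp [Matrix.det_fin_two]⟩, fun χ hχ hne => ?_⟩
  rcases (Cfsg.Agent.S2299.result hodd).1 χ hχ with h | h | h | h | h | h
  · exact absurd (Ree.eq_one_of_perfect hperf hχ h) hne
  · exact Or.inr (Or.inr ((Cfsg.Agent.S2321.result χ hχ h _).2.2 rfl rfl one_ne_zero))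
  · exact Or.inr (Or.inl ((Cfsg.Agent.S2322.result hodd χ hχ _).2 (Or.inl h) hg))
  · exact Or.inl ((Cfsg.Agent.S2322.result hodd χ hχ _).1 (Or.inl h) rfl rfl ha')
  · exact Or.inr (Or.inl ((Cfsg.Agent.S2322.result hodd χ hχ _).2 (Or.inr h) hg))
  · exact Or.inl ((Cfsg.Agent.S2322.result hodd χ hχ _).1 (Or.inr h) rfl rfl ha')

/-- three pairwise coprime factors of the order, and all non-linear degrees among them -/
theorem van3_of_hall {G : Type u} [Group G] [Finite G] (hperf : commutator G = ⊤) {a b c : ℕ}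
    (hG : Nat.card G = a * b * c) (ha : a ≠ 1) (hb : b ≠ 1) (hc : c ≠ 1) (hab : a.Coprime b) (hac : a.Coprime c)
    (hbc : b.Coprime c) (h : ∀ χ, IsIrrCharacter G χ → χ 1 = 1 ∨ χ 1 = a ∨ χ 1 = b ∨ χ 1 = c) : Van3 G := by
  have key : ∀ x y : ℕ, Nat.card G = x * y → x ≠ 1 → x.Coprime y → ∃ g : G, ∀ χ, IsIrrCharacter G χ → χ 1 = x →
      χ g = 0 := by
    intro x y hxy hx hco
    obtain ⟨r, hr, hrx⟩ := Nat.exists_prime_and_dvd hx
    have : Fact r.Prime := ⟨hr⟩
    obtain ⟨g, hg⟩ := exists_prime_orderOf_dvd_card' (G := G) r (by rw [hxy]; exact hrx.mul_right _)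
    refine ⟨g, fun χ hχ hd => zero_of_dvd hχ hr hd (fun k hk => ?_) (by rw [hg])⟩
    rw [hxy] at hk
    exact (Nat.Coprime.pow_left k (Nat.Coprime.coprime_dvd_left hrx hco)).dvd_of_dvd_mul_right hk
  obtain ⟨g₁, h₁⟩ := key a (b * c) (by rw [hG, mul_assoc]) ha (hab.mul_right hac)
  obtain ⟨g₂, h₂⟩ := key b (a * c) (by rw [hG]; ring) hb (hab.symm.mul_right hbc)
  obtain ⟨g₃, h₃⟩ := key c (a * b) (by rw [hG]; ring) hc (hac.symm.mul_right hbc.symm)
  refine ⟨g₁, g₂, g₃, fun χ hχ hne => ?_⟩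
  rcases h χ hχ with h | h | h | h
  · exact absurd (Ree.eq_one_of_perfect hperf hχ h) hne
  · exact Or.inl (h₁ χ hχ h)
  · exact Or.inr (Or.inl (h₂ χ hχ h))
  · exact Or.inr (Or.inr (h₃ χ hχ h))

theorem van3_sl2_even {F : Type*} [Field F] [Fintype F] [CharP F 2] (hq : 4 ≤ Fintype.card F)
    (hev : Even (Fintype.card F)) (hperf : commutator (Matrix.SpecialLinearGroup (Fin 2) F) = ⊤) :
    Van3 (Matrix.SpecialLinearGroup (Fin 2) F) := by
  obtain ⟨n, hn⟩ : ∃ n, Fintype.card F = n + 1 := ⟨Fintype.card F - 1, by omega⟩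
  have hno : Odd n := by
    rw [hn] at hev
    exact Nat.not_even_iff_odd.1 (Nat.even_add_one.1 hev)
  refine van3_of_hall hperf (a := n) (b := n + 1) (c := n + 2) ?_ (by omega) (by omega) (by omega)
    (by simp) ?_ ((Nat.coprime_self_add_right (m := n + 1) (n := 1)).2 (Nat.coprime_one_right _)) ?_
  · rw [ClassicalGeometry.PSL2Basic.card_SL2, hn]
    have : (n + 1) ^ 2 - 1 = n * (n + 2) := by
      rw [Nat.sub_eq_iff_eq_add (Nat.one_le_pow _ _ (by omega))]
      ring
    rw [this]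
    ring
  · rw [Nat.coprime_self_add_right]
    exact (Nat.coprime_two_right).2 hno
  · intro χ hχ
    rcases (Cfsg.Agent.S2300.result (F := F)).1 χ hχ with h | h | h | h
    · exact Or.inl h
    · refine Or.inr (Or.inl ?_)
      rw [h, hn]
      push_cast
      ring
    · refine Or.inr (Or.inr (Or.inl ?_))
      rw [h, hn]
    · refine Or.inr (Or.inr (Or.inr ?_))
      rw [h, hn]
      push_cast
      ring

/-- `L₂(q)`, `q ≥ 4` -/
theorem van3_psl2 {F : Type*} [Field F] [Fintype F] (hq : 4 ≤ Fintype.card F) :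
    Van3 (Matrix.ProjectiveSpecialLinearGroup (Fin 2) F) := by
  have hperf : commutator (Matrix.SpecialLinearGroup (Fin 2) F) = ⊤ := by
    obtain ⟨a, ha⟩ := exists_unit_pow_ne (K := F) (n := 2) (by norm_num) (by omega)
    exact Matrix.SL2.commutator_eq_top a.ne_zero
      (fun h => ha (Units.ext (by rw [Units.val_pow_eq_pow_val, h, Units.val_one])))
  refine van3_of_surj (G := Matrix.SpecialLinearGroup (Fin 2) F) ?_ (QuotientGroup.mk' _)
    (QuotientGroup.mk'_surjective _)
  rcases Nat.even_or_odd (Fintype.card F) with h | h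
  · have h2 : ringChar F = 2 := by
      rw [FiniteField.even_card_iff_char_two]
      exact Nat.even_iff.1 h
    have : CharP F 2 := ringChar.of_eq h2
    exact van3_sl2_even hq h hperf
  · exact van3_sl2_odd hq h hperf

end Cfsg.Agent.VAN.Rk
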