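import Cfsg.Agent.VAN.Rk.Cusp
import Cfsg.Agent.H866.OZ.Elts2
import Cfsg.Agent.H866.OZ.Mod

/-!
# S4942, rank two: elliptic elements from coordinates, the degrees in the cuspidal case (helper77)
-/

set_option autoImplicit false
set_option linter.unusedSectionVars false

namespace Cfsg.Agent.VAN.Rk

open Module Cfsg Cfsg.Agent.LieExceptional.BNPairCore

universe u

theorem av_eq {G : Type u} [Group G] [Finite G] {V : Type} [AddCommGroup V] [Module ℂ V] (ρ : Representation ℂ G V)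
    (H : Subgroup G) : av ρ H = H866.OZ.av ρ H := by
  have h1 : H866.OZ.av ρ H * av ρ H = av ρ H := H866.OZ.av_of_left ρ fun _ hg => rho_av ρ hg
  have h2 : H866.OZ.av ρ H * av ρ H = H866.OZ.av ρ H := mul_av_of ρ fun _ hg => H866.OZ.av_mul ρ hg
  rw [← h1, h2]

namespace R2

variable {G : Type u} [Group G] {D : R2 G}

/-- ellipticity can be checked on representatives -/
theorem ell_of {i : Bool} {g : G} (hg : g ∉ D.P.B) (h : ∀ x ∈ D.X i, (x * D.n i)⁻¹ * g * (x * D.n i) ∉ D.P.B) :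
    ∀ y ∈ D.Par i, y⁻¹ * g * y ∉ D.P.B := by
  rintro y (hy | hy) hB
  · apply hg
    have := mul_mem (mul_mem hy hB) (inv_mem hy)
    rwa [show y * (y⁻¹ * g * y) * y⁻¹ = g by group] at this
  · obtain ⟨a, ha, b, hb, rfl⟩ := mem_C.1 hy
    obtain ⟨u, hu, t, ht, rfl⟩ := (D.mem_B a).1 ha
    obtain ⟨x, hx, v, hv, rfl⟩ := D.dec' i hu
    apply h x hx
    have h1 : (D.n i)⁻¹ * v * D.n i * ((D.n i)⁻¹ * t * D.n i) * b ∈ D.P.B :=
      mul_mem (mul_mem (D.UB (D.VU i (D.nV'' hv))) (D.TB (D.NT (D.nN i) ht))) hb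
    have := mul_mem (mul_mem h1 hB) (inv_mem h1)
    rwa [show (D.n i)⁻¹ * v * D.n i * ((D.n i)⁻¹ * t * D.n i) * b * ((x * v * t * D.n i * b)⁻¹ * g *
      (x * v * t * D.n i * b)) * ((D.n i)⁻¹ * v * D.n i * ((D.n i)⁻¹ * t * D.n i) * b)⁻¹ =
      (x * D.n i)⁻¹ * g * (x * D.n i) by group] at this

variable {p l : ℕ}

theorem Num.not_dvd_add (E : D.Num p l) {k : ℕ} (hk : k < E.h * (E.f true + E.f false))
    (h2 : 2 * k ≠ E.h * (E.f true + E.f false)) : ¬ l ∣ p ^ k + 1 := by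
  intro h
  rcases Nat.eq_zero_or_pos k with rfl | h0
  · rw [pow_zero] at h
    have := Nat.le_of_dvd (by norm_num) h
    have := E.h2
    have := E.hl1
    omega
  have h1 : l ∣ p ^ (2 * k) - 1 := by
    rw [mul_comm, pow_mul, ← one_pow 2, Nat.sq_sub_sq]
    exact h.mul_right _
  rcases Nat.lt_or_ge (2 * k) (E.h * (E.f true + E.f false)) with h3 | h3
  · exact E.prim _ (by omega) h3 h1
  · obtain ⟨r, hr⟩ := Nat.exists_eq_add_of_le h3
    refine E.prim r (by omega) (by omega) ?_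
    have a1 := Nat.one_le_pow (E.h * (E.f true + E.f false)) p E.hp.pos
    have a2 := Nat.one_le_pow r p E.hp.pos
    have e : p ^ (2 * k) - 1 = p ^ r * (p ^ (E.h * (E.f true + E.f false)) - 1) + (p ^ r - 1) := by
      rw [hr, pow_add, Nat.mul_sub, mul_one, mul_comm]
      have := Nat.le_mul_of_pos_right (p ^ r) (show 0 < p ^ (E.h * (E.f true + E.f false)) from a1)
      omega
    rw [e] at h1
    exact (Nat.dvd_add_right (E.ldvd.mul_left _)).1 h1

variable [Finite G] {V : Type} [AddCommGroup V] [Module ℂ V] [FiniteDimensional ℂ V] (ρ : Representation ℂ G V)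

/-- defect zero in the cuspidal case -/
theorem Num.cusp_dvd (E : D.Num p l) (hU : IsPGroup p D.U) (hT : ¬ p ∣ Nat.card D.T) [ρ.IsIrreducible] (i : Bool)
    (h0 : av ρ D.U = 0) (hV : av ρ (D.V i) ≠ 0) (hex : ∀ k, 2 * k = E.h * (E.f true + E.f false) →
      ¬ p ^ k + 1 ∣ Nat.card G * finrank ℂ (LinearMap.range (av ρ (D.V i)))) (c : ℕ) (hc : l ^ c ∣ Nat.card G) :
    l ^ c ∣ finrank ℂ V := by
  have : Fact l.Prime := ⟨E.hl⟩
  obtain ⟨h1, h2⟩ := E.card_V hU hT i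
  obtain ⟨x, hx, ⟨j, hj, hxj⟩, -⟩ := cusp ρ ⟨E.h, by rw [E.hm, two_mul]⟩ i h1 E.hp h2 h0 hV
  have hd : finrank ℂ (LinearMap.range (av ρ (D.V i))) ≠ 0 := fun h =>
    hV (LinearMap.range_eq_bot.1 (Submodule.finrank_eq_zero.1 h))
  have hlt : |j| < (E.h * (E.f true + E.f false) : ℕ) := by
    have := E.hf i
    have := E.add i
    have := E.h2
    have : E.f true + E.f false ≤ E.h * (E.f true + E.f false) := Nat.le_mul_of_pos_left _ (by omega)
    omega
  have hp0 : (p : ℚ) ≠ 0 := Nat.cast_ne_zero.2 E.hp.ne_zero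
  refine E.dvd_of i hd hx ?_ c hc
  rcases hxj with rfl | rfl
  · obtain ⟨k, rfl | rfl⟩ := Int.eq_nat_or_neg j
    · rw [zpow_natCast] at hx ⊢
      have h3 : ¬ l ∣ p ^ k + 1 := E.not_dvd_add (by rw [Nat.abs_cast] at hlt; exact_mod_cast hlt) fun h =>
        hex k h ⟨finrank ℂ V * Nat.card (D.Par i), by
          have h4 : Nat.card G * finrank ℂ (LinearMap.range (av ρ (D.V i))) =
            finrank ℂ V * ((1 + p ^ k) * Nat.card (D.Par i)) := by exact_mod_cast hx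
          rw [h4]
          ring⟩
      have h4 := Good.nat h3
      push_cast at h4
      rwa [add_comm] at h4
    · have h3 : ¬ l ∣ p ^ k + 1 := E.not_dvd_add (by rw [abs_neg, Nat.abs_cast] at hlt; exact_mod_cast hlt) fun h => by
        refine hex k h (Nat.Coprime.dvd_of_dvd_mul_right (n := p ^ k) (by simp) ⟨finrank ℂ V * Nat.card (D.Par i), ?_⟩)
        have h4 : ((Nat.card G * finrank ℂ (LinearMap.range (av ρ (D.V i))) * p ^ k : ℕ) : ℚ) =
            ((p ^ k + 1) * (finrank ℂ V * Nat.card (D.Par i)) : ℕ) := by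
          rw [Nat.cast_mul, hx, zpow_neg, zpow_natCast]
          push_cast
          field_simp
        exact_mod_cast h4
      refine Good.of_mul (b := ((p ^ k : ℕ) : ℚ)) (c := ((p ^ k + 1 : ℕ) : ℚ)) ?_
        (Good.nat fun h => E.lp (E.hl.dvd_of_dvd_pow h)) (Good.nat h3)
      rw [zpow_neg, zpow_natCast]
      push_cast
      field_simp
  · have hj0 : j ≠ 0 := by
      rintro rfl
      rw [zpow_zero, add_neg_cancel, zero_mul, mul_zero, Nat.cast_eq_zero] at hx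
      exact mul_ne_zero Nat.card_pos.ne' hd hx
    have h3 := (Good.sub E.hp.pos E.lp E.prim hj0 hlt).neg
    rwa [neg_sub, sub_eq_add_neg] at h3

end R2

open CoxeterSystem Cfsg.Agent.ChevalleyStructure.CoxeterGeom Cfsg.Agent.Tits.Roots Cfsg.Agent.Tits.Core
  Cfsg.Agent.Nodes.Reps Cfsg.Agent.Nodes.BNOf Cfsg.Agent.Nodes.StabComb
  Cfsg.Agent.Nodes.Bruhat Cfsg.Agent.Nodes.LeviDec Cfsg.Agent.Nodes.RGDFoldSL
open Cfsg.Agent.ChevalleyStructure.SL2Hom (up lo)
open Cfsg.Agent.H866.OZ (Co Ellip)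

variable {I W : Type*} {Y : Type u} [Fintype I] [DecidableEq I] [Group W] [Group Y] {M : CoxeterMatrix I}
  {cs : CoxeterSystem M W} {A : I → I → ℤ} {h : IsCartan M A} {p : ℕ} {T : Subgroup Y} {n : I → Y}
  {X : (I → ℤ) → Subgroup Y} {ι : Bool → I} (H : Two cs h p T n X ι) [Finite W] [Finite Y]
  {F : Type*} [Field F] [Fintype F] [DecidableEq F] {Φ : Matrix.SpecialLinearGroup (Fin 2) F →* Y}

namespace Two

theorem not_dvd_T [Fact p.Prime] : ¬ p ∣ Nat.card H.r2.T :=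
  (Nat.Prime.coprime_iff_not_dvd Fact.out).1 H.R.tcop.symm

theorem co_not_mem {i : Bool} (C : Co T n X (ι i) Φ) {B : Matrix.SpecialLinearGroup (Fin 2) F} (hB : B.1 1 0 ≠ 0) :
    Φ B ∉ H.r2.P.B := by
  intro h1
  have e := Cfsg.Agent.KFacts.TwESix.NodeCoord.eq_of_ne_zero hB
  have hT : Φ (hS (-(B.1 1 0)⁻¹)) ∈ H.r2.P.B := H.r2.TB (C.tor _ (neg_ne_zero.2 (inv_ne_zero hB)))
  have hup : ∀ a, Φ (up a) ∈ H.r2.P.B := fun a => H.r2.UB (H.r2.XU i ((C.mem _).2 ⟨a, rfl⟩))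
  apply not_mem_B (H.r2.nS i)
  rw [e, map_mul, map_mul, map_mul, C.w] at h1
  have h2 := mul_mem (mul_mem (inv_mem hT) (mul_mem (inv_mem (hup (B.1 0 0 / B.1 1 0))) h1))
    (inv_mem (hup (B.1 1 1 / B.1 1 0)))
  have h3 : ∀ a b c d : Y, b⁻¹ * (a⁻¹ * (a * (b * c) * d)) * d⁻¹ = c := fun a b c d => by group
  rwa [h3] at h2

theorem co_mem {i : Bool} (C : Co T n X (ι i) Φ) (B : Matrix.SpecialLinearGroup (Fin 2) F) : Φ B ∈ H.r2.Par i :=
  H.mem_Par (C.mem_LJ H.R B)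

/-- elliptic elements -/
theorem co_ell {i : Bool} (C : Co T n X (ι i) Φ) {t : Y} (ht : t ∈ T) (hc : ∀ B, t * Φ B = Φ B * t)
    {B : Matrix.SpecialLinearGroup (Fin 2) F} (hB : Ellip B) : ∀ y ∈ H.r2.Par i, y⁻¹ * (t * Φ B) * y ∉ H.r2.P.B := by
  have key : ∀ E, (Φ E)⁻¹ * (t * Φ B) * Φ E ∉ H.r2.P.B := by
    intro E h1
    apply H.co_not_mem C (hB E)
    rw [← map_inv, ← mul_assoc, ← hc, mul_assoc, mul_assoc, ← map_mul, ← map_mul, ← mul_assoc] at h1
    exact (Subgroup.mul_mem_cancel_left _ (H.r2.TB ht)).1 h1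
  refine R2.ell_of (by simpa using key 1) fun x hx => ?_
  obtain ⟨a, rfl⟩ := (C.mem x).1 hx
  have := key (up a * wS 1)
  rwa [map_mul, C.w] at this

end Two

end Cfsg.Agent.VAN.Rk
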