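import Cfsg.Agent.VAN.Rk.Rgd
import Cfsg.Agent.Nodes.CardSup

/-!
# S4942, rank two: the characters with cuspidal support in a Levi subgroup of rank one (helper77)
-/

set_option autoImplicit false

namespace Cfsg.Agent.VAN.Rk

open Module Cfsg Cfsg.Agent.LieExceptional.BNPairCore Cfsg.Agent.Characters

universe u

/-- a rational number `x` with `p ^ e (x - 1)² / x` integral -/
theorem rat_pow {x : ℚ} {p e : ℕ} (hp : p.Prime) {z : ℤ} (hz : z * x = (p : ℚ) ^ e * (x - 1) ^ 2) :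
    ∃ j : ℤ, |j| ≤ e ∧ (x = (p : ℚ) ^ j ∨ x = -(p : ℚ) ^ j) := by
  have hb : (x.den : ℚ) ≠ 0 := Nat.cast_ne_zero.2 x.den_nz
  have hx : x = x.num / x.den := (Rat.num_div_den x).symm
  have h1 : z * (x.num * x.den) = (p : ℤ) ^ e * (x.num - x.den) ^ 2 := by
    have h2 : (z : ℚ) * (x.num * x.den) = (p : ℚ) ^ e * (x.num - x.den) ^ 2 := by
      have h3 : (x.num : ℚ) = x * x.den := by rw [Rat.mul_den_eq_num]
      rw [h3]
      linear_combination (x.den : ℚ) ^ 2 * hz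
    exact_mod_cast h2
  have hc : IsCoprime x.num (x.den : ℤ) := Int.isCoprime_iff_gcd_eq_one.2 x.reduced
  have hc1 : IsCoprime x.num (x.num - x.den) := by
    have := hc.neg_right.add_mul_left_right 1
    rwa [mul_one, neg_add_eq_sub] at this
  have hc2 : IsCoprime (x.den : ℤ) (x.num - x.den) := by
    have := hc.symm.add_mul_left_right (-1)
    rwa [mul_neg_one, ← sub_eq_add_neg] at this
  have h4 : x.num * x.den ∣ (p : ℤ) ^ e :=
    ((hc1.mul_left hc2).pow_right (n := 2)).dvd_of_dvd_mul_right ⟨z, by rw [← h1, mul_comm]⟩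
  have h5 : x.num.natAbs * x.den ∣ p ^ e := by
    have := Int.natAbs_dvd_natAbs.2 h4
    rwa [Int.natAbs_mul, Int.natAbs_natCast, Int.natAbs_pow, Int.natAbs_natCast] at this
  obtain ⟨s, hs, es⟩ := (Nat.dvd_prime_pow hp).1 ((dvd_mul_right _ _).trans h5)
  obtain ⟨t, ht, et⟩ := (Nat.dvd_prime_pow hp).1 ((dvd_mul_left _ _).trans h5)
  have hp0 : (p : ℚ) ≠ 0 := Nat.cast_ne_zero.2 hp.ne_zero
  refine ⟨(s : ℤ) - t, by rw [abs_le]; constructor <;> omega, ?_⟩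
  rw [zpow_sub₀ hp0, zpow_natCast, zpow_natCast]
  rcases Int.natAbs_eq x.num with h | h
  · left
    rw [hx, h, es, et]
    push_cast
    rfl
  · right
    rw [hx, h, es, et]
    push_cast
    rw [neg_div]

/-- eigenvalues of sums of group elements -/
theorem eig_sum {G : Type u} [Group G] [Finite G] {V : Type} [AddCommGroup V] [Module ℂ V]
    (ρ : Representation ℂ G V) {A : Module.End ℂ V} (hA : A ∈ Submodule.span ℤ (Set.range ρ)) {v : V} (hv : v ≠ 0)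
    {c : ℂ} (h : A v = c • v) : IsIntegral ℤ c := by
  have h1 : (Algebra.adjoin ℤ (Set.range ρ)).toSubmodule = Submodule.span ℤ (Set.range ρ) := by
    rw [Algebra.adjoin_eq_span]
    congr 1
    exact congrArg _ (Submonoid.closure_eq (MonoidHom.mrange ρ))
  have h2 : IsIntegral ℤ A := IsIntegral.of_mem_of_fg (Algebra.adjoin ℤ (Set.range ρ))
    (by rw [h1]; exact Submodule.fg_span (Set.finite_range _)) A (by
      rw [← Subalgebra.mem_toSubmodule, h1]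
      exact hA)
  obtain ⟨f, hf, h3⟩ := h2
  refine ⟨f, hf, ?_⟩
  have h4 := Module.End.aeval_apply_of_hasEigenvector (f := A) (p := f.map (algebraMap ℤ ℂ)) (μ := c) (x := v)
    ⟨Module.End.mem_eigenspace_iff.2 h, hv⟩
  rw [Polynomial.aeval_map_algebraMap, Polynomial.aeval_def, h3, LinearMap.zero_apply, Polynomial.eval_map] at h4
  exact (smul_eq_zero.1 h4.symm).resolve_right hv

namespace R2

variable {G : Type u} [Group G] (D : R2 G)

/-- the element normalising the Levi subgroup -/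
def n0 (i : Bool) : G := alt D.n (!i) (D.m - 1)

/-- a Levi subgroup -/
def Lv (i : Bool) : Subgroup G := D.Par i ⊓ (D.Par i).comap (MulAut.conj (D.n0 i)).toMonoidHom

theorem mem_Lv {i : Bool} {l : G} : l ∈ D.Lv i ↔ l ∈ D.Par i ∧ D.n0 i * l * (D.n0 i)⁻¹ ∈ D.Par i := Iff.rfl

theorem n0N (i : Bool) : D.n0 i ∈ D.P.N := D.altN _ _

theorem T_le_Lv (i : Bool) : D.T ≤ D.Lv i := fun _ ht =>
  ⟨D.B_le_Par i (D.TB ht), D.B_le_Par i (D.TB (D.NT' (D.n0N i) ht))⟩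

theorem X_le_Lv (i : Bool) : D.X i ≤ D.Lv i := fun _ hx =>
  ⟨D.B_le_Par i (D.UB (D.XU i hx)), D.B_le_Par i (D.UB (D.red' i (by have := D.m_pos; omega) hx))⟩

theorem odd_pred (hm : Even D.m) : Odd (D.m - 1) := Nat.Even.sub_odd D.m_pos hm odd_one

theorem n_mem_Lv (hm : Even D.m) (i : Bool) : D.n i ∈ D.Lv i := by
  refine ⟨D.n_mem_Par i, ?_⟩
  have h1 := D.braid' i
  have e : D.m = D.m - 1 + 1 := by have := D.m_pos; omega
  rw [e, alt_succ', alt_succ, lt_odd _ (D.odd_pred hm), Bool.not_not] at h1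
  have h2 := D.NT' (D.n0N i) (D.T.inv_mem h1)
  show D.n0 i * D.n i * (D.n0 i)⁻¹ ∈ D.Par i
  have h3 : D.n0 i * D.n i * (D.n0 i)⁻¹ =
      D.n i * (D.n0 i * ((D.n0 i * D.n i)⁻¹ * (D.n i * D.n0 i))⁻¹ * (D.n0 i)⁻¹) := by group
  rw [h3]
  exact mul_mem (D.n_mem_Par i) (D.B_le_Par i (D.TB h2))

theorem Par_form (hm : Even D.m) {i : Bool} {y : G} (hy : y ∈ D.Par i) : ∃ l ∈ D.Lv i, ∃ v ∈ D.V i, y = l * v := by
  have hB : ∀ b ∈ D.P.B, ∃ l ∈ D.Lv i, ∃ v ∈ D.V i, b = l * v := by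
    intro b hb
    obtain ⟨t, ht, u, hu, rfl⟩ := D.mem_B' hb
    obtain ⟨x, hx, v, hv, rfl⟩ := D.dec' i hu
    exact ⟨t * x, mul_mem (D.T_le_Lv i ht) (D.X_le_Lv i hx), v, hv, by group⟩
  rcases hy with hy | hy
  · exact hB y hy
  · obtain ⟨a, ha, b, hb, rfl⟩ := mem_C.1 hy
    obtain ⟨l, hl, v, hv, rfl⟩ := hB a ha
    obtain ⟨l', hl', v', hv', rfl⟩ := hB b hb
    refine ⟨l * D.n i * l', mul_mem (mul_mem hl (D.n_mem_Lv hm i)) hl', (D.n i * l')⁻¹ * v * (D.n i * l')⁻¹⁻¹ * v',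
      mul_mem (D.ParV (inv_mem (mul_mem (D.n_mem_Par i) hl'.1)) hv) hv', by group⟩

theorem n0_inv (hm : Even D.m) (i : Bool) : ∃ t ∈ D.T, (D.n0 i)⁻¹ = D.n0 i * t := by
  obtain ⟨t, ht, e⟩ := D.alt_inv (!i) (D.m - 1)
  rw [show D.m - 1 + 1 = D.m by have := D.m_pos; omega, lt_even _ hm] at e
  exact ⟨t, ht, e⟩

theorem Lv_conj (hm : Even D.m) {i : Bool} {l : G} (hl : l ∈ D.Lv i) : (D.n0 i)⁻¹ * l * D.n0 i ∈ D.Lv i := by
  obtain ⟨t, ht, e⟩ := D.n0_inv hm i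
  refine ⟨?_, ?_⟩
  · have h1 := (mul_mem (mul_mem (D.T_le_Lv i ht) hl) (inv_mem (D.T_le_Lv i ht))).2
    have h2 : (D.n0 i)⁻¹ * l * D.n0 i = D.n0 i * (t * l * t⁻¹) * (D.n0 i)⁻¹ := by
      calc (D.n0 i)⁻¹ * l * D.n0 i = (D.n0 i)⁻¹ * l * ((D.n0 i)⁻¹)⁻¹ := by rw [inv_inv]
        _ = (D.n0 i * t) * l * (D.n0 i * t)⁻¹ := by rw [← e]
        _ = _ := by group
    rw [h2]
    exact h1
  · show D.n0 i * ((D.n0 i)⁻¹ * l * D.n0 i) * (D.n0 i)⁻¹ ∈ D.Par i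
    rw [show D.n0 i * ((D.n0 i)⁻¹ * l * D.n0 i) * (D.n0 i)⁻¹ = l by group]
    exact hl.1

variable [Finite G]

/-- the big double coset -/
theorem inj_V (hm : Even D.m) (i : Bool) (hV : Nat.card (D.V i) = D.Q (!i) (D.m - 1)) {v : G} (hv : v ∈ D.V i)
    (h : (D.n0 i)⁻¹ * v * D.n0 i ∈ D.Par i) : v = 1 := by
  have hm0 := D.m_pos
  let f : D.V i × D.Par i → G := fun a => a.1 * D.n0 i * a.2
  have e : D.rp i (D.m - 1, true) = D.n0 i * D.n i := by rw [rp_true, alt_succ']; rfl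
  have key : ∀ b ∈ D.P.B, ∃ v ∈ D.V i, ∃ y ∈ D.P.B, b * D.n0 i = v * D.n0 i * y := by
    intro b hb
    obtain ⟨u, hu, t, ht, rfl⟩ := (D.mem_B b).1 hb
    obtain ⟨v, hv, x, hx, rfl⟩ := D.dec i u hu
    refine ⟨v, hv, (D.n0 i)⁻¹ * x * D.n0 i * ((D.n0 i)⁻¹ * t * D.n0 i), mul_mem (D.UB ?_) (D.TB (D.NT (D.n0N i) ht)),
      by group⟩
    exact D.red (!i) (D.m - 1) (by omega) x (by rwa [lt_odd _ (D.odd_pred hm), Bool.not_not])
  have h1 : C D.P (D.rp i (D.m - 1, false)) ∪ C D.P (D.rp i (D.m - 1, true)) ⊆ Set.range f := by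
    rintro g (hg | hg)
    · obtain ⟨a, ha, b, hb, rfl⟩ := mem_C.1 hg
      obtain ⟨v, hv, y, hy, e1⟩ := key a ha
      exact ⟨(⟨v, hv⟩, ⟨y * b, D.B_le_Par i (mul_mem hy hb)⟩), by
        show v * D.n0 i * (y * b) = _
        rw [← mul_assoc, ← e1]; rfl⟩
    · rw [e] at hg
      obtain ⟨a, ha, b, hb, rfl⟩ := mem_C.1 hg
      obtain ⟨v, hv, y, hy, e1⟩ := key a ha
      exact ⟨(⟨v, hv⟩, ⟨y * D.n i * b, mul_mem (mul_mem (D.B_le_Par i hy) (D.n_mem_Par i)) (D.B_le_Par i hb)⟩), by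
        show v * D.n0 i * (y * D.n i * b) = _
        rw [← mul_assoc, ← mul_assoc, ← mul_assoc, ← e1]⟩
  have h2 : Disjoint (C D.P (D.rp i (D.m - 1, false))) (C D.P (D.rp i (D.m - 1, true))) := by
    rw [Set.disjoint_left]
    intro g a b
    have := D.rp_inj i (a := (D.m - 1, false)) (b := (D.m - 1, true)) (by show D.m - 1 < _; omega)
      (by show D.m - 1 < _; omega) (C_eq_of_mem_mem a b)
    simp at this
  have h3 := Set.ncard_le_ncard h1 (Set.toFinite _)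
  rw [Set.ncard_union_eq h2 (Set.toFinite _) (Set.toFinite _), ← Nat.card_coe_set_eq, ← Nat.card_coe_set_eq,
    ← Nat.card_coe_set_eq, rp_true, rp_false, D.card_C_alt _ (by omega), D.card_C_alt _ (by omega), Q_succ'] at h3
  have h4 := (Set.rangeFactorization_surjective (f := f)).bijective_of_nat_card_le (by
    rw [Nat.card_prod, hV, D.card_Par]
    refine le_trans (le_of_eq ?_) h3
    ring)
  have h5 : (⟨⟨v, hv⟩, 1⟩ : D.V i × D.Par i) = ⟨1, ⟨_, h⟩⟩ := h4.1 (Subtype.ext (by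
    show v * D.n0 i * 1 = 1 * D.n0 i * ((D.n0 i)⁻¹ * v * D.n0 i)
    group))
  exact congrArg (fun a : D.V i × D.Par i => (a.1 : G)) h5

/-- the order of the unipotent radicals -/
theorem Num.card_V {p l : ℕ} {D : R2 G} (E : D.Num p l) (hU : IsPGroup p D.U) (hT : ¬ p ∣ Nat.card D.T) (i : Bool) :
    Nat.card (D.V i) = D.Q (!i) (D.m - 1) ∧ Nat.card (D.V i) = p ^ (E.h * (E.f true + E.f false) - E.f i) := by
  have hp : Fact p.Prime := ⟨E.hp⟩
  have h1 : Nat.card D.U = Nat.card (D.V i) * D.q i :=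
    Nodes.CardSup.card_mul_of_disjoint (D.VU i) (D.XU i) (D.dec i) (by
      rw [eq_bot_iff]
      exact fun x hx => D.eq_one_of_conj' hx.2 (D.UB (D.nV i x hx.1)))
  have h2 : Nat.card D.P.B = Nat.card D.U * Nat.card D.T :=
    Nodes.CardSup.card_mul_of_disjoint D.UB D.TB (fun g hg => (D.mem_B g).1 hg) (by
      rw [eq_bot_iff]
      intro x hx
      obtain ⟨k, hk⟩ := hU ⟨x, hx.1⟩
      have a1 : orderOf x ∣ p ^ k := orderOf_dvd_of_pow_eq_one (congrArg Subtype.val hk)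
      have a2 : orderOf x ∣ Nat.card D.T := by
        have := orderOf_dvd_natCard (⟨x, hx.2⟩ : D.T)
        rwa [Subgroup.orderOf_mk] at this
      exact orderOf_eq_one_iff.1 (Nat.eq_one_of_dvd_coprimes
        (Nat.Coprime.pow_left k (E.hp.coprime_iff_not_dvd.2 hT)) a1 a2))
  obtain ⟨a, ha⟩ := IsPGroup.iff_card.1 hU
  have h3 : a = E.h * (E.f true + E.f false) := by
    have h4 := E.hB
    rw [h2, ha] at h4
    have h5 := congrArg (padicValNat p) h4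
    rw [padicValNat.mul (pow_ne_zero _ E.hp.ne_zero) Nat.card_pos.ne', padicValNat.mul (pow_ne_zero _ E.hp.ne_zero)
      (fun h : E.b = 0 => E.pb (h ▸ dvd_zero p)), padicValNat.prime_pow, padicValNat.prime_pow,
      padicValNat.eq_zero_of_not_dvd hT, padicValNat.eq_zero_of_not_dvd E.pb] at h5
    exact h5
  have hq0 : 0 < D.q i := Nat.card_pos
  have h6 : ∀ k, D.Q i (2 * k) = p ^ (k * (E.f true + E.f false)) := by
    intro k
    induction k with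
    | zero => rw [mul_zero, Q_zero, zero_mul, pow_zero]
    | succ k ih =>
      rw [show 2 * (k + 1) = 2 * k + 1 + 1 by ring, Q_succ, Q_succ, ih, lt_succ, lt_even i (even_two_mul k), E.hq, E.hq,
        ← pow_add, ← pow_add, ← E.add i]
      congr 1
      ring
  have h7 : D.Q (!i) (D.m - 1) * D.q i = p ^ a := by
    rw [← Q_succ', show D.m - 1 + 1 = D.m by have := D.m_pos; omega, E.hm, h6, h3]
  refine ⟨Nat.eq_of_mul_eq_mul_right hq0 (by rw [← h1, ha, h7]), Nat.eq_of_mul_eq_mul_right hq0 ?_⟩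
  rw [← h1, ha, h3, E.hq, ← pow_add]
  congr 1
  have := E.add i
  have := E.h2
  have : E.f true + E.f false ≤ E.h * (E.f true + E.f false) := Nat.le_mul_of_pos_left _ (by omega)
  omega

variable {D} {V : Type} [AddCommGroup V] [Module ℂ V] (ρ : Representation ℂ G V)

theorem mid_zero (i : Bool) (hU : av ρ D.U = 0) {j : ℕ} (h0 : j ≠ 0) (hj : j + 1 < D.m) :
    av ρ (D.V i) * ρ (alt D.n (!i) j) * av ρ (D.V i) = 0 := by
  have hodd : ∀ j, Odd j → j + 1 < D.m → av ρ (D.V i) * ρ (alt D.n (!i) j) * av ρ (D.V i) = 0 := by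
    intro j ho hj
    have h2 : av ρ (D.V i) * ρ (alt D.n (!i) j) * av ρ (D.X i) = av ρ (D.V i) * ρ (alt D.n (!i) j) :=
      mul_av_of ρ fun x hx => by
        have h3 : alt D.n (!i) j * x * (alt D.n (!i) j)⁻¹ ∈ D.V i := by
          refine D.mem_V (D.red' i (by omega) hx) ?_
          have h4 := D.red' i hj hx
          rw [alt_succ, lt_odd _ ho, Bool.not_not] at h4
          rwa [show D.n i * (alt D.n (!i) j * x * (alt D.n (!i) j)⁻¹) * (D.n i)⁻¹ =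
            D.n i * alt D.n (!i) j * x * (D.n i * alt D.n (!i) j)⁻¹ by group]
        rw [mul_assoc, ← map_mul, show alt D.n (!i) j * x = alt D.n (!i) j * x * (alt D.n (!i) j)⁻¹ * alt D.n (!i) j by
          group, map_mul, ← mul_assoc, av_rho ρ h3]
    rw [← h2, mul_assoc, D.av_X_V ρ i, hU, mul_zero]
  rcases Nat.even_or_odd j with h | h
  · obtain ⟨k, rfl⟩ : ∃ k, j = k + 1 := ⟨j - 1, by omega⟩
    have hk : Odd k := by
      rw [Nat.even_add_one, Nat.not_even_iff_odd] at h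
      exact h
    rw [alt_succ, lt_odd _ hk, Bool.not_not, map_mul, ← mul_assoc, ← D.Par_av ρ (D.n_mem_Par i), mul_assoc (ρ _),
      mul_assoc (ρ _), hodd k hk (by omega), mul_zero]
  · exact hodd j h hj

/-- the double cosets of the parabolic subgroup -/
theorem cases3 (i : Bool) (hU : av ρ D.U = 0) (g : G) : g ∈ D.Par i ∨ (∃ a ∈ D.Par i, ∃ b ∈ D.Par i, g = a * D.n0 i * b) ∨
    av ρ (D.V i) * ρ g * av ρ (D.V i) = 0 := by
  obtain ⟨j, hj, b, hb, y, hy, rfl⟩ := D.exists_alt_Par i g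
  by_cases h0 : j = 0
  · subst h0
    left
    rw [alt_zero, mul_one]
    exact mul_mem (D.B_le_Par i hb) hy
  by_cases h1 : j = D.m - 1
  · subst h1
    exact Or.inr (Or.inl ⟨b, D.B_le_Par i hb, y, hy, rfl⟩)
  have h3 := mid_zero ρ i hU h0 (by omega)
  refine Or.inr (Or.inr ?_)
  rw [map_mul, map_mul, mul_assoc _ _ (av ρ (D.V i)), mul_assoc _ (ρ y), D.Par_av ρ hy, ← mul_assoc, ← mul_assoc,
    ← mul_assoc, ← D.Par_av ρ (D.B_le_Par i hb), mul_assoc (ρ b), mul_assoc (ρ b), h3, mul_zero, zero_mul]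

variable (D)

/-- the intertwining operator -/
noncomputable def K (i : Bool) : Module.End ℂ V := av ρ (D.V i) * ρ (D.n0 i) * av ρ (D.V i)

variable {D}

theorem av_K (i : Bool) : av ρ (D.V i) * D.K ρ i = D.K ρ i := by
  rw [K, ← mul_assoc, ← mul_assoc, av_av ρ le_rfl]

theorem K_av (i : Bool) : D.K ρ i * av ρ (D.V i) = D.K ρ i := by
  rw [K, mul_assoc, av_av ρ le_rfl]

theorem K_Lv {i : Bool} {l : G} (hl : l ∈ D.Lv i) : D.K ρ i * ρ l = ρ (D.n0 i * l * (D.n0 i)⁻¹) * D.K ρ i := by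
  rw [K, mul_assoc, ← D.Par_av ρ hl.1, ← mul_assoc, ← mul_assoc, ← mul_assoc, D.Par_av ρ (D.mem_Lv.1 hl).2, mul_assoc _ (ρ _) (ρ l),
    mul_assoc _ (ρ _) (ρ (D.n0 i)), ← map_mul, ← map_mul, inv_mul_cancel_right]

theorem Lv_K (hm : Even D.m) {i : Bool} {l : G} (hl : l ∈ D.Lv i) :
    ρ l * D.K ρ i = D.K ρ i * ρ ((D.n0 i)⁻¹ * l * D.n0 i) := by
  rw [K_Lv ρ (D.Lv_conj hm hl)]
  congr 2
  group

theorem K_Par (hm : Even D.m) {i : Bool} {y : G} (hy : y ∈ D.Par i) :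
    ∃ y' ∈ D.Par i, D.K ρ i * ρ y = ρ y' * D.K ρ i := by
  obtain ⟨l, hl, v, hv, rfl⟩ := D.Par_form hm hy
  refine ⟨_, (D.mem_Lv.1 hl).2, ?_⟩
  rw [← K_Lv ρ hl, ← K_av, mul_assoc, mul_assoc, ← D.Par_av ρ hy, ← D.Par_av ρ hl.1, map_mul, mul_assoc, rho_av ρ hv]

theorem Par_K (hm : Even D.m) {i : Bool} {y : G} (hy : y ∈ D.Par i) :
    ∃ y' ∈ D.Par i, ρ y * D.K ρ i = D.K ρ i * ρ y' := by
  obtain ⟨l, hl, v, hv, rfl⟩ := D.Par_form hm hy
  refine ⟨_, (D.Lv_conj hm hl).1, ?_⟩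
  rw [← Lv_K ρ hm hl, ← av_K, map_mul, mul_assoc, ← mul_assoc (ρ v), rho_av ρ hv]

theorem big (i : Bool) {a b : G} (ha : a ∈ D.Par i) (hb : b ∈ D.Par i) :
    av ρ (D.V i) * ρ (a * D.n0 i * b) * av ρ (D.V i) = ρ a * D.K ρ i * ρ b := by
  rw [K, map_mul, map_mul, mul_assoc _ _ (av ρ (D.V i)), mul_assoc _ (ρ b), D.Par_av ρ hb, ← mul_assoc, ← mul_assoc,
    ← mul_assoc, ← D.Par_av ρ ha, ← mul_assoc, ← mul_assoc]

variable (D)

/-- the compressed conjugates of the projection -/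
noncomputable def Mg (i : Bool) (g : G) : Module.End ℂ V :=
  av ρ (D.V i) * ρ g * av ρ (D.V i) * ρ g⁻¹ * av ρ (D.V i)

variable {D}

theorem Mg_conj {i : Bool} {a b : G} (ha : a ∈ D.Par i) (hb : b ∈ D.Par i) (g : G) :
    D.Mg ρ i (a * g * b) = ρ a * D.Mg ρ i g * ρ a⁻¹ := by
  have h1 : ρ b * av ρ (D.V i) * ρ b⁻¹ = av ρ (D.V i) := by
    rw [D.Par_av ρ hb, mul_assoc, ← map_mul, mul_inv_cancel, map_one, mul_one]
  have h2 : D.Mg ρ i (a * g * b) =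
      (av ρ (D.V i) * ρ a) * ρ g * (ρ b * av ρ (D.V i) * ρ b⁻¹) * ρ g⁻¹ * (ρ a⁻¹ * av ρ (D.V i)) := by
    simp only [Mg, mul_inv_rev, map_mul, mul_assoc]
  rw [h2, h1, ← D.Par_av ρ ha, D.Par_av ρ (inv_mem ha)]
  simp only [Mg, mul_assoc]

theorem Mg_one (i : Bool) : D.Mg ρ i 1 = av ρ (D.V i) := by
  rw [Mg, inv_one, map_one, mul_one, mul_one, av_av ρ le_rfl, av_av ρ le_rfl]

theorem Mg_n0 (hm : Even D.m) {i : Bool} {y : G} (hy : y ∈ D.Par i) :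
    ρ y * D.Mg ρ i (D.n0 i) * ρ y⁻¹ = D.Mg ρ i (D.n0 i) := by
  obtain ⟨l, hl, v, hv, rfl⟩ := D.Par_form hm hy
  have h1 : ρ v * D.Mg ρ i (D.n0 i) * ρ v⁻¹ = D.Mg ρ i (D.n0 i) := by
    rw [Mg, ← mul_assoc, ← mul_assoc, ← mul_assoc, ← mul_assoc, rho_av ρ hv, mul_assoc, av_rho ρ (inv_mem hv)]
  have h2 := Mg_conj ρ hl.1 (inv_mem (D.Lv_conj hm hl).1) (D.n0 i)
  rw [show l * D.n0 i * ((D.n0 i)⁻¹ * l * D.n0 i)⁻¹ = D.n0 i by group] at h2
  rw [mul_inv_rev, map_mul, map_mul, ← mul_assoc, mul_assoc (ρ l), mul_assoc (ρ l), h1, ← h2]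

theorem Mg_inv (hm : Even D.m) {i : Bool} (hU : av ρ D.U = 0) {a b : G} (ha : a ∈ D.Par i) (hb : b ∈ D.Par i) (g : G) :
    D.Mg ρ i (a * g * b) = D.Mg ρ i g := by
  rw [Mg_conj ρ ha hb]
  rcases cases3 ρ i hU g with h | ⟨c, hc, d, hd, rfl⟩ | h
  · have h1 := Mg_conj ρ h (one_mem _) 1
    rw [mul_one, mul_one, Mg_one, D.Par_av ρ h, mul_assoc, ← map_mul, mul_inv_cancel, map_one, mul_one] at h1
    rw [h1, D.Par_av ρ ha, mul_assoc, ← map_mul, mul_inv_cancel, map_one, mul_one]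
  · rw [Mg_conj ρ hc hd, Mg_n0 ρ hm hc, Mg_n0 ρ hm ha]
  · rw [Mg, h, zero_mul, zero_mul, mul_zero, zero_mul]

/-- Schur's relation -/
theorem Mg_scalar [FiniteDimensional ℂ V] [ρ.IsIrreducible] (hm : Even D.m) (i : Bool) (hU : av ρ D.U = 0) :
    ((Nat.card G : ℂ) * finrank ℂ (LinearMap.range (av ρ (D.V i))) / finrank ℂ V) • av ρ (D.V i) =
      (Nat.card (D.Par i) : ℂ) • (av ρ (D.V i) + (D.Q (!i) (D.m - 1) : ℂ) • D.Mg ρ i (D.n0 i)) := by
  have := Fintype.ofFinite G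
  have h1 := congrArg (fun f => av ρ (D.V i) * f * av ρ (D.V i)) (Ito.sum_conj ρ (av ρ (D.V i)))
  simp only [Finset.mul_sum, Finset.sum_mul, mul_smul_comm, smul_mul_assoc, mul_one] at h1
  rw [av_av ρ le_rfl, trace_idem (av_av ρ le_rfl), ← Nat.card_eq_fintype_card] at h1
  rw [← h1, ← sub_eq_zero, ← Module.forall_dual_apply_eq_zero_iff ℂ]
  intro φ
  rw [map_sub, sub_eq_zero, map_sum]
  have h2 := D.sum_eq i (fun g => φ (D.Mg ρ i g)) fun b hb b' hb' g => by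
    rw [Mg_inv ρ hm hU (D.B_le_Par i hb) (D.B_le_Par i hb')]
  have h3 : ∀ g, D.Mg ρ i (g * D.n i) = D.Mg ρ i g := fun g => by
    have := Mg_inv ρ hm hU (one_mem _) (D.n_mem_Par i) g
    rwa [one_mul] at this
  obtain ⟨k, hk⟩ : ∃ k, D.m = k + 1 + 1 := ⟨D.m - 2, by
    have := D.m_pos
    obtain ⟨r, hr⟩ := hm
    omega⟩
  have h4 : ∑ j ∈ Finset.range D.m, (D.Q (!i) j : ℂ) *
      (φ (D.Mg ρ i (alt D.n (!i) j)) + D.q i * φ (D.Mg ρ i (alt D.n (!i) j * D.n i))) =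
      (1 + D.q i) * (φ (av ρ (D.V i)) + D.Q (!i) (D.m - 1) * φ (D.Mg ρ i (D.n0 i))) := by
    simp only [h3]
    unfold n0
    rw [hk, Finset.sum_range_succ, Finset.sum_range_succ', Finset.sum_eq_zero, alt_zero, Mg_one, Q_zero,
      Nat.add_sub_cancel]
    · push_cast
      ring
    · intro j hj
      rw [Mg, mid_zero ρ i hU (by omega) (by have := Finset.mem_range.1 hj; omega), zero_mul, zero_mul, map_zero]
      ring
  rw [h4] at h2
  rw [map_smul, map_add, map_smul, D.card_Par]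
  simp only [smul_eq_mul]
  push_cast
  rw [mul_right_comm, mul_comm _ (Nat.card D.P.B : ℂ), ← h2]
  refine Finset.sum_congr rfl fun g _ => ?_
  simp only [Mg, mul_assoc]

/-- the quadratic relation -/
theorem Mg_quad (hm : Even D.m) (i : Bool) (hV : Nat.card (D.V i) = D.Q (!i) (D.m - 1)) (hU : av ρ D.U = 0) :
    ∃ Z ∈ Submodule.span ℤ (ρ '' (D.Par i : Set G)), ∃ Z' ∈ Submodule.span ℤ (ρ '' (D.Par i : Set G)),
      (D.Q (!i) (D.m - 1) : ℂ) • D.Mg ρ i (D.n0 i) = av ρ (D.V i) + Z * D.K ρ i ∧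
      (D.Q (!i) (D.m - 1) : ℂ) • D.Mg ρ i (D.n0 i) = av ρ (D.V i) + D.K ρ i * Z' := by
  classical
  have := Fintype.ofFinite (D.V i)
  obtain ⟨t, ht, e⟩ := D.n0_inv hm i
  have h1 : ∀ v : D.V i, ∃ z ∈ Submodule.span ℤ (ρ '' (D.Par i : Set G)),
      ∃ z' ∈ Submodule.span ℤ (ρ '' (D.Par i : Set G)), v ≠ 1 →
      av ρ (D.V i) * ρ (D.n0 i * v * (D.n0 i)⁻¹) * av ρ (D.V i) = z * D.K ρ i ∧
      av ρ (D.V i) * ρ (D.n0 i * v * (D.n0 i)⁻¹) * av ρ (D.V i) = D.K ρ i * z' := by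
    intro v
    rcases cases3 ρ i hU (D.n0 i * v * (D.n0 i)⁻¹) with h | ⟨a, ha, b, hb, h⟩ | h
    · refine ⟨0, zero_mem _, 0, zero_mem _, fun hv => absurd (Subtype.ext ?_) hv⟩
      have h2 := D.inj_V hm i hV (D.TV (inv_mem ht) v.2) (by
        have h3 : (D.n0 i)⁻¹ * (t⁻¹ * v * t⁻¹⁻¹) * D.n0 i = D.n0 i * v * (D.n0 i)⁻¹ := by
          calc (D.n0 i)⁻¹ * (t⁻¹ * v * t⁻¹⁻¹) * D.n0 i = (D.n0 i)⁻¹ * (t⁻¹ * v * t⁻¹⁻¹) * ((D.n0 i)⁻¹)⁻¹ := by
                rw [inv_inv (D.n0 i)]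
            _ = (D.n0 i * t) * (t⁻¹ * v * t⁻¹⁻¹) * (D.n0 i * t)⁻¹ := by rw [← e]
            _ = _ := by group
        rwa [h3])
      rw [mul_inv_eq_one, mul_eq_left] at h2
      exact h2
    · obtain ⟨a', ha', e1⟩ := Par_K ρ hm ha
      obtain ⟨b', hb', e2⟩ := K_Par ρ hm hb
      refine ⟨ρ (a * b'), Submodule.subset_span ⟨_, mul_mem ha hb', rfl⟩, ρ (a' * b),
        Submodule.subset_span ⟨_, mul_mem ha' hb, rfl⟩, fun _ => ?_⟩
      rw [h, big ρ i ha hb]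
      exact ⟨by rw [mul_assoc, e2, map_mul, mul_assoc], by rw [e1, map_mul, mul_assoc]⟩
    · exact ⟨0, zero_mem _, 0, zero_mem _, fun _ => ⟨by rw [h, zero_mul], by rw [h, mul_zero]⟩⟩
  choose z hz z' hz' hzz using h1
  have h2 : (D.Q (!i) (D.m - 1) : ℂ) • D.Mg ρ i (D.n0 i) = av ρ (D.V i) +
      ∑ v ∈ Finset.univ.erase (1 : D.V i), av ρ (D.V i) * ρ (D.n0 i * v * (D.n0 i)⁻¹) * av ρ (D.V i) := by
    have h3 : D.Mg ρ i (D.n0 i) = (Nat.card (D.V i) : ℂ)⁻¹ •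
        ∑ v : D.V i, av ρ (D.V i) * ρ (D.n0 i * v * (D.n0 i)⁻¹) * av ρ (D.V i) := by
      unfold Mg
      nth_rewrite 2 [av_def]
      simp only [mul_smul_comm, smul_mul_assoc, Finset.mul_sum, Finset.sum_mul, map_mul, mul_assoc]
    rw [h3, ← hV, smul_smul, mul_inv_cancel₀ (card_ne _), one_smul,
      ← Finset.add_sum_erase _ _ (Finset.mem_univ (1 : D.V i)), Subgroup.coe_one, mul_one, mul_inv_cancel, map_one,
      mul_one, av_av ρ le_rfl]
  refine ⟨∑ v ∈ Finset.univ.erase (1 : D.V i), z v, sum_mem fun v _ => hz v,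
    ∑ v ∈ Finset.univ.erase (1 : D.V i), z' v, sum_mem fun v _ => hz' v, ?_, ?_⟩
  · rw [h2, Finset.sum_mul]
    congr 1
    exact Finset.sum_congr rfl fun v hv => (hzz v (Finset.ne_of_mem_erase hv)).1
  · rw [h2, Finset.mul_sum]
    congr 1
    exact Finset.sum_congr rfl fun v hv => (hzz v (Finset.ne_of_mem_erase hv)).2

/-- **The characters with cuspidal support in the Levi subgroup** -/
theorem cusp [FiniteDimensional ℂ V] [ρ.IsIrreducible] (hm : Even D.m) (i : Bool)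
    (hV : Nat.card (D.V i) = D.Q (!i) (D.m - 1)) {p e : ℕ} (hp : p.Prime) (he : Nat.card (D.V i) = p ^ e)
    (hU : av ρ D.U = 0) (h0 : av ρ (D.V i) ≠ 0) : ∃ x : ℚ,
      ((Nat.card G * finrank ℂ (LinearMap.range (av ρ (D.V i))) : ℕ) : ℚ) =
        (finrank ℂ V : ℕ) * ((1 + x) * Nat.card (D.Par i)) ∧
      (∃ j : ℤ, |j| ≤ e ∧ (x = (p : ℚ) ^ j ∨ x = -(p : ℚ) ^ j)) ∧
      (x ≠ 1 → ∀ g ∈ D.Lv i, LinearMap.trace ℂ V (ρ g * av ρ (D.V i)) =
        LinearMap.trace ℂ V (ρ ((D.n0 i)⁻¹ * g * D.n0 i) * av ρ (D.V i))) := by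
  have hn : (finrank ℂ V : ℂ) ≠ 0 := Nat.cast_ne_zero.2 (Ito.finrank_pos_of_irreducible ρ).ne'
  have hP := card_ne (D.Par i)
  obtain ⟨x, hx⟩ : ∃ x : ℚ, x = (Nat.card G * finrank ℂ (LinearMap.range (av ρ (D.V i))) : ℚ) /
    (finrank ℂ V * Nat.card (D.Par i)) - 1 := ⟨_, rfl⟩
  have hM : (D.Q (!i) (D.m - 1) : ℂ) • D.Mg ρ i (D.n0 i) = (x : ℂ) • av ρ (D.V i) := by
    have h1 := congrArg (fun f => (Nat.card (D.Par i) : ℂ)⁻¹ • f) (Mg_scalar ρ hm i hU)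
    simp only [smul_smul, inv_mul_cancel₀ hP, one_smul] at h1
    rw [← sub_eq_iff_eq_add'] at h1
    rw [← h1, hx]
    push_cast
    rw [sub_smul, one_smul]
    congr 2
    field_simp
  obtain ⟨Z, hZ, Z', hZ', e1, e2⟩ := Mg_quad ρ hm i hV hU
  rw [hM, ← sub_eq_iff_eq_add'] at e1 e2
  have e3 : Z * D.K ρ i = ((x : ℂ) - 1) • av ρ (D.V i) := by rw [← e1, sub_smul, one_smul]
  have e4 : D.K ρ i * Z' = ((x : ℂ) - 1) • av ρ (D.V i) := by rw [← e2, sub_smul, one_smul]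
  have hspan : ∀ {A : Module.End ℂ V}, (∀ y ∈ D.Par i, ρ y * A = A * ρ y) →
      ∀ {B : Module.End ℂ V}, B ∈ Submodule.span ℤ (ρ '' (D.Par i : Set G)) → B * A = A * B := by
    intro A hA B hB
    induction hB using Submodule.span_induction with
    | mem B hB =>
      obtain ⟨y, hy, rfl⟩ := hB
      exact hA y hy
    | zero => rw [zero_mul, mul_zero]
    | add B C _ _ h1 h2 => rw [add_mul, mul_add, h1, h2]
    | smul k B _ h1 => rw [smul_mul_assoc, mul_smul_comm, h1]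
  refine ⟨x, ?_, ?_, fun hx1 g hg => ?_⟩
  · have hn' : (finrank ℂ V : ℚ) ≠ 0 := Nat.cast_ne_zero.2 (Ito.finrank_pos_of_irreducible ρ).ne'
    have hP' : (Nat.card (D.Par i) : ℚ) ≠ 0 := Nat.cast_ne_zero.2 Nat.card_pos.ne'
    rw [hx]
    push_cast
    field_simp
    ring
  · obtain ⟨t, ht, et⟩ := D.n0_inv hm i
    have htP := D.B_le_Par i (D.TB ht)
    have e5 : D.Mg ρ i (D.n0 i) = D.K ρ i * (D.K ρ i * ρ t) := by
      have h1 := big ρ i (one_mem _) htP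
      rw [one_mul, map_one, one_mul, ← et] at h1
      rw [← h1, Mg, K, mul_assoc _ (av ρ (D.V i)) (_ * _ * _), ← mul_assoc (av ρ (D.V i)) (_ * _),
        ← mul_assoc (av ρ (D.V i)) (av ρ (D.V i)), av_av ρ le_rfl]
      simp only [mul_assoc]
    have e6 : (x : ℂ) • (Z * (ρ t⁻¹ * Z') * av ρ (D.V i)) =
        ((D.Q (!i) (D.m - 1) : ℂ) * ((x : ℂ) - 1) ^ 2) • av ρ (D.V i) := by
      have h1 : av ρ (D.V i) * (ρ t⁻¹ * Z') = ρ t⁻¹ * Z' * av ρ (D.V i) := by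
        rw [← mul_assoc, ← D.Par_av ρ (inv_mem htP), mul_assoc, mul_assoc,
          hspan (fun y hy => D.Par_av ρ hy) hZ']
      rw [mul_assoc Z, ← h1, ← mul_smul_comm, ← smul_mul_assoc, ← hM, e5, smul_mul_assoc, mul_smul_comm, mul_assoc,
        mul_assoc, ← mul_assoc (ρ t), ← map_mul, mul_inv_cancel, map_one, one_mul, e4, ← mul_assoc, e3,
        smul_mul_assoc, mul_smul_comm, av_av ρ le_rfl, smul_smul, smul_smul, pow_two, mul_assoc]
    obtain ⟨w, hw⟩ : ∃ w, av ρ (D.V i) w ≠ 0 := by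
      by_contra hc
      push Not at hc
      exact h0 (LinearMap.ext hc)
    have hQ : (D.Q (!i) (D.m - 1) : ℂ) ≠ 0 := hV ▸ card_ne _
    have hx0 : (x : ℂ) ≠ 0 := by
      intro h
      rw [h, zero_smul, eq_comm, smul_eq_zero] at e6
      refine h0 (e6.resolve_left (mul_ne_zero hQ ?_))
      norm_num
    have hint : IsIntegral ℤ (((p : ℚ) ^ e * (x - 1) ^ 2 / x : ℚ) : ℂ) := by
      refine eig_sum ρ (A := Z * (ρ t⁻¹ * Z')) ?_ hw ?_
      · have hle : Submodule.span ℤ (ρ '' (D.Par i : Set G)) ≤ Submodule.span ℤ (Set.range ρ) :=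
          Submodule.span_mono (Set.image_subset_range _ _)
        have hmul : ∀ {A B : Module.End ℂ V}, A ∈ Submodule.span ℤ (Set.range ρ) →
            B ∈ Submodule.span ℤ (Set.range ρ) → A * B ∈ Submodule.span ℤ (Set.range ρ) := by
          intro A B hA hB
          have h1 := Submodule.mul_mem_mul hA hB
          rw [Submodule.span_mul_span] at h1
          refine Submodule.span_mono ?_ h1
          rintro _ ⟨_, ⟨a, rfl⟩, _, ⟨b, rfl⟩, rfl⟩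
          exact ⟨a * b, map_mul ρ a b⟩
        exact hmul (hle hZ) (hmul (Submodule.subset_span ⟨_, rfl⟩) (hle hZ'))
      · have h1 := congrArg (fun f : Module.End ℂ V => (x : ℂ)⁻¹ • f w) e6
        simp only [LinearMap.smul_apply, smul_smul, inv_mul_cancel₀ hx0, one_smul] at h1
        rw [← Module.End.mul_apply, h1, ← hV, he]
        congr 1
        push_cast
        field_simp
    obtain ⟨z, hz⟩ := IsIntegrallyClosed.isIntegral_iff.1
      ((isIntegral_algebraMap_iff (R := ℤ) (algebraMap ℚ ℂ).injective).1 hint)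
    refine rat_pow hp (z := z) ?_
    have hx0' : x ≠ 0 := fun h => hx0 (by rw [h, Rat.cast_zero])
    have h1 : (z : ℚ) = (p : ℚ) ^ e * (x - 1) ^ 2 / x := hz
    rw [h1, div_mul_cancel₀ _ hx0']
  · have := Fintype.ofFinite (D.Lv i)
    obtain ⟨A, hA⟩ : ∃ A, A = (∑ l : D.Lv i, ρ l * ρ g * ρ (l : G)⁻¹) * av ρ (D.V i) := ⟨_, rfl⟩
    obtain ⟨A', hA'⟩ : ∃ A', A' = ∑ l : D.Lv i, ρ ((D.n0 i)⁻¹ * (l * g * (l : G)⁻¹) * D.n0 i) := ⟨_, rfl⟩
    have hmem : ∀ l : D.Lv i, l * g * (l : G)⁻¹ ∈ D.Lv i := fun l => mul_mem (mul_mem l.2 hg) (inv_mem l.2)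
    have c0 : (∑ l : D.Lv i, ρ l * ρ g * ρ (l : G)⁻¹) * av ρ (D.V i) =
        av ρ (D.V i) * ∑ l : D.Lv i, ρ l * ρ g * ρ (l : G)⁻¹ := by
      rw [Finset.sum_mul, Finset.mul_sum]
      refine Finset.sum_congr rfl fun l _ => ?_
      rw [← map_mul, ← map_mul, D.Par_av ρ (hmem l).1]
    have c1 : ∀ y ∈ D.Par i, ρ y * A = A * ρ y := by
      intro y hy
      obtain ⟨l, hl, v, hv, rfl⟩ := D.Par_form hm hy
      rw [hA, mul_assoc _ (av ρ (D.V i)), ← D.Par_av ρ hy, map_mul, mul_assoc (ρ l) (ρ v) (av ρ (D.V i)), rho_av ρ hv,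
        mul_assoc (ρ l), c0, ← mul_assoc (ρ v), rho_av ρ hv, ← c0, ← mul_assoc, comm_sum _ _ hl, mul_assoc]
    have c2 : A * D.K ρ i = D.K ρ i * A' := by
      rw [hA, hA', mul_assoc, av_K, Finset.sum_mul, Finset.mul_sum]
      refine Finset.sum_congr rfl fun l _ => ?_
      rw [← map_mul, ← map_mul, Lv_K ρ hm (hmem l)]
    have c3 : A * av ρ (D.V i) = av ρ (D.V i) * A' := by
      have h1 : ((x : ℂ) - 1) • (A * av ρ (D.V i)) = ((x : ℂ) - 1) • (av ρ (D.V i) * A') := by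
        rw [← mul_smul_comm, ← smul_mul_assoc, ← e3, ← mul_assoc, ← hspan c1 hZ, mul_assoc, c2, mul_assoc]
      exact smul_right_injective _ (sub_ne_zero.2 (by exact_mod_cast hx1)) h1
    have c4 := congrArg (LinearMap.trace ℂ V) c3
    have tr : ∀ {y k : G}, y ∈ D.Par i → LinearMap.trace ℂ V (ρ (y * k * y⁻¹) * av ρ (D.V i)) =
        LinearMap.trace ℂ V (ρ k * av ρ (D.V i)) := by
      intro y k hy
      rw [map_mul ρ, map_mul ρ, mul_assoc, mul_assoc, LinearMap.trace_mul_comm, D.Par_av ρ (inv_mem hy), mul_assoc,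
        mul_assoc, ← map_mul, inv_mul_cancel, map_one, mul_one]
    rw [hA, hA', mul_assoc, av_av ρ le_rfl, LinearMap.trace_mul_comm ℂ (av ρ (D.V i)), Finset.sum_mul, Finset.sum_mul,
      map_sum, map_sum] at c4
    have t1 : ∀ l : D.Lv i, LinearMap.trace ℂ V (ρ l * ρ g * ρ (l : G)⁻¹ * av ρ (D.V i)) =
        LinearMap.trace ℂ V (ρ g * av ρ (D.V i)) := fun l => by rw [← map_mul, ← map_mul, tr l.2.1]
    have t2 : ∀ l : D.Lv i, LinearMap.trace ℂ V (ρ ((D.n0 i)⁻¹ * (l * g * (l : G)⁻¹) * D.n0 i) * av ρ (D.V i)) =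
        LinearMap.trace ℂ V (ρ ((D.n0 i)⁻¹ * g * D.n0 i) * av ρ (D.V i)) := fun l => by
      rw [← tr (k := (D.n0 i)⁻¹ * g * D.n0 i) (D.Lv_conj hm l.2).1]
      congr 3
      group
    simp only [t1, t2, Finset.sum_const, nsmul_eq_mul] at c4
    exact mul_left_cancel₀ (Nat.cast_ne_zero.2 (Finset.card_pos.2 ⟨1, Finset.mem_univ _⟩).ne') c4

/-- the consequence for the degree -/
theorem Num.dvd_of {p l : ℕ} (E : D.Num p l) (i : Bool) {d n : ℕ} {x : ℚ} (hd : d ≠ 0)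
    (h : ((Nat.card G * d : ℕ) : ℚ) = n * ((1 + x) * Nat.card (D.Par i))) (hx : Good l (1 + x)) (c : ℕ)
    (hc : l ^ c ∣ Nat.card G) : l ^ c ∣ n := by
  have : Fact l.Prime := ⟨E.hl⟩
  refine Good.dvd (mul_ne_zero Nat.card_pos.ne' hd) h (hx.mul ?_) c (hc.mul_right _)
  rw [D.card_Par, E.hq]
  push_cast
  refine Good.mul ?_ (Good.nat E.lB)
  have h1 := Good.one_add (l := l) E.hp.pos E.lp E.prim (c := E.f i) (by have := E.h2; have := E.hl1; omega) (by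
    have := E.add i
    have := E.h2
    have := E.hf (!i)
    rw [abs_of_nonneg (by positivity)]
    have h3 : 2 * E.f i < E.h * (E.f true + E.f false) := by nlinarith
    exact_mod_cast h3)
  rwa [zpow_natCast] at h1

end R2

end Cfsg.Agent.VAN.Rk
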