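import Cfsg.Agent.ChevalleyStructure.BNOrder

/-!
# S4942, rank two: the group theoretic datum (helper77)

`R2 G` : a split BN pair of rank two with dihedral Weyl group of order `2 m`.
-/

set_option autoImplicit false

namespace Cfsg.Agent.VAN.Rk

open Cfsg Cfsg.Agent.LieExceptional.BNPairCore Cfsg.Agent.ChevalleyStructure.BNOrder

universe u

/-- the letters of the alternating word starting with `i` -/
def lt (i : Bool) : ℕ → Bool
  | 0 => i
  | j + 1 => !(lt i j)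

theorem lt_realised : True := by have := @lt.eq_def; trivial

theorem lt_zero (i : Bool) : lt i 0 = i := rfl
theorem lt_succ (i : Bool) (j : ℕ) : lt i (j + 1) = !(lt i j) := rfl

theorem lt_not (i : Bool) (j : ℕ) : lt (!i) j = !(lt i j) := by
  induction j with
  | zero => rfl
  | succ j ih => rw [lt_succ, lt_succ, ih]

theorem lt_add_two (i : Bool) (j : ℕ) : lt i (j + 2) = lt i j := by
  rw [lt_succ, lt_succ, Bool.not_not]

theorem lt_add_two_mul (i : Bool) (j k : ℕ) : lt i (j + 2 * k) = lt i j := by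
  induction k with
  | zero => rfl
  | succ k ih => rw [show j + 2 * (k + 1) = j + 2 * k + 2 by ring, lt_add_two, ih]

theorem lt_lt (i : Bool) (j : ℕ) : lt (lt i j) j = i := by
  induction j with
  | zero => rfl
  | succ j ih => rw [lt_succ, lt_succ, lt_not, Bool.not_not, ih]

theorem lt_even (i : Bool) {j : ℕ} (h : Even j) : lt i j = i := by
  obtain ⟨k, rfl⟩ := h
  have := lt_add_two_mul i 0 k
  rwa [zero_add, two_mul] at this

theorem lt_odd (i : Bool) {j : ℕ} (h : Odd j) : lt i j = !i := by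
  obtain ⟨k, rfl⟩ := h
  rw [lt_succ, lt_even i (even_two_mul k)]

/-- alternating words, the rightmost letter is `i` -/
def alt {G : Type u} [Group G] (n : Bool → G) (i : Bool) : ℕ → G
  | 0 => 1
  | j + 1 => n (lt i j) * alt n i j

theorem alt_realised : True := by have := @alt.eq_def.{0}; trivial

theorem alt_zero {G : Type u} [Group G] (n : Bool → G) (i : Bool) : alt n i 0 = 1 := rfl
theorem alt_succ {G : Type u} [Group G] (n : Bool → G) (i : Bool) (j : ℕ) :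
    alt n i (j + 1) = n (lt i j) * alt n i j := rfl

theorem alt_succ' {G : Type u} [Group G] (n : Bool → G) (i : Bool) (j : ℕ) :
    alt n i (j + 1) = alt n (!i) j * n i := by
  induction j with
  | zero => rw [alt_succ, alt_zero, alt_zero, lt_zero, mul_one, one_mul]
  | succ j ih => rw [alt_succ, ih, alt_succ, lt_succ, lt_not, mul_assoc]

/-- A split BN pair of rank two. -/
structure R2 (G : Type u) [Group G] where
  /-- the BN pair -/
  P : BNPair G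
  /-- the unipotent subgroup -/
  U : Subgroup G
  /-- the torus -/
  T : Subgroup G
  /-- the simple root groups -/
  X : Bool → Subgroup G
  /-- the unipotent radicals -/
  V : Bool → Subgroup G
  /-- the simple reflections -/
  n : Bool → G
  /-- half the order of the Weyl group -/
  m : ℕ
  mem_B : ∀ g, g ∈ P.B ↔ ∃ u ∈ U, ∃ t ∈ T, g = u * t
  S_eq : P.S = Set.range n
  TN : T ≤ P.N
  BN : ∀ g ∈ P.B, g ∈ P.N → g ∈ T
  comm : ∀ s ∈ T, ∀ t ∈ T, s * t = t * s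
  TU : ∀ t ∈ T, ∀ u ∈ U, t * u * t⁻¹ ∈ U
  XU : ∀ i, X i ≤ U
  VU : ∀ i, V i ≤ U
  dec : ∀ i, ∀ u ∈ U, ∃ v ∈ V i, ∃ x ∈ X i, u = v * x
  UV : ∀ i, ∀ u ∈ U, ∀ v ∈ V i, u * v * u⁻¹ ∈ V i
  nV : ∀ i, ∀ v ∈ V i, n i * v * (n i)⁻¹ ∈ U
  rk1 : ∀ i, ∀ x ∈ X i, x ≠ 1 → ∃ u ∈ U, ∃ t ∈ T, ∃ u' ∈ U, (n i)⁻¹ * x * n i = u * t * n i * u'
  rk1' : ∀ i, ∀ x ∈ X i, x ≠ 1 → ∃ u ∈ U, ∃ t ∈ T, ∃ u' ∈ U, n i * x * (n i)⁻¹ = u * t * n i * u'
  m_pos : 0 < m
  red : ∀ i j, j < m → ∀ x ∈ X (lt i j), (alt n i j)⁻¹ * x * alt n i j ∈ U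
  braid : (alt n true m)⁻¹ * alt n false m ∈ T

namespace R2

variable {G : Type u} [Group G] (D : R2 G)

theorem UB : D.U ≤ D.P.B := fun u hu => (D.mem_B u).2 ⟨u, hu, 1, D.T.one_mem, (mul_one u).symm⟩

theorem TB : D.T ≤ D.P.B := fun t ht => (D.mem_B t).2 ⟨1, D.U.one_mem, t, ht, (one_mul t).symm⟩

theorem nS (i : Bool) : D.n i ∈ D.P.S := by rw [D.S_eq]; exact ⟨i, rfl⟩

theorem nN (i : Bool) : D.n i ∈ D.P.N := mem_N (D.nS i)

theorem altN (i : Bool) (j : ℕ) : alt D.n i j ∈ D.P.N := by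
  induction j with
  | zero => exact D.P.N.one_mem
  | succ j ih => exact D.P.N.mul_mem (D.nN _) ih

theorem NT {g t : G} (hg : g ∈ D.P.N) (ht : t ∈ D.T) : g⁻¹ * t * g ∈ D.T :=
  D.BN _ (conj_mem_inv hg (D.TB ht) (D.TN ht))
    (D.P.N.mul_mem (D.P.N.mul_mem (D.P.N.inv_mem hg) (D.TN ht)) hg)

theorem NT' {g t : G} (hg : g ∈ D.P.N) (ht : t ∈ D.T) : g * t * g⁻¹ ∈ D.T := by
  have := D.NT (D.P.N.inv_mem hg) ht
  rwa [inv_inv] at this

theorem sq (i : Bool) : D.n i * D.n i ∈ D.T :=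
  D.BN _ (D.P.sq_mem _ (D.nS i)) (D.P.N.mul_mem (D.nN i) (D.nN i))

theorem TU' {t u : G} (ht : t ∈ D.T) (hu : u ∈ D.U) : t⁻¹ * u * t ∈ D.U := by
  have := D.TU t⁻¹ (D.T.inv_mem ht) u hu
  rwa [inv_inv] at this

theorem BU {b u : G} (hb : b ∈ D.P.B) (hu : u ∈ D.U) : b * u * b⁻¹ ∈ D.U := by
  obtain ⟨v, hv, t, ht, rfl⟩ := (D.mem_B b).1 hb
  have : v * t * u * (v * t)⁻¹ = v * (t * u * t⁻¹) * v⁻¹ := by group
  rw [this]
  exact D.U.mul_mem (D.U.mul_mem hv (D.TU t ht u hu)) (D.U.inv_mem hv)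

theorem mem_B' {g : G} (hg : g ∈ D.P.B) : ∃ t ∈ D.T, ∃ u ∈ D.U, g = t * u := by
  obtain ⟨u, hu, t, ht, rfl⟩ := (D.mem_B g).1 hg
  exact ⟨t, ht, t⁻¹ * u * t, D.TU' ht hu, by group⟩

theorem braid' (i : Bool) : (alt D.n i D.m)⁻¹ * alt D.n (!i) D.m ∈ D.T := by
  cases i
  · have := D.T.inv_mem D.braid
    rwa [mul_inv_rev, inv_inv] at this
  · exact D.braid

theorem eq_one_of_conj {i : Bool} {x : G} (hx : x ∈ D.X i) (h : (D.n i)⁻¹ * x * D.n i ∈ D.P.B) : x = 1 := by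
  by_contra h1
  obtain ⟨u, hu, t, ht, u', hu', e⟩ := D.rk1 i x hx h1
  apply not_mem_B (D.nS i)
  have h2 : D.n i = (u * t)⁻¹ * ((D.n i)⁻¹ * x * D.n i) * u'⁻¹ := by rw [e]; group
  rw [h2]
  exact D.P.B.mul_mem (D.P.B.mul_mem (D.P.B.inv_mem (D.P.B.mul_mem (D.UB hu) (D.TB ht))) h)
    (D.P.B.inv_mem (D.UB hu'))

theorem eq_one_of_conj' {i : Bool} {x : G} (hx : x ∈ D.X i) (h : D.n i * x * (D.n i)⁻¹ ∈ D.P.B) : x = 1 := by
  by_contra h1
  obtain ⟨u, hu, t, ht, u', hu', e⟩ := D.rk1' i x hx h1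
  apply not_mem_B (D.nS i)
  have h2 : D.n i = (u * t)⁻¹ * (D.n i * x * (D.n i)⁻¹) * u'⁻¹ := by rw [e]; group
  rw [h2]
  exact D.P.B.mul_mem (D.P.B.mul_mem (D.P.B.inv_mem (D.P.B.mul_mem (D.UB hu) (D.TB ht))) h)
    (D.P.B.inv_mem (D.UB hu'))

theorem mem_V {i : Bool} {u : G} (hu : u ∈ D.U) (h : D.n i * u * (D.n i)⁻¹ ∈ D.U) : u ∈ D.V i := by
  obtain ⟨v, hv, x, hx, rfl⟩ := D.dec i u hu
  have h1 : D.n i * x * (D.n i)⁻¹ = (D.n i * v * (D.n i)⁻¹)⁻¹ * (D.n i * (v * x) * (D.n i)⁻¹) := by group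
  have h2 : x = 1 := D.eq_one_of_conj' hx (by
    rw [h1]
    exact D.UB (D.U.mul_mem (D.U.inv_mem (D.nV i v hv)) h))
  rw [h2, mul_one]
  exact hv

theorem TV {i : Bool} {t v : G} (ht : t ∈ D.T) (hv : v ∈ D.V i) : t * v * t⁻¹ ∈ D.V i := by
  refine D.mem_V (D.TU t ht v (D.VU i hv)) ?_
  have h1 : D.n i * (t * v * t⁻¹) * (D.n i)⁻¹ =
      (D.n i * t * (D.n i)⁻¹) * (D.n i * v * (D.n i)⁻¹) * (D.n i * t * (D.n i)⁻¹)⁻¹ := by group
  rw [h1]
  exact D.TU _ (D.NT' (D.nN i) ht) _ (D.nV i v hv)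

theorem BV {i : Bool} {b v : G} (hb : b ∈ D.P.B) (hv : v ∈ D.V i) : b * v * b⁻¹ ∈ D.V i := by
  obtain ⟨u, hu, t, ht, rfl⟩ := (D.mem_B b).1 hb
  have : u * t * v * (u * t)⁻¹ = u * (t * v * t⁻¹) * u⁻¹ := by group
  rw [this]
  exact D.UV i u hu _ (D.TV ht hv)

theorem nV' {i : Bool} {v : G} (hv : v ∈ D.V i) : D.n i * v * (D.n i)⁻¹ ∈ D.V i := by
  refine D.mem_V (D.nV i v hv) ?_
  have h1 : D.n i * (D.n i * v * (D.n i)⁻¹) * (D.n i)⁻¹ = (D.n i * D.n i) * v * (D.n i * D.n i)⁻¹ := by group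
  rw [h1]
  exact D.TU _ (D.sq i) _ (D.VU i hv)

theorem nV'' {i : Bool} {v : G} (hv : v ∈ D.V i) : (D.n i)⁻¹ * v * D.n i ∈ D.V i := by
  have h1 : (D.n i)⁻¹ * v * D.n i =
      (D.n i * D.n i)⁻¹ * (D.n i * v * (D.n i)⁻¹) * ((D.n i * D.n i)⁻¹)⁻¹ := by group
  rw [h1]
  exact D.TV (D.T.inv_mem (D.sq i)) (D.nV' hv)

theorem dec' (i : Bool) {u : G} (hu : u ∈ D.U) : ∃ x ∈ D.X i, ∃ v ∈ D.V i, u = x * v := by
  obtain ⟨v, hv, x, hx, rfl⟩ := D.dec i u hu
  refine ⟨x, hx, x⁻¹ * v * x⁻¹⁻¹, D.UV i _ (D.U.inv_mem (D.XU i hx)) v hv, by group⟩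

/-- the inverse of an alternating word -/
theorem alt_inv (i : Bool) (j : ℕ) : ∃ t ∈ D.T, (alt D.n i j)⁻¹ = alt D.n (lt i (j + 1)) j * t := by
  induction j with
  | zero => exact ⟨1, D.T.one_mem, by rw [alt_zero, alt_zero, inv_one, mul_one]⟩
  | succ j ih =>
    obtain ⟨t, ht, e⟩ := ih
    refine ⟨(D.n (lt i j))⁻¹ * t * D.n (lt i j) * (D.n (lt i j) * D.n (lt i j))⁻¹,
      D.T.mul_mem (D.NT (D.nN _) ht) (D.T.inv_mem (D.sq _)), ?_⟩
    rw [alt_succ, mul_inv_rev, e, lt_add_two, alt_succ' D.n (lt i j), lt_succ]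
    group

/-- the right handed form of `red` -/
theorem red' (i : Bool) {j : ℕ} (hj : j < D.m) {x : G} (hx : x ∈ D.X i) :
    alt D.n (!i) j * x * (alt D.n (!i) j)⁻¹ ∈ D.U := by
  obtain ⟨t, ht, e⟩ := D.alt_inv (!i) j
  have h1 : alt D.n (!i) j = t⁻¹ * (alt D.n (lt (!i) (j + 1)) j)⁻¹ := by
    rw [← mul_inv_rev, ← e, inv_inv]
  have h2 : lt (lt (!i) (j + 1)) j = i := by rw [lt_succ, lt_not i, Bool.not_not, lt_lt]
  have h3 := D.red (lt (!i) (j + 1)) j hj x (by rw [h2]; exact hx)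
  have h4 := D.TU' ht h3
  rw [e]
  nth_rewrite 1 [h1]
  have h5 : t⁻¹ * (alt D.n (lt (!i) (j + 1)) j)⁻¹ * x * (alt D.n (lt (!i) (j + 1)) j * t) =
      t⁻¹ * ((alt D.n (lt (!i) (j + 1)) j)⁻¹ * x * alt D.n (lt (!i) (j + 1)) j) * t := by group
  rw [h5]
  exact h4

/-- the two simple roots are not conjugate -/
theorem cross (hm : Even D.m) (i : Bool) {j : ℕ} (hj : j < D.m) {x : G} (hx : x ∈ D.X i) :
    alt D.n (!i) j * x * (alt D.n (!i) j)⁻¹ ∈ D.V (!i) := by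
  refine D.mem_V (D.red' i hj hx) ?_
  rcases Nat.even_or_odd j with h | h
  · have hj1 : j + 1 < D.m := by
      obtain ⟨a, ha⟩ := h
      obtain ⟨b, hb⟩ := hm
      omega
    have h1 := D.red' i hj1 hx
    rw [alt_succ, lt_even _ h] at h1
    have h2 : D.n (!i) * (alt D.n (!i) j * x * (alt D.n (!i) j)⁻¹) * (D.n (!i))⁻¹ =
        D.n (!i) * alt D.n (!i) j * x * (D.n (!i) * alt D.n (!i) j)⁻¹ := by group
    rw [h2]
    exact h1
  · obtain ⟨k, rfl⟩ := h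
    have h1 := D.red' i (j := 2 * k) (by omega) hx
    rw [alt_succ, lt_even _ (even_two_mul k)]
    have h2 : D.n (!i) * (D.n (!i) * alt D.n (!i) (2 * k) * x * (D.n (!i) * alt D.n (!i) (2 * k))⁻¹) * (D.n (!i))⁻¹ =
        (D.n (!i) * D.n (!i)) * (alt D.n (!i) (2 * k) * x * (alt D.n (!i) (2 * k))⁻¹) * (D.n (!i) * D.n (!i))⁻¹ := by
      group
    rw [h2]
    exact D.TU _ (D.sq _) _ h1

/-! ### Double cosets -/

theorem hmul (i : Bool) {j : ℕ} (hj : j < D.m) :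
    ∀ b ∈ D.P.B, D.n (lt i j) * b * alt D.n i j ∈ C D.P (D.n (lt i j) * alt D.n i j) := by
  intro b hb
  obtain ⟨u, hu, t, ht, rfl⟩ := (D.mem_B b).1 hb
  obtain ⟨v, hv, x, hx, rfl⟩ := D.dec (lt i j) u hu
  refine mem_C.2 ⟨D.n (lt i j) * v * (D.n (lt i j))⁻¹, D.UB (D.nV _ v hv),
    ((alt D.n i j)⁻¹ * x * alt D.n i j) * ((alt D.n i j)⁻¹ * t * alt D.n i j),
    D.P.B.mul_mem (D.UB (D.red i j hj x hx)) (D.TB (D.NT (D.altN i j) ht)), by group⟩

theorem len_alt (i : Bool) {j : ℕ} (hj : j ≤ D.m) : len D.P (alt D.n i j) = j := by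
  induction j with
  | zero => exact len_one
  | succ j ih =>
    rw [alt_succ]
    rcases len_mul_left_cases (P := D.P) (D.nS (lt i j)) (D.altN i j) with h | h
    · rw [h, ih (by omega)]
    · exfalso
      obtain ⟨b, hb, h1⟩ := exists_mul_mem_C (P := D.P) (D.nS (lt i j)) (D.altN i j) (by omega)
      exact not_C_mul_left_eq (D.nS _) (D.altN i j) (C_eq_of_mem_mem (D.hmul i (by omega) b hb) h1)

theorem alt_ne (i : Bool) {j : ℕ} (h0 : 0 < j) (hj : j < D.m) : (alt D.n i j)⁻¹ * alt D.n (!i) j ∉ D.P.B := by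
  intro h
  obtain ⟨k, rfl⟩ : ∃ k, j = k + 1 := ⟨j - 1, by omega⟩
  have h1 := D.len_alt i (j := k + 1 + 1) (by omega)
  have h2 := D.len_alt (!i) (j := k) (by omega)
  have h3 : lt (!i) k = lt i (k + 1) := by rw [lt_not, lt_succ]
  have h4 := len_congr (rel_mul_left (P := D.P) (D.n (lt i (k + 1))) h)
  rw [← alt_succ, h1, alt_succ, h3, len_congr (rel_sq_mul (D.nS _) (D.altN _ _)), h2] at h4
  omega

/-- the representatives of the double cosets -/
def rp (i : Bool) (a : ℕ × Bool) : G := if a.2 then alt D.n i (a.1 + 1) else alt D.n (!i) a.1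

theorem rp_true (i : Bool) (j : ℕ) : D.rp i (j, true) = alt D.n i (j + 1) := rfl
theorem rp_false (i : Bool) (j : ℕ) : D.rp i (j, false) = alt D.n (!i) j := rfl

theorem rpN (i : Bool) (a : ℕ × Bool) : D.rp i a ∈ D.P.N := by
  unfold rp
  split_ifs
  · exact D.altN _ _
  · exact D.altN _ _

theorem rp_inj (i : Bool) {a b : ℕ × Bool} (ha : a.1 < D.m) (hb : b.1 < D.m)
    (h : C D.P (D.rp i a) = C D.P (D.rp i b)) : a = b := by
  have h1 := rel_of_C_eq (D.rpN i a) (D.rpN i b) h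
  have h2 := len_congr h1
  obtain ⟨j, c⟩ := a
  obtain ⟨k, d⟩ := b
  simp only at ha hb
  cases c <;> cases d
  · rw [rp_false, rp_false, D.len_alt _ ha.le, D.len_alt _ hb.le] at h2
    rw [h2]
  · rw [rp_false, rp_true] at h1 h2
    rw [D.len_alt _ ha.le, D.len_alt _ (by omega)] at h2
    subst h2
    exact absurd (rel_symm h1) (D.alt_ne i (by omega) ha)
  · rw [rp_true, rp_false] at h1 h2
    rw [D.len_alt _ hb.le, D.len_alt _ (by omega)] at h2
    subst h2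
    exact absurd h1 (D.alt_ne i (by omega) hb)
  · rw [rp_true, rp_true, D.len_alt _ (by omega), D.len_alt _ (by omega)] at h2
    have : j = k := by omega
    rw [this]

theorem exists_alt {g : G} (hg : g ∈ D.P.N) : ∃ i j, j ≤ D.m ∧ (alt D.n i j)⁻¹ * g ∈ D.P.B := by
  obtain ⟨l, hl, h⟩ := exists_word (P := D.P) hg
  suffices H : ∃ i j, j ≤ D.m ∧ (alt D.n i j)⁻¹ * l.prod ∈ D.P.B by
    obtain ⟨i, j, hj, h1⟩ := H
    exact ⟨i, j, hj, rel_trans h1 h⟩
  clear h hg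
  induction l with
  | nil => exact ⟨true, 0, Nat.zero_le _, by simp [alt_zero]⟩
  | cons s l ih =>
    obtain ⟨i, j, hj, h1⟩ := ih fun t ht => hl t (List.mem_cons_of_mem _ ht)
    have hs := hl s List.mem_cons_self
    rw [D.S_eq] at hs
    obtain ⟨c, rfl⟩ := hs
    rw [List.prod_cons]
    have back : ∀ i k, lt i k = c → k + 1 ≤ D.m → (alt D.n i (k + 1))⁻¹ * l.prod ∈ D.P.B →
        ∃ i j, j ≤ D.m ∧ (alt D.n i j)⁻¹ * (D.n c * l.prod) ∈ D.P.B := by
      intro i k hc hk h2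
      refine ⟨i, k, by omega, ?_⟩
      have h3 := rel_mul_left (P := D.P) (D.n c) h2
      rw [alt_succ, hc] at h3
      exact rel_trans (rel_symm (rel_sq_mul (D.nS c) (D.altN i k))) h3
    rcases Nat.eq_zero_or_pos j with rfl | h0
    · refine ⟨c, 1, D.m_pos, ?_⟩
      have h3 := rel_mul_left (P := D.P) (D.n c) h1
      exact h3
    obtain ⟨k, rfl⟩ : ∃ k, j = k + 1 := ⟨j - 1, by omega⟩
    by_cases hc : lt i k = c
    · exact back i k hc hj h1
    have hc' : lt i (k + 1) = c := by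
      rw [lt_succ]
      cases c <;> simpa using hc
    rcases hj.lt_or_eq with h2 | h2
    · refine ⟨i, k + 1 + 1, h2, ?_⟩
      rw [alt_succ, hc']
      exact rel_mul_left _ h1
    · refine back (!i) k (by rw [lt_not, ← lt_succ, hc']) hj ?_
      have h3 := D.TB (D.braid' i)
      rw [← h2] at h3
      exact rel_trans (rel_symm h3) h1

theorem exists_rp (i : Bool) (g : G) : ∃ a : ℕ × Bool, a.1 < D.m ∧ g ∈ C D.P (D.rp i a) := by
  obtain ⟨w, hw, hg⟩ := bruhat (P := D.P) g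
  obtain ⟨c, j, hj, h⟩ := D.exists_alt hw
  rw [← C_eq_of_rel h] at hg
  have key : ∀ j, j ≤ D.m → g ∈ C D.P (alt D.n i j) → ∃ a : ℕ × Bool, a.1 < D.m ∧ g ∈ C D.P (D.rp i a) := by
    intro j hj hg
    rcases Nat.eq_zero_or_pos j with rfl | h0
    · exact ⟨(0, false), D.m_pos, hg⟩
    · obtain ⟨k, rfl⟩ : ∃ k, j = k + 1 := ⟨j - 1, by omega⟩
      exact ⟨(k, true), hj, hg⟩
  by_cases hc : c = i
  · exact key j hj (hc ▸ hg)
  have hc' : c = !i := by cases c <;> cases i <;> simp_all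
  subst hc'
  rcases hj.lt_or_eq with h1 | h1
  · exact ⟨(j, false), h1, hg⟩
  · subst h1
    rw [← C_eq_of_rel (D.TB (D.braid' i))] at hg
    exact key _ le_rfl hg

/-- the order of the root group -/
noncomputable def q (i : Bool) : ℕ := Nat.card (D.X i)

/-- the number of cosets in a double coset -/
noncomputable def Q (i : Bool) (j : ℕ) : ℕ := ∏ k ∈ Finset.range j, D.q (lt i k)

theorem Q_zero (i : Bool) : D.Q i 0 = 1 := Finset.prod_range_zero _

theorem Q_succ (i : Bool) (j : ℕ) : D.Q i (j + 1) = D.q (lt i j) * D.Q i j := by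
  unfold Q
  rw [Finset.prod_range_succ, mul_comm]

theorem Q_succ' (i : Bool) (j : ℕ) : D.Q i (j + 1) = D.Q (!i) j * D.q i := by
  induction j with
  | zero => rw [Q_succ, Q_zero, Q_zero, lt_zero, mul_one, one_mul]
  | succ j ih => rw [Q_succ, ih, Q_succ, lt_succ, lt_not, mul_assoc]

theorem card_C_n (i : Bool) : Nat.card (C D.P (D.n i)) = D.q i * Nat.card D.P.B := by
  refine card_C_of_complement (D.X i : Set G) (fun x hx => D.UB (D.XU i hx)) ?_ ?_
  · intro b hb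
    obtain ⟨u, hu, t, ht, rfl⟩ := (D.mem_B b).1 hb
    obtain ⟨x, hx, v, hv, rfl⟩ := D.dec' i hu
    refine ⟨x, hx, v * t, ?_, by group⟩
    have : (D.n i)⁻¹ * (v * t) * D.n i = ((D.n i)⁻¹ * v * D.n i) * ((D.n i)⁻¹ * t * D.n i) := by group
    rw [this]
    exact D.P.B.mul_mem (D.UB (D.VU i (D.nV'' hv))) (D.TB (D.NT (D.nN i) ht))
  · intro x hx x' hx' h
    have h1 := D.eq_one_of_conj ((D.X i).mul_mem ((D.X i).inv_mem hx') hx) h
    exact (inv_mul_eq_one.1 h1).symm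

theorem card_C_alt [Finite G] (i : Bool) {j : ℕ} (hj : j ≤ D.m) :
    Nat.card (C D.P (alt D.n i j)) = D.Q i j * Nat.card D.P.B := by
  induction j with
  | zero =>
    rw [Q_zero, one_mul, alt_zero]
    exact Nat.card_congr (Equiv.subtypeEquivRight fun g => mem_C_one)
  | succ j ih =>
    have h1 := card_C_mul (D.nS (lt i j)) (D.altN i j) (D.hmul i (j := j) (by omega))
    rw [D.card_C_n, ih (by omega), ← alt_succ] at h1
    apply Nat.eq_of_mul_eq_mul_right (Nat.card_pos (α := D.P.B))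
    rw [h1, Q_succ]
    ring

/-- **The sum of a bi-invariant function.** -/
theorem sum_eq [Fintype G] (i : Bool) (F : G → ℂ) (hF : ∀ b ∈ D.P.B, ∀ b' ∈ D.P.B, ∀ g, F (b * g * b') = F g) :
    ∑ g, F g = Nat.card D.P.B * ∑ j ∈ Finset.range D.m,
      (D.Q (!i) j : ℂ) * (F (alt D.n (!i) j) + D.q i * F (alt D.n (!i) j * D.n i)) := by
  classical
  choose f hf1 hf2 using D.exists_rp i
  rw [← Finset.sum_fiberwise_of_maps_to (s := Finset.univ) (t := Finset.range D.m ×ˢ (Finset.univ : Finset Bool))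
    (g := f) (fun g _ => Finset.mem_product.2 ⟨Finset.mem_range.2 (hf1 g), Finset.mem_univ _⟩)]
  have key : ∀ a : ℕ × Bool, a.1 < D.m → ∑ g with f g = a, F g = Nat.card (C D.P (D.rp i a)) * F (D.rp i a) := by
    intro a ha
    have h1 : ∀ g, f g = a ↔ g ∈ C D.P (D.rp i a) := fun g =>
      ⟨fun h => h ▸ hf2 g, fun h => D.rp_inj i (hf1 g) ha (C_eq_of_mem_mem (hf2 g) h)⟩
    rw [Finset.sum_congr rfl (g := fun _ => F (D.rp i a)), Finset.sum_const, nsmul_eq_mul]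
    · congr 2
      rw [Nat.card_eq_fintype_card, Fintype.card_subtype]
      congr 1
      exact Finset.filter_congr fun g _ => h1 g
    · intro g hg
      obtain ⟨b, hb, b', hb', rfl⟩ := mem_C.1 ((h1 g).1 (Finset.mem_filter.1 hg).2)
      exact hF b hb b' hb' _
  rw [Finset.sum_product, Finset.mul_sum]
  refine Finset.sum_congr rfl fun j hj => ?_
  have hj := Finset.mem_range.1 hj
  rw [Fintype.sum_bool, key _ hj, key _ hj, rp_true, rp_false, D.card_C_alt _ hj.le, D.card_C_alt _ hj, Q_succ',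
    alt_succ']
  push_cast
  ring

theorem card_G [Finite G] (i : Bool) :
    Nat.card G = Nat.card D.P.B * ∑ j ∈ Finset.range D.m, D.Q (!i) j * (1 + D.q i) := by
  have := Fintype.ofFinite G
  have h1 := D.sum_eq i (fun _ => 1) (fun _ _ _ _ _ => rfl)
  rw [Finset.sum_const, Finset.card_univ, nsmul_eq_mul, mul_one, ← Nat.card_eq_fintype_card] at h1
  simp only [mul_one] at h1
  exact_mod_cast h1

/-! ### The minimal parabolic subgroups -/

theorem C_inv (i : Bool) : C D.P (D.n i)⁻¹ = C D.P (D.n i) :=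
  C_eq_of_rel (by rw [inv_inv]; exact D.TB (D.sq i))

/-- the minimal parabolic subgroups -/
def Par (i : Bool) : Subgroup G where
  carrier := {g | g ∈ D.P.B ∨ g ∈ C D.P (D.n i)}
  one_mem' := Or.inl D.P.B.one_mem
  mul_mem' := by
    rintro a b (ha | ha) (hb | hb)
    · exact Or.inl (D.P.B.mul_mem ha hb)
    · exact Or.inr (mul_mem_C_left ha hb)
    · exact Or.inr (mul_mem_C_right hb ha)
    · obtain ⟨x, hx, y, hy, rfl⟩ := mem_C.1 ha
      obtain ⟨z, hz, w, hw, rfl⟩ := mem_C.1 hb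
      have e : x * D.n i * y * (z * D.n i * w) = x * (D.n i * (y * z) * D.n i) * w := by group
      rw [e]
      rcases axiom_left (P := D.P) (D.nS i) (D.nN i) (D.P.B.mul_mem hy hz) with h | h
      · exact Or.inl (D.P.B.mul_mem (D.P.B.mul_mem hx (mem_B_of_mem_C (D.TB (D.sq i)) h)) hw)
      · exact Or.inr (mul_mem_C_right hw (mul_mem_C_left hx h))
  inv_mem' := by
    rintro a (ha | ha)
    · exact Or.inl (D.P.B.inv_mem ha)
    · exact Or.inr (D.C_inv i ▸ inv_mem_C ha)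

theorem mem_Par {i : Bool} {g : G} : g ∈ D.Par i ↔ g ∈ D.P.B ∨ g ∈ C D.P (D.n i) := Iff.rfl

theorem B_le_Par (i : Bool) : D.P.B ≤ D.Par i := fun _ h => Or.inl h

theorem n_mem_Par (i : Bool) : D.n i ∈ D.Par i := Or.inr (self_mem_C _)

theorem ParV {i : Bool} {g v : G} (hg : g ∈ D.Par i) (hv : v ∈ D.V i) : g * v * g⁻¹ ∈ D.V i := by
  rcases hg with hg | hg
  · exact D.BV hg hv
  · obtain ⟨x, hx, y, hy, rfl⟩ := mem_C.1 hg
    have : x * D.n i * y * v * (x * D.n i * y)⁻¹ = x * (D.n i * (y * v * y⁻¹) * (D.n i)⁻¹) * x⁻¹ := by group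
    rw [this]
    exact D.BV hx (D.nV' (D.BV hy hv))

/-- the big cell of the parabolic subgroup -/
theorem exists_of_mem_C {i : Bool} {g : G} (hg : g ∈ C D.P (D.n i)) :
    ∃ u ∈ D.U, ∃ t ∈ D.T, ∃ u' ∈ D.U, g = u * D.n i * t * u' := by
  obtain ⟨x, hx, y, hy, rfl⟩ := mem_C.1 hg
  obtain ⟨u, hu, t, ht, rfl⟩ := (D.mem_B x).1 hx
  obtain ⟨s, hs, v, hv, rfl⟩ := D.mem_B' hy
  exact ⟨u, hu, (D.n i)⁻¹ * t * D.n i * s, D.T.mul_mem (D.NT (D.nN i) ht) hs, v, hv, by group⟩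

/-- every element lies in a double coset `B a P` -/
theorem exists_alt_Par (i : Bool) (g : G) :
    ∃ j < D.m, ∃ b ∈ D.P.B, ∃ y ∈ D.Par i, g = b * alt D.n (!i) j * y := by
  obtain ⟨⟨j, c⟩, hj, hg⟩ := D.exists_rp i g
  obtain ⟨x, hx, y, hy, rfl⟩ := mem_C.1 hg
  cases c
  · exact ⟨j, hj, x, hx, y, D.B_le_Par i hy, rfl⟩
  · refine ⟨j, hj, x, hx, D.n i * y, (D.Par i).mul_mem (D.n_mem_Par i) (D.B_le_Par i hy), ?_⟩
    rw [rp_true, alt_succ']
    group

/-- the sum of a bi-invariant function over the parabolic subgroup -/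
theorem sum_Par [Finite G] (i : Bool) [Fintype (D.Par i)] {E : Type*} [AddCommMonoid E] (F : G → E) (a b : E)
    (ha : ∀ g ∈ D.P.B, F g = a) (hb : ∀ g ∈ C D.P (D.n i), F g = b) :
    ∑ y : D.Par i, F y = Nat.card D.P.B • a + (D.q i * Nat.card D.P.B) • b := by
  classical
  rw [← Finset.sum_filter_add_sum_filter_not Finset.univ (fun y : D.Par i => (y : G) ∈ D.P.B)]
  have hC : ∀ y : D.Par i, ¬ (y : G) ∈ D.P.B ↔ (y : G) ∈ C D.P (D.n i) := fun y =>
    ⟨fun h => y.2.resolve_left h, fun h h1 => not_mem_B (D.nS i) (mem_of_mem_C le_rfl h h1)⟩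
  congr 1
  · rw [Finset.sum_congr rfl (g := fun _ => a) (fun y hy => ha _ (Finset.mem_filter.1 hy).2), Finset.sum_const]
    congr 1
    rw [← Fintype.card_subtype, ← Nat.card_eq_fintype_card]
    exact Nat.card_congr (Equiv.subtypeSubtypeEquivSubtype fun h => D.B_le_Par i h)
  · rw [Finset.sum_congr rfl (g := fun _ => b) (fun y hy => hb _ ((hC y).1 (Finset.mem_filter.1 hy).2)),
      Finset.sum_const]
    congr 1
    rw [← Fintype.card_subtype, ← Nat.card_eq_fintype_card, ← D.card_C_n]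
    exact Nat.card_congr ((Equiv.subtypeEquivRight hC).trans
      (Equiv.subtypeSubtypeEquivSubtype (p := fun g => g ∈ D.Par i) (q := fun g => g ∈ C D.P (D.n i))
        fun h => Or.inr h))

theorem card_Par [Finite G] (i : Bool) : Nat.card (D.Par i) = (1 + D.q i) * Nat.card D.P.B := by
  have := Fintype.ofFinite (D.Par i)
  have h1 := D.sum_Par i (fun _ => (1 : ℕ)) 1 1 (fun _ _ => rfl) (fun _ _ => rfl)
  rw [Finset.sum_const, Finset.card_univ, ← Nat.card_eq_fintype_card] at h1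
  simp only [smul_eq_mul, mul_one] at h1
  rw [h1]
  ring

end R2

end Cfsg.Agent.VAN.Rk
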