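import Cfsg.Agent.VAN.Rk.Wt

/-!
# S4942, rank two: the character value at an elliptic element (helper77)
-/

set_option autoImplicit false

namespace Cfsg.Agent.VAN.Rk

open Module Cfsg Cfsg.Agent.LieExceptional.BNPairCore Cfsg.Agent.Characters
open scoped ComplexConjugate ComplexOrder

universe u

theorem eq_zero_of_conj {G : Type u} [Group G] [Finite G] {V : Type} [AddCommGroup V] [Module ℂ V]
    [FiniteDimensional ℂ V] (ρ : Representation ℂ G V) [ρ.IsIrreducible] {e : Module.End ℂ V} (he : e * e = e)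
    (h0 : e ≠ 0) {E : Type*} [AddCommGroup E] [Module ℂ E] (L : Module.End ℂ V →ₗ[ℂ] E)
    (h : ∀ g, L (ρ g * e * ρ g⁻¹) = 0) : L 1 = 0 := by
  have := Fintype.ofFinite G
  have h1 := congrArg L (Ito.sum_conj ρ e)
  rw [map_sum, Finset.sum_eq_zero fun g _ => h g, map_smul] at h1
  refine (smul_eq_zero.1 h1.symm).resolve_left ?_
  refine div_ne_zero (mul_ne_zero (Nat.cast_ne_zero.2 Fintype.card_ne_zero) fun h2 => h0 ?_)
    (Nat.cast_ne_zero.2 (Ito.finrank_pos_of_irreducible ρ).ne')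
  exact LinearMap.IsIdempotentElem.eq_zero_of_trace_eq_zero he h2

namespace R2

variable {G : Type u} [Group G] [Finite G] {D : R2 G} {V : Type} [AddCommGroup V] [Module ℂ V]
  [FiniteDimensional ℂ V] {ρ : Representation ℂ G V}

/-- if `U` has no fixed vectors then one of the unipotent radicals has none -/
theorem cross_zero [ρ.IsIrreducible] (hm : Even D.m) (i : Bool) (hU : av ρ D.U = 0) (hV : av ρ (D.V i) ≠ 0) :
    av ρ (D.V (!i)) = 0 := by
  have h1 := eq_zero_of_conj ρ (av_av ρ le_rfl) hV (LinearMap.mulLeft ℂ (av ρ (D.V (!i)))) fun g => by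
    obtain ⟨j, hj, b, hb, y, hy, rfl⟩ := D.exists_alt_Par i g
    have h2 : av ρ (D.V (!i)) * ρ (alt D.n (!i) j) * av ρ (D.X i) = av ρ (D.V (!i)) * ρ (alt D.n (!i) j) :=
      mul_av_of ρ fun x hx => by
        rw [mul_assoc, ← map_mul, show alt D.n (!i) j * x = alt D.n (!i) j * x * (alt D.n (!i) j)⁻¹ * alt D.n (!i) j by
          group, map_mul, ← mul_assoc, av_rho ρ (D.cross hm i hj hx)]
    have h3 : av ρ (D.V (!i)) * ρ (alt D.n (!i) j) * av ρ (D.V i) = 0 := by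
      rw [← h2, mul_assoc, D.av_X_V ρ i, hU, mul_zero]
    show av ρ (D.V (!i)) * (ρ (b * alt D.n (!i) j * y) * av ρ (D.V i) * _) = 0
    rw [map_mul, map_mul, mul_assoc _ (ρ y), D.Par_av ρ hy, ← mul_assoc, ← mul_assoc, ← mul_assoc, ← mul_assoc,
      ← D.Par_av ρ (D.B_le_Par (!i) hb), mul_assoc (ρ b), mul_assoc (ρ b), h3, mul_zero, zero_mul, zero_mul]
  simpa using h1

theorem nocusp [ρ.IsIrreducible] (i : Bool) (hU : av ρ D.U ≠ 0) {w : V} (hw : av ρ (D.V i) w = w)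
    (h : ∀ y ∈ D.Par i, av ρ D.U (ρ y w) = 0) : w = 0 := by
  refine eq_zero_of_conj ρ (av_av ρ le_rfl) hU (LinearMap.applyₗ w) fun g => ?_
  obtain ⟨j, hj, b, hb, y, hy, e⟩ := D.exists_alt_Par i g⁻¹
  have h2 : av ρ D.U * ρ (alt D.n (!i) j) * av ρ (D.X i) = av ρ D.U * ρ (alt D.n (!i) j) :=
    mul_av_of ρ fun x hx => by
      rw [mul_assoc, ← map_mul, show alt D.n (!i) j * x = alt D.n (!i) j * x * (alt D.n (!i) j)⁻¹ * alt D.n (!i) j by
        group, map_mul, ← mul_assoc, av_rho ρ (D.red' i hj hx)]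
  have h3 : av ρ (D.V i) (ρ y w) = ρ y w := by
    rw [← Module.End.mul_apply, ← D.Par_av ρ hy, Module.End.mul_apply, hw]
  have h4 : av ρ D.U (ρ (alt D.n (!i) j) (ρ y w)) = 0 := by
    rw [← Module.End.mul_apply, ← h2, ← h3, ← Module.End.mul_apply, mul_assoc, D.av_X_V ρ i, Module.End.mul_apply,
      h y hy, map_zero]
  show ρ g (av ρ D.U (ρ g⁻¹ w)) = 0
  rw [e, ← rho_mul, ← rho_mul, av_B_app hb, h4, map_zero, map_zero]

omit [Finite G] [FiniteDimensional ℂ V] in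
theorem comm_sum (H : Subgroup G) [Fintype H] (e : Module.End ℂ V) {g : G} (hg : g ∈ H) :
    ρ g * ∑ y : H, ρ y * e * ρ (y : G)⁻¹ = (∑ y : H, ρ y * e * ρ (y : G)⁻¹) * ρ g := by
  rw [Finset.mul_sum, Finset.sum_mul]
  refine Fintype.sum_equiv (Equiv.mulLeft (⟨g, hg⟩ : H)) _ _ fun y => ?_
  show _ = ρ (g * y) * e * ρ (g * y)⁻¹ * ρ g
  rw [mul_assoc _ _ (ρ g), ← map_mul, mul_inv_rev, inv_mul_cancel_right, map_mul, mul_assoc, mul_assoc, mul_assoc]

omit [FiniteDimensional ℂ V] in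
theorem comm_av {H : Subgroup G} {f : Module.End ℂ V} (h : ∀ x ∈ H, ρ x * f = f * ρ x) :
    av ρ H * f = f * av ρ H := by
  have h1 := lin_av ρ (H := H) (LinearMap.mulRight ℂ f - LinearMap.mulLeft ℂ f) (c := 0) fun x hx =>
    sub_eq_zero.2 (h x hx)
  exact sub_eq_zero.1 h1

omit [FiniteDimensional ℂ V] in
theorem Z_apply (i : Bool) [Fintype (D.Par i)] {θ : D.T → ℂ} {v : V} (hv : v ∈ D.W ρ θ) :
    D.eps i θ • (∑ y : D.Par i, ρ y * av ρ D.U * ρ (y : G)⁻¹) v =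
      (Nat.card D.P.B : ℂ) • (D.eps i θ • v + (D.q i : ℂ) • D.A ρ i (D.A ρ i v)) := by
  have h1 : (∑ y : D.Par i, ρ y * av ρ D.U * ρ (y : G)⁻¹) v =
      av ρ D.U ((∑ y : D.Par i, ρ y * av ρ D.U * ρ (y : G)⁻¹) v) := by
    rw [← Module.End.mul_apply, comm_av fun x hx => comm_sum _ _ (D.B_le_Par i (D.UB hx)), Module.End.mul_apply,
      av_fix ρ hv.1]
  rw [h1, LinearMap.sum_apply, map_sum]
  have h2 := D.sum_Par i (fun y => av ρ D.U ((ρ y * av ρ D.U * ρ y⁻¹) v)) v (D.A ρ i (av ρ D.U (ρ (D.n i)⁻¹ v)))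
    (fun g hg => by
      rw [D.B_av ρ hg, mul_assoc, ← map_mul, mul_inv_cancel, map_one, mul_one, av_fix ρ hv.1, av_fix ρ hv.1])
    (fun g hg => by
      obtain ⟨u, hu, t, ht, u', hu', rfl⟩ := D.exists_of_mem_C hg
      have hb : t * u' ∈ D.P.B := D.P.B.mul_mem (D.TB ht) (D.UB hu')
      have e1 : u * D.n i * t * u' = u * (D.n i * (t * u')) := by group
      have e2 : (u * D.n i * t * u')⁻¹ = (t * u')⁻¹ * ((D.n i)⁻¹ * u⁻¹) := by group
      rw [Module.End.mul_apply, Module.End.mul_apply, e2, e1, ← rho_mul, av_rho_app ρ hu, ← rho_mul,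
        ← av_B_app hb, rho_mul ρ (t * u'), mul_inv_cancel_left, ← rho_mul, hv.1 _ (D.U.inv_mem hu), A_apply])
  have h3 : D.eps i θ • D.A ρ i (av ρ D.U (ρ (D.n i)⁻¹ v)) = D.A ρ i (D.A ρ i v) := by
    rw [← map_smul, ← map_smul, inv_apply i hv, ← A_apply]
  rw [h2, ← h3, ← Nat.cast_smul_eq_nsmul ℂ, ← Nat.cast_smul_eq_nsmul ℂ, Nat.cast_mul]
  module

/-- **Elliptic elements.** -/
theorem exists_weight [ρ.IsIrreducible] (F : Uni ρ) (i : Bool) (hU : av ρ D.U ≠ 0) {g : G} (hg : g ∈ D.Par i)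
    (hell : ∀ y ∈ D.Par i, y⁻¹ * g * y ∉ D.P.B) (ht : LinearMap.trace ℂ V (ρ g * av ρ (D.V i)) ≠ 0) :
    ∃ θ, D.s i θ = θ ∧ ∃ l : ℂ, ∃ S ≤ D.W ρ θ, finrank ℂ (D.W ρ θ) < 2 * finrank ℂ S ∧
      ∀ w ∈ S, D.A ρ i w = l • w := by
  classical
  have := Fintype.ofFinite (D.Par i)
  have := Fintype.ofFinite D.T
  obtain ⟨Z, hZ⟩ : ∃ Z, Z = ∑ y : D.Par i, ρ y * av ρ D.U * ρ (y : G)⁻¹ := ⟨_, rfl⟩
  have cZ : ∀ y ∈ D.Par i, ρ y * Z = Z * ρ y := fun y hy => hZ ▸ comm_sum _ _ hy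
  have hVZ : av ρ (D.V i) * Z = Z := by
    rw [hZ, Finset.mul_sum]
    refine Finset.sum_congr rfl fun y _ => ?_
    rw [← mul_assoc, ← mul_assoc, ← D.Par_av ρ y.2, mul_assoc (ρ y), av_av ρ (D.VU i)]
  have hVV : av ρ (D.V i) * av ρ (D.V i) = av ρ (D.V i) := av_av ρ le_rfl
  have hVZ' : av ρ (D.V i) * (Z + (1 - av ρ (D.V i))) = Z := by
    rw [mul_add, mul_sub, hVZ, hVV, mul_one, sub_self, add_zero]
  have hinj : LinearMap.ker (Z + (1 - av ρ (D.V i))) = ⊥ := by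
    rw [LinearMap.ker_eq_bot']
    intro w hw
    have h1 : Z w = 0 := by rw [← hVZ', Module.End.mul_apply, hw, map_zero]
    have h2 : av ρ (D.V i) w = w := by
      rw [LinearMap.add_apply, h1, zero_add, LinearMap.sub_apply, Module.End.one_apply] at hw
      exact (sub_eq_zero.1 hw).symm
    have h3 : ∑ y : D.Par i, F.B (av ρ D.U (ρ (y : G)⁻¹ w)) (av ρ D.U (ρ (y : G)⁻¹ w)) = 0 := by
      have h4 : F.B w (Z w) = 0 := by rw [h1, map_zero]
      rw [hZ, LinearMap.sum_apply, map_sum] at h4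
      rw [← h4]
      refine Finset.sum_congr rfl fun y _ => ?_
      rw [F.av_adj, ← Module.End.mul_apply (av ρ D.U) (av ρ D.U), av_av ρ le_rfl, F.adj, inv_inv]
      rfl
    refine nocusp i hU h2 fun y hy => F.dfn _ ?_
    have h5 := (Finset.sum_eq_zero_iff_of_nonneg fun y _ => F.pos _).1 h3 ⟨y⁻¹, (D.Par i).inv_mem hy⟩
      (Finset.mem_univ _)
    simpa using h5
  obtain ⟨z, hz⟩ := (LinearMap.isUnit_iff_ker_eq_bot _).2 hinj
  obtain ⟨u, hu⟩ : ∃ u : Module.End ℂ V, u = ↑z⁻¹ := ⟨_, rfl⟩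
  have hzu : (Z + (1 - av ρ (D.V i))) * u = 1 := by rw [← hz, hu, Units.mul_inv]
  have huz : u * (Z + (1 - av ρ (D.V i))) = 1 := by rw [← hz, hu, Units.inv_mul]
  have cz : ∀ y ∈ D.Par i, ρ y * (Z + (1 - av ρ (D.V i))) = (Z + (1 - av ρ (D.V i))) * ρ y := fun y hy => by
    rw [mul_add, add_mul, mul_sub, sub_mul, cZ y hy, D.Par_av ρ hy, mul_one, one_mul]
  have cu' : ∀ f : Module.End ℂ V, f * (Z + (1 - av ρ (D.V i))) = (Z + (1 - av ρ (D.V i))) * f → f * u = u * f :=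
    fun f hf => by
      calc f * u = u * (Z + (1 - av ρ (D.V i))) * f * u := by rw [huz, one_mul]
        _ = u * f := by rw [mul_assoc u, ← hf, mul_assoc, mul_assoc, hzu, mul_one]
  have cu : ∀ y ∈ D.Par i, ρ y * u = u * ρ y := fun y hy => cu' _ (cz y hy)
  have cUu : av ρ D.U * u = u * av ρ D.U := comm_av fun x hx => cu x (D.B_le_Par i (D.UB hx))
  have h1 : av ρ (D.V i) = Z * u := by rw [← hVZ', mul_assoc, hzu, mul_one]
  rw [h1, hZ, Finset.sum_mul, Finset.mul_sum, map_sum] at ht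
  obtain ⟨y, -, hy⟩ := Finset.exists_ne_zero_of_sum_ne_zero ht
  have hy' : (y : G)⁻¹ * g * y ∈ D.Par i := (D.Par i).mul_mem ((D.Par i).mul_mem ((D.Par i).inv_mem y.2) hg) y.2
  obtain ⟨a, ha, t, htT, a', ha', e⟩ := D.exists_of_mem_C (hy'.resolve_left (hell y y.2))
  have h2 : LinearMap.trace ℂ V (D.A ρ i * ρ t * av ρ D.U * u) ≠ 0 := by
    intro h3
    apply hy
    have e1 : ρ g * (ρ y * av ρ D.U * ρ (y : G)⁻¹ * u) = (ρ g * ρ y * av ρ D.U * u) * ρ (y : G)⁻¹ := by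
      rw [mul_assoc _ _ u, cu _ ((D.Par i).inv_mem y.2)]
      simp only [mul_assoc]
    have e2 : ρ (y : G)⁻¹ * (ρ g * ρ y * av ρ D.U * u) = (ρ a * ρ (D.n i) * ρ t * av ρ D.U * u) * av ρ D.U := by
      rw [← mul_assoc, ← mul_assoc, ← mul_assoc, ← map_mul, ← map_mul, e, map_mul, mul_assoc _ (ρ a'),
        rho_av ρ ha', mul_assoc _ u, ← cUu, ← mul_assoc, mul_assoc _ (av ρ D.U) (av ρ D.U), av_av ρ le_rfl,
        map_mul, map_mul]
    rw [e1, LinearMap.trace_mul_comm, e2, LinearMap.trace_mul_comm, ← h3, A]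
    simp only [← mul_assoc]
    rw [av_rho ρ ha]
  let _ : CommGroup D.T := { (inferInstance : Group D.T) with mul_comm := fun a b => Subtype.ext (D.comm _ a.2 _ b.2) }
  let σ : Representation ℂ D.T V := ρ.comp D.T.subtype
  have h3 : D.A ρ i * ρ t * av ρ D.U * u = ∑ l, D.A ρ i * (ρ t * Ito.wt σ l) * av ρ D.U * u := by
    rw [← Finset.sum_mul, ← Finset.sum_mul, ← Finset.mul_sum, ← Finset.mul_sum, Ito.sum_wt, mul_one]
  rw [h3, map_sum] at h2
  obtain ⟨l, -, hl⟩ := Finset.exists_ne_zero_of_sum_ne_zero h2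
  have hw1 : ∀ t : D.T, ρ t * Ito.wt σ l = l (Additive.ofMul t) • Ito.wt σ l := fun t => Ito.mul_wt σ l t
  have hw2 : ∀ t : D.T, Ito.wt σ l * ρ t = l (Additive.ofMul t) • Ito.wt σ l := fun t => Ito.wt_mul σ l t
  have cw : ∀ f : Module.End ℂ V, (∀ t : D.T, ρ t * f = f * ρ t) → Ito.wt σ l * f = f * Ito.wt σ l := fun f hf => by
    rw [Ito.wt_def, smul_mul_assoc, mul_smul_comm, Finset.sum_mul, Finset.mul_sum]
    congr 1
    refine Finset.sum_congr rfl fun t _ => ?_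
    rw [smul_mul_assoc, mul_smul_comm]
    exact congrArg _ (hf t)
  have hww : Ito.wt σ l * Ito.wt σ l = Ito.wt σ l := by rw [Ito.wt_mul_wt, if_pos rfl]
  obtain ⟨π, hπ⟩ : ∃ π, π = Ito.wt σ l * av ρ D.U := ⟨_, rfl⟩
  have cwU : Ito.wt σ l * av ρ D.U = av ρ D.U * Ito.wt σ l := cw _ fun t => D.B_av ρ (D.TB t.2)
  have cπ : ∀ f : Module.End ℂ V, (∀ y ∈ D.Par i, ρ y * f = f * ρ y) → π * f = f * π := fun f hf => by
    rw [hπ, mul_assoc, comm_av fun x hx => hf x (D.B_le_Par i (D.UB hx)), ← mul_assoc,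
      cw f fun t => hf t (D.B_le_Par i (D.TB t.2)), mul_assoc]
  have hl' : LinearMap.trace ℂ V (D.A ρ i * π * u) ≠ 0 := by
    intro h4
    apply hl
    rw [hw1 ⟨t, htT⟩, mul_smul_comm, smul_mul_assoc, smul_mul_assoc, map_smul, mul_assoc (D.A ρ i), ← hπ, h4,
      smul_zero]
  let θ : D.T → ℂ := fun t => l (Additive.ofMul t)
  have m1 : ∀ v, π v ∈ D.W ρ θ := fun v =>
    ⟨fun x hx => by rw [hπ, cwU, Module.End.mul_apply, rho_av_app ρ hx], fun t => by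
      rw [hπ, Module.End.mul_apply, ← Module.End.mul_apply (ρ t), hw1, LinearMap.smul_apply]⟩
  have m2 : ∀ η, ∀ v ∈ D.W ρ η, π v ∈ D.W ρ η := fun η v hv =>
    ⟨(m1 v).1, fun t => by
      rw [hπ, Module.End.mul_apply, av_fix ρ hv.1, ← Module.End.mul_apply, hw1, ← hw2, Module.End.mul_apply,
        hv.2, map_smul]⟩
  have m3 : ∀ v ∈ D.W ρ θ, π v = v := fun v hv => by
    rw [hπ, Module.End.mul_apply, av_fix ρ hv.1, Ito.wt_def, LinearMap.smul_apply, LinearMap.sum_apply]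
    have h4 : ∀ t : D.T, (l (Additive.ofMul t⁻¹) • σ t) v = v := fun t => by
      show l (Additive.ofMul t⁻¹) • ρ t v = v
      rw [hv.2 t, smul_smul, Ito.char_inv_mul_self, one_smul]
    rw [Finset.sum_congr rfl fun t _ => h4 t, Finset.sum_const, Finset.card_univ, ← Nat.cast_smul_eq_nsmul ℂ,
      smul_smul, inv_mul_cancel₀ (Nat.cast_ne_zero.2 Fintype.card_ne_zero), one_smul]
  have hππ : π * π = π := LinearMap.ext fun v => m3 _ (m1 v)
  have hr : LinearMap.range π = D.W ρ θ := le_antisymm (by rintro _ ⟨v, rfl⟩; exact m1 v) fun v hv => ⟨v, m3 v hv⟩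
  have hs : D.s i θ = θ := by
    by_contra h4
    apply hl'
    have h5 : π * D.A ρ i * π = 0 := LinearMap.ext fun v =>
      eq_zero_of_ne h4 (m2 _ _ (A_mem i (m1 v))) (m1 _)
    rw [← hππ, ← mul_assoc, mul_assoc _ π u, cπ u cu, ← mul_assoc, LinearMap.trace_mul_comm, ← mul_assoc,
      ← mul_assoc, h5, zero_mul, map_zero]
  have m4 : ∀ v ∈ D.W ρ θ, D.A ρ i v ∈ D.W ρ θ := fun v hv => by
    have h4 := A_mem i hv
    rwa [hs] at h4
  have hπ0 : π ≠ 0 := by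
    rintro h4
    apply hl'
    rw [h4, mul_zero, zero_mul, map_zero]
  have he : D.eps i θ ≠ 0 := by
    obtain ⟨v, hv⟩ : ∃ v, π v ≠ 0 := by
      by_contra h4
      push Not at h4
      exact hπ0 (LinearMap.ext h4)
    exact eps_ne F i (m1 v) hv
  obtain ⟨c, -, hc⟩ := quad (ρ := ρ) i θ
  have hq := q_ne (D := D) i
  have hAA : ∀ v ∈ D.W ρ θ, D.A ρ i (D.A ρ i v) = (D.eps i θ / D.q i) • (v + c • D.A ρ i v) := fun v hv => by
    rw [div_eq_inv_mul, mul_smul, ← hc v hv, smul_smul, inv_mul_cancel₀ hq, one_smul]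
  obtain ⟨K, hK⟩ : ∃ K, K = (2 * D.q i / D.eps i θ) • (D.A ρ i * π) - c • π := ⟨_, rfl⟩
  have hKv : ∀ v ∈ D.W ρ θ, K v = (2 * D.q i / D.eps i θ) • D.A ρ i v - c • v := fun v hv => by
    rw [hK, LinearMap.sub_apply, LinearMap.smul_apply, LinearMap.smul_apply, Module.End.mul_apply, m3 v hv]
  have hKπ : K * π = K := by rw [hK, sub_mul, smul_mul_assoc, smul_mul_assoc, mul_assoc, hππ]
  have m5 : ∀ v, K v ∈ D.W ρ θ := fun v => by
    rw [← hKπ, Module.End.mul_apply, hKv _ (m1 v)]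
    exact (D.W ρ θ).sub_mem ((D.W ρ θ).smul_mem _ (m4 _ (m1 v))) ((D.W ρ θ).smul_mem _ (m1 v))
  have hπK : π * K = K := LinearMap.ext fun v => m3 _ (m5 v)
  have hKK : K * K = (4 * D.q i / D.eps i θ + c ^ 2) • π := LinearMap.ext fun v => by
    rw [Module.End.mul_apply, hKv _ (m5 v), ← hKπ, Module.End.mul_apply, hKv _ (m1 v), map_sub, map_smul, map_smul,
      hAA _ (m1 v), LinearMap.smul_apply]
    match_scalars <;> field_simp <;> ring
  have hKZ : K * (Z + (1 - av ρ (D.V i))) = (Nat.card D.P.B * (4 * D.q i / D.eps i θ + c ^ 2)) • (D.A ρ i * π) := by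
    rw [← hKπ, mul_assoc, cπ _ cz]
    refine LinearMap.ext fun v => ?_
    have h4 : Z (π v) = (Nat.card D.P.B : ℂ) • ((2 : ℂ) • π v + c • D.A ρ i (π v)) := by
      have h5 := Z_apply i (m1 v)
      rw [← hZ, hc _ (m1 v)] at h5
      apply smul_right_injective V he
      show D.eps i θ • _ = D.eps i θ • _
      rw [h5]
      module
    have h5 : av ρ (D.V i) (π v) = π v := av_fix ρ fun x hx => (m1 v).1 x (D.VU i hx)
    rw [Module.End.mul_apply, Module.End.mul_apply, LinearMap.add_apply, LinearMap.sub_apply, Module.End.one_apply,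
      h5, sub_self, add_zero, h4, map_smul, map_add, map_smul, map_smul, hKv _ (m1 v), hKv _ (m4 _ (m1 v)),
      hAA _ (m1 v), LinearMap.smul_apply, Module.End.mul_apply]
    match_scalars <;> field_simp <;> ring
  have hKu : K = (Nat.card D.P.B * (4 * D.q i / D.eps i θ + c ^ 2)) • (D.A ρ i * π * u) := by
    rw [← smul_mul_assoc, ← hKZ, mul_assoc, hzu, mul_one]
  have fin : ∀ s : ℂ, ∀ w ∈ D.W ρ θ, K w = s • w → D.A ρ i w = ((s + c) * D.eps i θ / (2 * D.q i)) • w := by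
    intro s w hw h4
    rw [hKv w hw, sub_eq_iff_eq_add] at h4
    have h5 : D.A ρ i w = (D.eps i θ / (2 * D.q i)) • (2 * D.q i / D.eps i θ) • D.A ρ i w := by
      rw [smul_smul]
      match_scalars
      field_simp
    rw [h5, h4]
    match_scalars
    field_simp
  refine ⟨θ, hs, ?_⟩
  by_cases hδ : 4 * D.q i / D.eps i θ + c ^ 2 = 0
  · rw [hδ, mul_zero, zero_smul] at hKu
    refine ⟨_, D.W ρ θ, le_rfl, ?_, fun w hw => fin 0 w hw (by rw [hKu, zero_smul, LinearMap.zero_apply])⟩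
    have h4 : finrank ℂ (D.W ρ θ) ≠ 0 := by
      rw [← hr, Ne, Submodule.finrank_eq_zero, LinearMap.range_eq_bot]
      exact hπ0
    omega
  · obtain ⟨s, S, a1, a2, a3⟩ := exists_large hππ hπK hKπ hKK hδ (by
      rw [hKu, map_smul, smul_eq_mul]
      exact mul_ne_zero (mul_ne_zero (card_ne _) hδ) hl')
    rw [hr] at a1 a2
    exact ⟨_, S, a1, a2, fun w hw => fin s w (a1 hw) (a3 w hw)⟩

omit [FiniteDimensional ℂ V] in
theorem av_Par {i : Bool} {θ : D.T → ℂ} {v : V} (hv : v ∈ D.W ρ θ) (F : Uni ρ) (h0 : v ≠ 0) {l : ℂ}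
    (hA : D.A ρ i v = l • v) {g : G} (hg : g ∈ C D.P (D.n i)) :
    ∃ c : ℂ, conj c * c = conj l * l ∧ av ρ D.U (ρ g v) = c • v := by
  obtain ⟨u, hu, t, ht, u', hu', rfl⟩ := D.exists_of_mem_C hg
  refine ⟨θ ⟨t, ht⟩ * l, ?_, ?_⟩
  · rw [map_mul, mul_mul_mul_comm, conj_mul F hv h0, one_mul]
  · rw [← rho_mul, hv.1 u' hu', ← rho_mul, hv.2 ⟨t, ht⟩, ← rho_mul, av_rho_app ρ hu, map_smul, map_smul, ← A_apply,
      hA, smul_smul]

/-- the parameter of an eigenvector is rational -/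
theorem eig_rat (F : Uni ρ) {i : Bool} {θ : D.T → ℂ} {v : V} (hv : v ∈ D.W ρ θ) (h0 : v ≠ 0) {l : ℂ}
    (hA : D.A ρ i v = l • v) : ∃ d : ℕ, (d : ℂ) * (1 + D.q i * (conj l * l)) = 1 + D.q i := by
  have := Fintype.ofFinite (D.Par i)
  obtain ⟨π, hπ⟩ : ∃ π : Module.End ℂ V, π = (F.B v).smulRight v := ⟨_, rfl⟩
  have hπa : ∀ w, π w = F.B v w • v := fun w => by rw [hπ, LinearMap.smulRight_apply]
  obtain ⟨Z, hZ⟩ : ∃ Z, Z = ∑ y : D.Par i, ρ y * π * ρ (y : G)⁻¹ := ⟨_, rfl⟩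
  have cZ : ∀ y ∈ D.Par i, ρ y * Z = Z * ρ y := fun y hy => hZ ▸ comm_sum _ _ hy
  have key : ∀ (g : G) (c : ℂ), av ρ D.U (ρ g v) = c • v →
      av ρ D.U ((ρ g * π * ρ g⁻¹) v) = (conj c * c * F.B v v) • v := by
    intro g c h
    rw [Module.End.mul_apply, Module.End.mul_apply, hπa, map_smul, map_smul, h, ← F.adj, smul_smul]
    nth_rewrite 2 [← av_fix ρ hv.1]
    rw [← F.av_adj, h, F.smul_left, mul_right_comm]
  have h1 : Z v = ((Nat.card D.P.B : ℂ) * (1 + D.q i * (conj l * l)) * F.B v v) • v := by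
    have h2 : Z v = av ρ D.U (Z v) := by
      rw [← Module.End.mul_apply, comm_av fun x hx => cZ x (D.B_le_Par i (D.UB hx)), Module.End.mul_apply,
        av_fix ρ hv.1]
    rw [h2, hZ, LinearMap.sum_apply, map_sum,
      D.sum_Par i (fun y => av ρ D.U ((ρ y * π * ρ y⁻¹) v)) (F.B v v • v) ((conj l * l * F.B v v) • v)
      (fun g hg => by
        obtain ⟨c, hc⟩ := B_apply hv hg
        rw [key g c (by rw [hc, map_smul, av_fix ρ hv.1]), F.eig h0 hc, one_mul])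
      (fun g hg => by
        obtain ⟨c, h3, h4⟩ := av_Par hv F h0 hA hg
        rw [key g c h4, h3]), ← Nat.cast_smul_eq_nsmul ℂ, ← Nat.cast_smul_eq_nsmul ℂ, Nat.cast_mul]
    module
  obtain ⟨κ, hκ⟩ : ∃ κ, κ = (Nat.card D.P.B : ℂ) * (1 + D.q i * (conj l * l)) * F.B v v := ⟨_, rfl⟩
  have hvv : F.B v v ≠ 0 := fun h => h0 (F.dfn v h)
  have hx : (1 : ℂ) + D.q i * (conj l * l) ≠ 0 := by
    rw [Complex.conj_mul']
    positivity
  have hκ0 : κ ≠ 0 := hκ ▸ mul_ne_zero (mul_ne_zero (card_ne _) hx) hvv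
  rw [← hκ] at h1
  have h2 : Z * π = κ • π := LinearMap.ext fun w => by
    rw [Module.End.mul_apply, LinearMap.smul_apply, hπa, map_smul, h1, smul_comm]
  have h3 : Z * Z = κ • Z := by
    nth_rewrite 2 3 [hZ]
    rw [Finset.mul_sum, Finset.smul_sum]
    refine Finset.sum_congr rfl fun y _ => ?_
    rw [← mul_assoc, ← mul_assoc, ← cZ y y.2, mul_assoc (ρ y), h2, mul_smul_comm, smul_mul_assoc]
  have h4 : (κ⁻¹ • Z) * (κ⁻¹ • Z) = κ⁻¹ • Z := by
    rw [smul_mul_assoc, mul_smul_comm, h3, smul_smul κ⁻¹ κ, inv_mul_cancel₀ hκ0, one_smul]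
  have h5 : LinearMap.trace ℂ V Z = Nat.card (D.Par i) * F.B v v := by
    rw [hZ, map_sum, Finset.sum_congr rfl (g := fun _ => F.B v v), Finset.sum_const, Finset.card_univ,
      ← Nat.card_eq_fintype_card, nsmul_eq_mul]
    intro y _
    rw [LinearMap.trace_mul_comm, ← mul_assoc, ← map_mul, inv_mul_cancel, map_one, one_mul, hπ,
      LinearMap.trace_smulRight]
  have h6 := trace_idem h4
  refine ⟨finrank ℂ (LinearMap.range (κ⁻¹ • Z)), ?_⟩
  rw [← h6, map_smul, h5, D.card_Par, smul_eq_mul, hκ]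
  have := card_ne D.P.B
  generalize (1 : ℂ) + D.q i * (conj l * l) = y at hx
  push_cast
  field_simp

/-- the parameter of an eigenvector is a power of `p` -/
theorem eig_pow (F : Uni ρ) {i : Bool} {θ : D.T → ℂ} {v : V} (hv : v ∈ D.W ρ θ) (h0 : v ≠ 0) {l : ℂ}
    (hA : D.A ρ i v = l • v) {p f : ℕ} (hp : p.Prime) (hq : D.q i = p ^ f) :
    ∃ a : ℤ, |a| ≤ f ∧ D.q i * (conj l * l) = (p : ℂ) ^ a := by
  obtain ⟨d, hd⟩ := eig_rat F hv h0 hA
  obtain ⟨c, hc1, hc⟩ := quad (ρ := ρ) i θ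
  have hθ : ∀ t, IsIntegral ℤ (θ t) := fun t => eig_integral h0 (hv.2 t)
  have hq0 := q_ne (D := D) i
  have he : conj (D.eps i θ) * D.eps i θ = 1 := conj_mul F hv h0 _
  have hei : IsIntegral ℤ (D.eps i θ) := hθ _
  have hci := hc1 hθ
  have h1 : D.q i * (l * l) = D.eps i θ * (1 + c * l) := by
    have h2 := hc v hv
    rw [hA, map_smul, hA] at h2
    have h3 : (D.q i * (l * l) - D.eps i θ * (1 + c * l)) • v = 0 := by
      rw [sub_smul, mul_smul, mul_smul, h2]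
      module
    exact sub_eq_zero.1 ((smul_eq_zero.1 h3).resolve_right h0)
  have hτ : IsIntegral ℤ (D.q i * l) := by
    have h2 : IsIntegral (integralClosure ℤ ℂ) (D.q i * l) := by
      refine ⟨Polynomial.X ^ 2 - (Polynomial.C (⟨_, hei.mul hci⟩ : integralClosure ℤ ℂ) * Polynomial.X +
        Polynomial.C (⟨_, hei.mul (isIntegral_natCast (D.q i))⟩ : integralClosure ℤ ℂ)), ?_, ?_⟩
      · exact Polynomial.monic_X_pow_sub (lt_of_le_of_lt Polynomial.degree_linear_le (by decide))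
      · simp only [Polynomial.eval₂_sub, Polynomial.eval₂_add, Polynomial.eval₂_mul, Polynomial.eval₂_X_pow,
          Polynomial.eval₂_C, Polynomial.eval₂_X]
        show (D.q i * l) ^ 2 - (D.eps i θ * c * (D.q i * l) + D.eps i θ * D.q i) = 0
        linear_combination (D.q i : ℂ) * h1
    exact isIntegral_trans _ h2
  have hτ' : IsIntegral ℤ (D.eps i θ * c - D.q i * l) := (hei.mul hci).sub hτ
  have hcj : ∀ z : ℂ, IsIntegral ℤ z → IsIntegral ℤ (conj z * z) := fun z hz =>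
    (hz.map (starRingEnd ℂ).toIntAlgHom).mul hz
  have hpr : D.q i * l * (D.eps i θ * c - D.q i * l) = -(D.eps i θ * D.q i) := by
    linear_combination (-(D.q i : ℂ)) * h1
  have hN : conj (D.q i * l) * (D.q i * l) * (conj (D.eps i θ * c - D.q i * l) * (D.eps i θ * c - D.q i * l)) =
      (D.q i : ℂ) ^ 2 := by
    rw [mul_mul_mul_comm, ← map_mul, hpr, map_neg, map_mul, Complex.conj_natCast]
    linear_combination (D.q i : ℂ) ^ 2 * he
  have hd0 : (d : ℂ) ≠ 0 := by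
    intro h
    rw [h, zero_mul] at hd
    have h2 : ((1 + D.q i : ℕ) : ℂ) = 0 := by push_cast; exact hd.symm
    exact absurd (Nat.cast_eq_zero.1 h2) (by omega)
  have hr : conj (D.q i * l) * (D.q i * l) = ((D.q i * (1 + D.q i - d) / d : ℚ) : ℂ) := by
    rw [map_mul, Complex.conj_natCast]
    push_cast
    field_simp
    linear_combination hd
  have hint : ∀ r : ℚ, IsIntegral ℤ (r : ℂ) → ∃ z : ℤ, (z : ℂ) = r := fun r h => by
    obtain ⟨z, hz⟩ := IsIntegrallyClosed.isIntegral_iff.1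
      ((isIntegral_algebraMap_iff (R := ℤ) (algebraMap ℚ ℂ).injective).1 h)
    exact ⟨z, by rw [← hz]; simp⟩
  obtain ⟨z, hz⟩ := hint _ (hr ▸ hcj _ hτ)
  rw [← hr] at hz
  have hz0 : (z : ℂ) ≠ 0 := by
    rw [hz]
    exact left_ne_zero_of_mul (hN ▸ pow_ne_zero 2 hq0)
  obtain ⟨z', hz'⟩ := hint ((D.q i : ℚ) ^ 2 / z) (by
    have h2 := hcj _ hτ'
    have h3 : conj (D.eps i θ * c - D.q i * l) * (D.eps i θ * c - D.q i * l) = (((D.q i : ℚ) ^ 2 / z : ℚ) : ℂ) := by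
      push_cast
      rw [eq_div_iff hz0, hz, mul_comm, hN]
    rwa [h3] at h2)
  have hzz : z * z' = (p : ℤ) ^ (2 * f) := by
    have h2 : ((z * z' : ℤ) : ℂ) = ((p : ℤ) ^ (2 * f) : ℤ) := by
      push_cast at hz' ⊢
      rw [hz', mul_div_cancel₀ _ hz0, hq, Nat.cast_pow, ← pow_mul, mul_comm]
    exact_mod_cast h2
  have hzpos : 0 ≤ z := by
    have h2 : (0 : ℂ) ≤ z := by
      rw [hz, Complex.conj_mul']
      positivity
    exact_mod_cast h2
  obtain ⟨k, rfl⟩ := Int.eq_ofNat_of_zero_le hzpos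
  have hdv : k ∣ p ^ (2 * f) := by
    have h2 : (k : ℤ) ∣ ((p ^ (2 * f) : ℕ) : ℤ) := ⟨z', by rw [hzz]; push_cast; rfl⟩
    exact_mod_cast h2
  obtain ⟨a, ha, rfl⟩ := (Nat.dvd_prime_pow hp).1 hdv
  refine ⟨a - f, by rw [abs_le]; omega, ?_⟩
  have hp0 : (p : ℂ) ≠ 0 := Nat.cast_ne_zero.2 hp.ne_zero
  rw [zpow_sub₀ hp0, zpow_natCast, zpow_natCast, eq_div_iff (pow_ne_zero _ hp0), ← Nat.cast_pow p f, ← hq]
  rw [map_mul, Complex.conj_natCast] at hz
  push_cast at hz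
  rw [hz]
  ring

end R2

end Cfsg.Agent.VAN.Rk
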