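import Cfsg.Agent.VAN.Rk.Chev
import Cfsg.Agent.S1059
import Cfsg.Agent.S1055

/-!
# S4942: the groups `G₂(q)`, `q ≥ 4` (helper77)
-/

set_option autoImplicit false
set_option linter.unusedSectionVars false

namespace Cfsg.Agent.VAN.Rk

open Cfsg CoxeterSystem Cfsg.Agent.ChevalleyStructure.CoxeterGeom Cfsg.Agent.Tits.Roots Cfsg.Agent.Nodes.LeviDec
  Cfsg.Agent.Nodes.RGDChev Cfsg.Agent.KFacts.RgdChevCoord
open Cfsg.Lie Cfsg.Agent.ChevalleyStructure Cfsg.Agent.ChevalleyStructure.CoxeterGeomTypes Cfsg.Agent.H120.OZ Chev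
open scoped commutatorElement

universe u

theorem tyG2 : IsType chevG2 2 CoxeterMatrix.G₂ := by simp [IsType, typeList]

namespace GTwo

variable {F : Type u} [Field F]

theorem comm6 (t a : F) : ⁅xr tyG2 6 t, xr tyG2 10 a⁆ = xr tyG2 11 (t * a) := by
  rw [comm_eq tyG2 (by decide) (by decide) (by decide) (by decide),
    show chevG2.commTerms 10 6 = [(11, -1, 1, 1)] by decide +kernel]
  simp [mul_comm]

theorem comm11 {r : ℕ} (hr : r ∈ [6, 7, 8, 9, 10, 11]) (a b : F) :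
    xr tyG2 r a * xr tyG2 11 b = xr tyG2 11 b * xr tyG2 r a := by
  by_cases h : r = 11
  · rw [h, xr_add, xr_add, add_comm]
  · have key : ∀ r ∈ [6, 7, 8, 9, 10, 11], r < chevG2.nroots ∧ r ≠ chevG2.neg 11 ∧ chevG2.commTerms 11 r = [] := by
      decide +kernel
    exact commute_xr tyG2 (by decide) (key r hr).1 h (key r hr).2.1 (key r hr).2.2 a b

theorem mem11 {z : ↥(chevG2.group F)} (hz : z ∈ GS tyG2 F [11]) : ∃ a, z = xr tyG2 11 a := by
  obtain ⟨a, w, hw, rfl⟩ := mem_cons tyG2 (by decide) (by decide +kernel) hz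
  rw [GS_nil, Subgroup.mem_bot] at hw
  exact ⟨a, by rw [hw, mul_one]⟩

theorem exists_conj {Ψ : Matrix.SpecialLinearGroup (Fin 2) F →* ↥(chevG2.group F)} (hΨ : IsPs tyG2 1 Ψ) (a b : F) :
    ∃ B c, Ψ B * (xr tyG2 10 a * xr tyG2 11 b) * (Ψ B)⁻¹ = xr tyG2 11 c := by
  by_cases ha : a = 0
  · exact ⟨1, b, by rw [ha, xr_zero, map_one]; group⟩
  obtain ⟨c, -, hc⟩ := n_xr (F := F) tyG2 1 (r := 10) (by decide)
  refine ⟨Nodes.RGDFoldSL.wS 1 * SL2Hom.up (-(b / a)), c * a, ?_⟩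
  have h1 := comm6 (-(b / a)) a
  rw [neg_mul, div_mul_cancel₀ _ ha, ← xr_inv tyG2 11, commutatorElement_def] at h1
  have h2 := comm11 (r := 6) (by simp) (-(b / a)) b
  have h3 := comm11 (r := 10) (by simp) a b
  rw [map_mul, hΨ.co.w, hΨ.up, show (11 : ℕ) = chevG2.reflectRoot (1 : Fin 2) 10 by decide +kernel, ← hc,
    show chevG2.reflectRoot (1 : Fin 2) 10 = 11 by decide +kernel, show chevG2.simple (1 : Fin 2) = 6 from rfl]
  calc _ = nc tyG2 F 1 * ((xr tyG2 6 (-(b / a)) * xr tyG2 10 a * (xr tyG2 6 (-(b / a)))⁻¹ * (xr tyG2 10 a)⁻¹) * xr tyG2 10 a *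
        (xr tyG2 6 (-(b / a)) * xr tyG2 11 b) * (xr tyG2 6 (-(b / a)))⁻¹) * (nc tyG2 F 1)⁻¹ := by group
    _ = nc tyG2 F 1 * ((xr tyG2 11 b)⁻¹ * (xr tyG2 10 a * xr tyG2 11 b)) * (nc tyG2 F 1)⁻¹ := by rw [h1, h2]; group
    _ = _ := by rw [h3]; group

theorem inter {a b : F} (h : xr tyG2 10 a = xr tyG2 11 b) : a = 0 := by
  have h1 := comm6 1 a
  rw [h, commutatorElement_eq_one_iff_mul_comm.2 (comm11 (by simp) _ _), one_mul, ← xr_zero tyG2 11] at h1
  exact (xr_inj tyG2 (by decide) h1).symm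

end GTwo

open GTwo

theorem van3_g2_four (F : Type u) [Field F] [Fintype F] (h4 : 4 ≤ Fintype.card F) : Van3 ↥(chevG2.group F) := by
  classical
  obtain ⟨p, hcp⟩ := CharP.exists F
  have hpp : Fact p.Prime := ⟨CharP.char_is_prime F p⟩
  have hG := S1059.result (F := F) rfl
  have hpc : ¬ p ∣ (Fintype.card F ^ 2 - 1) * (Fintype.card F ^ 6 - 1) := fun h =>
    (hpp.out.dvd_mul.1 h).elim (not_dvd_sub (F := F) p two_pos) (not_dvd_sub (F := F) p (by norm_num))
  rw [mul_assoc] at hG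
  have hfin : Finite ↥(chevG2.group F) := Nat.finite_of_card_ne_zero (by
    rw [hG]
    exact mul_ne_zero (pow_ne_zero _ Fintype.card_ne_zero) fun e => hpc (by rw [e]; simp))
  have hW : Finite CoxeterMatrix.G₂.Group := finite_W tyG2 CoxeterMatrix.G₂.toCoxeterSystem
  obtain ⟨s, hs⟩ := exists_unit_pow_ne (K := F) two_pos (by omega)
  have hs2 : (s : F) ^ 2 ≠ 1 := fun h => hs (Units.ext h)
  have hs1 : (s : F) ^ 1 ≠ 1 := fun h => hs2 (by rw [pow_one] at h; rw [h, one_pow])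
  have h0 := s.ne_zero
  obtain ⟨hsim, hna⟩ := S1055.result (F := F) ⟨s, h0, by rwa [pow_one] at hs1⟩
  have hM : 0 < CoxeterMatrix.G₂ 0 1 := by decide
  obtain ⟨l, ⟨E⟩⟩ := num tyG2 p hM (h := 3) (by decide) (by norm_num) hG hpc (by
    have := Nat.pow_le_pow_left h4 (2 * 3)
    omega)
  obtain ⟨Ψ, hΨ⟩ := exists_ps tyG2 F 1
  obtain ⟨B, hB, hB1⟩ := exists_ellip_pow F
  have H := two (F := F) tyG2 p hM
  have ht := tt_mem tyG2 h0 2 3
  have ht' := tt_mem tyG2 h0 1 2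
  have hcm := hΨ.comm (comm_of_ch tyG2 ht (by decide) (by rw [ch_tt tyG2 h0 2 3 (e := 0) (by decide) (by decide), pow_zero]))
    (comm_of_ch tyG2 ht (by decide) (by rw [ch_tt tyG2 h0 2 3 (e := 0) (by decide) (by decide), pow_zero]))
  obtain ⟨u1, u2⟩ := unip tyG2 p ht' (r := 7) (by decide) (by rw [ch_tt tyG2 h0 1 2 (e := 0) (by decide) (by decide), pow_zero])
  have hg := mul_mem (H.r2.B_le_Par _ (H.r2.TB ht)) (H.co_mem (i := false) hΨ.co B)
  have hell := H.co_ell (i := false) hΨ.co ht hcm hB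
  refine R2.van3 E (perfect_of_simple hna) false hg hell (fun v hv h => ?_) u1
    (H.r2.B_le_Par _ (mul_mem (H.r2.TB ht') (H.r2.UB (xr_mem_U tyG2 _ (by decide) (by decide) 1)))) fun v hv h => ?_
  · have h1 := (show Commute _ v from h).pow_left (Fintype.card F + 1)
    rw [(show Commute _ _ from hcm B).mul_pow, ← map_pow, hB1, map_one, mul_one] at h1
    have e : ∀ r < chevG2.nroots, ((2 : ℕ) : ℤ) * chevG2.cartan 0 r + (3 : ℕ) * chevG2.cartan 1 r = (1 : ℕ) →
        ch tyG2 (vec chevG2 2 r) (tt tyG2 (s : F) 2 3 ^ (Fintype.card F + 1)) ≠ 1 := fun r hr he => by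
      rwa [ch_pow tyG2 hr ht, ch_tt tyG2 h0 2 3 hr he, pow_one, pow_succ, FiniteField.pow_card, ← sq]
    have s0 := VJ_le tyG2 _ 1 (L := [7, 8, 9, 10, 11]) (by decide +kernel) hv
    have s1 := tstep tyG2 (by decide) (by decide +kernel) (pow_mem ht _) (e 7 (by decide) (by decide)) s0 h1
    have s2 := tstep tyG2 (by decide) (by decide +kernel) (pow_mem ht _) (e 8 (by decide) (by decide)) s1 h1
    have s3 := hΨ.step (by decide) (by decide +kernel) (by decide +kernel) (by decide +kernel) (by decide +kernel)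
      (by decide +kernel) ht (by rwa [ch_tt tyG2 h0 2 3 (e := 2) (by decide) (by decide)]) B s2 h
    obtain ⟨a, w, hw, rfl⟩ := mem_cons tyG2 (by decide) (by decide +kernel) s3
    obtain ⟨b, rfl⟩ := mem11 hw
    obtain ⟨C, c, hC⟩ := exists_conj hΨ a b
    refine R2.nat_layer hg hell (Z := GS tyG2 F [11]) (fun x hx z hz => ?_) (fun z hz h2 => ?_)
      (inv_mem (H.co_mem (i := false) hΨ.co C)) (by rw [inv_inv, hC]; exact xr_mem_GS tyG2 (by simp) c) h
    · obtain ⟨u, hu, t, ht, rfl⟩ := (H.r2.mem_B x).1 hx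
      obtain ⟨d, hd⟩ := mem11 (tconj_mem tyG2 (by decide) ht hz)
      have h3 := comm_of_GS tyG2 (fun r hr a => comm11 hr a d) (U_le tyG2 _ (by decide +kernel) hu)
      rw [show u * t * z * (u * t)⁻¹ = u * (t * z * t⁻¹) * u⁻¹ by group, hd, h3, mul_inv_cancel_right]
      exact xr_mem_GS tyG2 (by simp) d
    · obtain ⟨d, rfl⟩ := mem11 hz
      obtain ⟨d', hd'⟩ := mem11 h2
      obtain ⟨k, hk, h3⟩ := n_xr (F := F) tyG2 1 (r := 11) (by decide)
      rw [show chevG2.reflectRoot (1 : Fin 2) 11 = 10 by decide +kernel] at h3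
      rw [(mul_eq_zero.1 (inter ((h3 d).symm.trans hd'))).resolve_left hk, xr_zero]
  · have h1 := (show Commute _ v from h).pow_left (Fintype.card F)
    rw [u2] at h1
    have e : ∀ r < chevG2.nroots, ((1 : ℕ) : ℤ) * chevG2.cartan 0 r + (2 : ℕ) * chevG2.cartan 1 r = (1 : ℕ) →
        ch tyG2 (vec chevG2 2 r) (tt tyG2 (s : F) 1 2) ≠ 1 := fun r hr he => by
      rwa [ch_tt tyG2 h0 1 2 hr he]
    have s0 := VJ_le tyG2 _ 0 (L := [6, 8, 9, 10, 11]) (by decide +kernel) hv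
    have s1 := tstep tyG2 (by decide) (by decide +kernel) ht' (e 6 (by decide) (by decide)) s0 h1
    have s2 := tstep tyG2 (by decide) (by decide +kernel) ht' (e 8 (by decide) (by decide)) s1 h1
    have s3 := tstep tyG2 (by decide) (by decide +kernel) ht' (e 9 (by decide) (by decide)) s2 h1
    have s4 := tstep tyG2 (by decide) (by decide +kernel) ht' (e 10 (by decide) (by decide)) s3 h1
    have s5 := tstep tyG2 (by decide) (by decide +kernel) ht'
      (by rwa [ch_tt tyG2 h0 1 2 (e := 2) (by decide) (by decide)]) s4 h1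
    rwa [GS_nil, Subgroup.mem_bot] at s5

end Cfsg.Agent.VAN.Rk
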