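import Cfsg.Agent.VAN.Rk.Path
import Cfsg.Agent.VAN.Rk.One

/-!
# S4942, rank two: the theorem for a split BN pair with dihedral Weyl group of order `4 h` (helper77)
-/

set_option autoImplicit false

namespace Cfsg.Agent.VAN.Rk

open Module Cfsg Cfsg.Agent.LieExceptional.BNPairCore Cfsg.Agent.Characters

universe u

/-- `l`-adic units -/
def Good (l : ℕ) (r : ℚ) : Prop := r ≠ 0 ∧ padicValRat l r = 0

namespace Good

variable {l : ℕ} [hl : Fact l.Prime]

theorem mul {a b : ℚ} (ha : Good l a) (hb : Good l b) : Good l (a * b) :=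
  ⟨mul_ne_zero ha.1 hb.1, by rw [padicValRat.mul ha.1 hb.1, ha.2, hb.2, add_zero]⟩

theorem of_mul {a b c : ℚ} (h : a * b = c) (hb : Good l b) (hc : Good l c) : Good l a := by
  have ha : a ≠ 0 := by
    rintro rfl
    exact hc.1 (by rw [← h, zero_mul])
  have h1 := hc.2
  rw [← h, padicValRat.mul ha hb.1, hb.2, add_zero] at h1
  exact ⟨ha, h1⟩

omit hl in
theorem nat {n : ℕ} (h : ¬ l ∣ n) : Good l n :=
  ⟨Nat.cast_ne_zero.2 fun h0 => h (h0 ▸ dvd_zero l), by
    rw [padicValRat.of_nat, padicValNat.eq_zero_of_not_dvd h, Nat.cast_zero]⟩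

omit hl in
theorem neg {a : ℚ} (ha : Good l a) : Good l (-a) := ⟨neg_ne_zero.2 ha.1, by rw [padicValRat.neg, ha.2]⟩

theorem sub {p N : ℕ} (hp : 0 < p) (hlp : ¬ l ∣ p) (hpr : ∀ k, 0 < k → k < N → ¬ l ∣ p ^ k - 1) {c : ℤ} (h0 : c ≠ 0)
    (hc : |c| < N) : Good l ((p : ℚ) ^ c - 1) := by
  have key : ∀ k : ℕ, 0 < k → k < N → Good l ((p : ℚ) ^ k - 1) := fun k h1 h2 => by
    have h3 := nat (hpr k h1 h2)
    rwa [Nat.cast_sub (Nat.one_le_pow _ _ hp), Nat.cast_pow, Nat.cast_one] at h3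
  rw [abs_lt] at hc
  obtain ⟨k, rfl | rfl⟩ := Int.eq_nat_or_neg c
  · rw [zpow_natCast]
    exact key k (by omega) (by omega)
  · have hp0 : (p : ℚ) ≠ 0 := Nat.cast_ne_zero.2 hp.ne'
    refine of_mul (b := ((p ^ k : ℕ) : ℚ)) ?_ (nat fun h => hlp (hl.out.dvd_of_dvd_pow h))
      (key k (by omega) (by omega)).neg
    rw [zpow_neg, zpow_natCast, Nat.cast_pow]
    field_simp
    ring

theorem geom {p N : ℕ} (hp : 0 < p) (hlp : ¬ l ∣ p) (hpr : ∀ k, 0 < k → k < N → ¬ l ∣ p ^ k - 1) {c : ℤ} {t : ℕ}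
    (h0 : 0 < t) (ht : t < l) (hc : t * |c| < N) : Good l (∑ s ∈ Finset.range t, ((p : ℚ) ^ c) ^ s) := by
  by_cases h1 : c = 0
  · subst h1
    simp only [zpow_zero, one_pow, Finset.sum_const, Finset.card_range, nsmul_eq_mul, mul_one]
    exact nat fun h => absurd (Nat.le_of_dvd h0 h) (by omega)
  · have h2 : |c| < N := lt_of_le_of_lt (le_mul_of_one_le_left (abs_nonneg c) (by exact_mod_cast h0)) hc
    refine of_mul (geom_sum_mul _ t) (sub hp hlp hpr h1 h2) ?_
    rw [← zpow_natCast, ← zpow_mul]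
    refine sub hp hlp hpr (mul_ne_zero h1 (by exact_mod_cast h0.ne')) ?_
    rwa [abs_mul, Nat.abs_cast, mul_comm]

theorem one_add {p N : ℕ} (hp : 0 < p) (hlp : ¬ l ∣ p) (hpr : ∀ k, 0 < k → k < N → ¬ l ∣ p ^ k - 1) {c : ℤ}
    (ht : 2 < l) (hc : 2 * |c| < N) : Good l (1 + (p : ℚ) ^ c) := by
  have h1 := geom hp hlp hpr (c := c) (t := 1 + 1) two_pos ht hc
  rwa [Finset.sum_range_succ, Finset.sum_range_one, pow_zero, pow_one] at h1

theorem dvd {g n : ℕ} {r : ℚ} (hg : g ≠ 0) (h : (g : ℚ) = n * r) (hr : Good l r) (c : ℕ) (hc : l ^ c ∣ g) :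
    l ^ c ∣ n := by
  have hn : n ≠ 0 := by
    rintro rfl
    rw [Nat.cast_zero, zero_mul] at h
    exact hg (Nat.cast_eq_zero.1 h)
  have h1 := congrArg (padicValRat l) h
  rw [padicValRat.mul (Nat.cast_ne_zero.2 hn) hr.1, hr.2, add_zero, padicValRat.of_nat, padicValRat.of_nat] at h1
  rw [padicValNat_dvd_iff_le hn, ← Nat.cast_injective h1, ← padicValNat_dvd_iff_le hg]
  exact hc

end Good

namespace R2

variable {G : Type u} [Group G] [Finite G] (D : R2 G)

theorem card_G' (i : Bool) {h : ℕ} (hm : D.m = 2 * h) : Nat.card G = Nat.card D.P.B * (1 + D.q i) *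
    ((∑ s ∈ Finset.range h, (D.q i * D.q (!i)) ^ s) * (1 + D.q (!i))) := by
  have h1 := sum_period (fun j => D.Q (!i) j) 2 (D.q i * D.q (!i)) (fun j => by
    have h2 := D.Q_add (!i) j 1
    rw [mul_one] at h2
    rw [h2, Q_succ, Q_succ, Q_zero, lt_succ, lt_zero, Bool.not_not]
    push_cast
    ring) h 0
  rw [add_zero, ← hm, Finset.sum_range_zero, mul_zero, add_zero, Finset.sum_range_succ, Finset.sum_range_one, Q_succ,
    Q_zero, lt_zero, mul_one, Nat.cast_one] at h1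
  have h2 : ∑ j ∈ Finset.range D.m, D.Q (!i) j = (∑ s ∈ Finset.range h, (D.q i * D.q (!i)) ^ s) * (1 + D.q (!i)) := by
    exact_mod_cast h1
  rw [D.card_G i, ← Finset.sum_mul, h2]
  ring

/-- the numerical data -/
structure Num (p l : ℕ) where
  /-- exponents -/
  f : Bool → ℕ
  /-- half of `m` -/
  h : ℕ
  /-- the order of the torus -/
  b : ℕ
  hp : p.Prime
  hl : l.Prime
  hm : D.m = 2 * h
  h2 : 2 ≤ h
  hf : ∀ i, 0 < f i
  hq : ∀ i, D.q i = p ^ f i
  hB : Nat.card D.P.B = p ^ (h * (f true + f false)) * b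
  pb : ¬ p ∣ b
  lb : ¬ l ∣ b
  hl1 : h < l
  ldvd : l ∣ p ^ (h * (f true + f false)) - 1
  prim : ∀ k, 0 < k → k < h * (f true + f false) → ¬ l ∣ p ^ k - 1

variable {D} {p l : ℕ}

omit [Finite G] in
theorem Num.add (E : D.Num p l) (i : Bool) : E.f i + E.f (!i) = E.f true + E.f false := by
  cases i
  · exact add_comm _ _
  · rfl

omit [Finite G] in
theorem Num.lp (E : D.Num p l) : ¬ l ∣ p := fun h => by
  have h1 : 0 < E.h * (E.f true + E.f false) := Nat.mul_pos (by have := E.h2; omega) (by have := E.hf true; omega)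
  have h2 : l ∣ p ^ (E.h * (E.f true + E.f false)) := h.trans (dvd_pow_self p h1.ne')
  have h3 := (Nat.dvd_sub_iff_right (Nat.one_le_pow _ _ E.hp.pos) h2).1 E.ldvd
  exact E.hl.one_lt.ne' (Nat.dvd_one.1 h3)

omit [Finite G] in
theorem Num.lB (E : D.Num p l) : ¬ l ∣ Nat.card D.P.B := by
  rw [E.hB]
  intro h
  rcases (Nat.Prime.dvd_mul E.hl).1 h with h1 | h1
  · exact E.lp (E.hl.dvd_of_dvd_pow h1)
  · exact E.lb h1

theorem Num.l_dvd (E : D.Num p l) : l ∣ Nat.card G := by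
  rw [D.card_G' true E.hm, E.hq, E.hq, ← pow_add, E.add]
  have h1 := Nat.geomSum_eq (m := p ^ (E.f true + E.f false))
    (Nat.one_lt_pow (by have := E.hf true; omega) E.hp.one_lt) E.h
  have h2 : (p ^ (E.f true + E.f false) - 1) * ∑ s ∈ Finset.range E.h, (p ^ (E.f true + E.f false)) ^ s =
      p ^ (E.h * (E.f true + E.f false)) - 1 := by
    rw [h1, Nat.mul_div_cancel' (Nat.sub_one_dvd_pow_sub_one _ _), ← pow_mul, mul_comm]
  have h3 := E.ldvd
  rw [← h2] at h3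
  have h4 := ((Nat.Prime.dvd_mul E.hl).1 h3).resolve_left (E.prim _ (by have := E.hf true; omega) (by
    have := E.h2
    have := E.hf true
    nlinarith))
  exact (h4.mul_right _).mul_left _

theorem Num.p_dvd (E : D.Num p l) (c : ℕ) (hc : p ^ c ∣ Nat.card G) : p ^ c ∣ p ^ (E.h * (E.f true + E.f false)) := by
  rw [D.card_G' true E.hm, E.hB, mul_assoc, mul_assoc] at hc
  refine (Nat.Coprime.pow_left c ?_).dvd_of_dvd_mul_right hc
  have h1 : ∀ i, p ∣ D.q i := fun i => by rw [E.hq]; exact dvd_pow_self p (E.hf i).ne'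
  have h2 : ∀ x, p ∣ x → p.Coprime (1 + x) := fun x hx => by
    rw [Nat.Prime.coprime_iff_not_dvd E.hp, Nat.dvd_add_left hx, Nat.dvd_one]
    exact E.hp.one_lt.ne'
  refine Nat.Coprime.mul_right ((Nat.Prime.coprime_iff_not_dvd E.hp).2 E.pb)
    (Nat.Coprime.mul_right (h2 _ (h1 _)) (Nat.Coprime.mul_right ?_ (h2 _ (h1 _))))
  obtain ⟨k, hk⟩ : ∃ k, E.h = k + 1 := ⟨E.h - 1, by have := E.h2; omega⟩
  rw [hk, Finset.sum_range_succ', pow_zero, add_comm]
  exact h2 _ (Finset.dvd_sum fun s _ => ((h1 true).mul_right _).trans (dvd_pow_self _ s.succ_ne_zero))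

/-- **The principal series.** -/
theorem ps_case (E : D.Num p l) {n : ℕ} (ρ : Representation ℂ G (Fin n → ℂ)) [ρ.IsIrreducible] (i : Bool)
    (hU : av ρ D.U ≠ 0) {g : G} (hg : g ∈ D.Par i) (hell : ∀ y ∈ D.Par i, y⁻¹ * g * y ∉ D.P.B)
    (hfp : ∀ x ∈ D.V i, g * x = x * g → x = 1) (h0 : ρ.character g ≠ 0) :
    n = 1 ∨ (∀ c, l ^ c ∣ Nat.card G → l ^ c ∣ n) ∨ ∀ c, p ^ c ∣ Nat.card G → p ^ c ∣ n := by
  obtain ⟨F⟩ := exists_uni ρ
  have hl : Fact l.Prime := ⟨E.hl⟩
  have ht : LinearMap.trace ℂ _ (ρ g * av ρ (D.V i)) ≠ 0 := by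
    rw [trace_fpf ρ (fun x hx => by
      have := D.ParV ((D.Par i).inv_mem hg) hx
      rwa [inv_inv] at this) hfp]
    exact h0
  obtain ⟨θ, hs, z, S, hS, hd, hz⟩ := exists_weight F i hU hg hell ht
  obtain ⟨a, b, k, t, ha, hb, H⟩ := deg F ⟨E.h, by rw [E.hm, two_mul]⟩ i hs hS hd hz E.hp E.hq
  rw [Module.finrank_fin_fun] at H
  have hp := E.hp.pos
  have hp0 : (p : ℚ) ≠ 0 := Nat.cast_ne_zero.2 hp.ne'
  have h2 := E.h2
  have hl1 := E.hl1
  have hm := E.hm
  have hF : ∀ j, E.f j < E.f true + E.f false := fun j => by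
    have := E.add j
    have := E.hf (!j)
    omega
  obtain ⟨φ, hφ⟩ : ∃ φ, φ = E.f true + E.f false := ⟨_, rfl⟩
  have prim := E.prim
  rw [← hφ] at prim hF
  have ha' : |a| < φ := ha.trans_lt (by exact_mod_cast hF _)
  have hb' : |b| < φ := hb.trans_lt (by exact_mod_cast hF _)
  have h2' : (2 : ℤ) ≤ E.h := by exact_mod_cast h2
  have g1 : ∀ c : ℤ, |c| < φ → Good l (1 + (p : ℚ) ^ c) := fun c hc =>
    Good.one_add hp E.lp prim (by omega) (by
      push_cast
      have := abs_nonneg c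
      nlinarith)
  have gB : Good l (Nat.card D.P.B) := Good.nat E.lB
  have hG0 : Nat.card G ≠ 0 := Nat.card_pos.ne'
  rcases H with ⟨h3, h4⟩ | ⟨h3, h4⟩
  · have h5 : (Nat.card G : ℚ) = n * (Nat.card D.P.B * (1 + (p : ℚ) ^ a) *
        ((∑ s ∈ Finset.range t, ((p : ℚ) ^ (a + b)) ^ s) * (1 + (p : ℚ) ^ b))) := by
      apply Rat.cast_injective (α := ℂ)
      rw [zpow_add₀ hp0]
      push_cast
      rw [h4]
      ring
    have h6 : E.h = (k + 1) * t := by nlinarith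
    have ht0 : 0 < t := Nat.pos_of_ne_zero (by rintro rfl; omega)
    by_cases h7 : t * |a + b| < (E.h * φ : ℕ)
    · exact Or.inr (Or.inl (Good.dvd hG0 h5 ((gB.mul (g1 a ha')).mul
        ((Good.geom hp E.lp prim ht0 (by nlinarith) h7).mul (g1 b hb')))))
    have h8 := abs_add_le a b
    have ht0' : (0 : ℤ) < t := by exact_mod_cast ht0
    have hk : k = 0 := by
      by_contra hk
      apply h7
      rw [h6]
      push_cast
      have h9 : (1 : ℤ) ≤ k := by exact_mod_cast Nat.pos_of_ne_zero hk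
      have h10 : (0 : ℤ) ≤ φ := by positivity
      calc (t : ℤ) * |a + b| < t * (2 * φ) := mul_lt_mul_of_pos_left (by omega) ht0'
        _ ≤ t * ((k + 1) * φ) := mul_le_mul_of_nonneg_left (by nlinarith) ht0'.le
        _ = _ := by ring
    subst hk
    rw [zero_add, one_mul] at h6
    subst h6
    rw [lt_zero] at hb
    have h9 : (φ : ℤ) ≤ |a + b| := by
      push_cast at h7
      exact le_of_mul_le_mul_left (not_lt.1 h7) ht0'
    have h10 : (φ : ℤ) = E.f i + E.f (!i) := by rw [hφ, ← E.add i]; push_cast; rfl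
    have h11 : (Nat.card G : ℚ) = Nat.card D.P.B * (1 + (p : ℚ) ^ E.f i) *
        ((∑ s ∈ Finset.range E.h, ((p : ℚ) ^ φ) ^ s) * (1 + (p : ℚ) ^ E.f (!i))) := by
      rw [D.card_G' i E.hm, E.hq, E.hq, ← pow_add, E.add, ← hφ]
      push_cast
      rfl
    have hG0' : (Nat.card G : ℚ) ≠ 0 := Nat.cast_ne_zero.2 hG0
    rw [abs_le] at ha hb
    rcases le_abs'.1 h9 with h12 | h12
    · have e1 : a = -(E.f i : ℤ) := by omega
      have e2 : b = -(E.f (!i) : ℤ) := by omega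
      have e3 : a + b = -(φ : ℤ) := by omega
      refine Or.inr (Or.inr fun c hc => ?_)
      have h13 : (n : ℚ) = (p : ℚ) ^ (E.h * φ) := by
        obtain ⟨r, hr⟩ : ∃ r, E.h = r + 1 := ⟨E.h - 1, by omega⟩
        have h14 : (∑ s ∈ Finset.range E.h, ((p : ℚ) ^ (-(φ : ℤ))) ^ s) * ((p : ℚ) ^ φ) ^ r =
            ∑ s ∈ Finset.range E.h, ((p : ℚ) ^ φ) ^ s := by
          rw [Finset.sum_mul, ← Finset.sum_range_reflect]
          refine Finset.sum_congr rfl fun s hs => ?_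
          have hs := Finset.mem_range.1 hs
          obtain ⟨s', hs'⟩ : ∃ s', r = s + s' := ⟨r - s, by omega⟩
          rw [show E.h - 1 - s = s' by omega, hs', zpow_neg, zpow_natCast, pow_add, inv_pow]
          field_simp
        have h15 : (p : ℚ) ^ φ = (p : ℚ) ^ E.f i * (p : ℚ) ^ E.f (!i) := by rw [← pow_add, E.add, hφ]
        apply mul_right_cancel₀ hG0'
        nth_rewrite 1 [h11]
        rw [h5, e3, e1, e2, ← h14, mul_comm E.h, pow_mul, hr, pow_succ ((p : ℚ) ^ φ) r, zpow_neg, zpow_neg,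
          zpow_neg, zpow_natCast, zpow_natCast, zpow_natCast, h15]
        field_simp
        ring
      have h14 : n = p ^ (E.h * φ) := by exact_mod_cast h13
      rw [h14, hφ]
      exact E.p_dvd c hc
    · have e1 : a = (E.f i : ℤ) := by omega
      have e2 : b = (E.f (!i) : ℤ) := by omega
      have e3 : a + b = (φ : ℤ) := by omega
      left
      rw [e3, e1, e2, zpow_natCast, zpow_natCast, zpow_natCast, ← h11] at h5
      have h13 : (n : ℚ) = 1 := mul_right_cancel₀ hG0' (h5.symm.trans (one_mul _).symm)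
      exact_mod_cast h13
  · have h5 : (Nat.card G : ℚ) = n * (Nat.card D.P.B * (1 + (p : ℚ) ^ a) *
        (∑ s ∈ Finset.range (2 * t + 1), ((p : ℚ) ^ a) ^ s)) := by
      apply Rat.cast_injective (α := ℂ)
      push_cast
      have h6 := sum_period (fun s => ((p : ℂ) ^ a) ^ s) 2 ((p : ℂ) ^ a * p ^ a) (fun j => by ring) t 1
      rw [h4, h6, Finset.sum_range_succ _ 1, Finset.sum_range_one]
      ring
    have hk : 1 ≤ k := by
      by_contra hk
      have : k = 0 := by omega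
      subst this
      omega
    have h6 : 2 * t + 1 ≤ E.h := by nlinarith
    refine Or.inr (Or.inl (Good.dvd hG0 h5 ((gB.mul (g1 a ha')).mul
      (Good.geom hp E.lp prim (by omega) (by omega) ?_))))
    have h7 : ((2 * t + 1 : ℕ) : ℤ) ≤ E.h := by exact_mod_cast h6
    have h8 : (0 : ℤ) < (2 * t + 1 : ℕ) := by positivity
    calc ((2 * t + 1 : ℕ) : ℤ) * |a| < (2 * t + 1 : ℕ) * φ := mul_lt_mul_of_pos_left ha' h8
      _ ≤ E.h * φ := mul_le_mul_of_nonneg_right h7 (by positivity)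
      _ = _ := by push_cast; rfl

/-- the theorem, with the characters outside the principal series as a hypothesis -/
theorem van3_of_cusp (E : D.Num p l) (hperf : commutator G = ⊤) (i : Bool) {g g' : G} (hg : g ∈ D.Par i)
    (hell : ∀ y ∈ D.Par i, y⁻¹ * g * y ∉ D.P.B) (hfp : ∀ x ∈ D.V i, g * x = x * g → x = 1) (hg' : p ∣ orderOf g')
    (hc : ∀ (n : ℕ) (ρ : Representation ℂ G (Fin n → ℂ)), ρ.IsIrreducible → av ρ D.U = 0 →
      LinearMap.trace ℂ _ (ρ g * av ρ (D.V i)) ≠ 0 → ρ.character g' = 0 ∨ ∀ c, l ^ c ∣ Nat.card G → l ^ c ∣ n) :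
    Van3 G := by
  have hl : Fact l.Prime := ⟨E.hl⟩
  obtain ⟨z, hz⟩ := exists_prime_orderOf_dvd_card' (G := G) l E.l_dvd
  refine ⟨z, g, g', fun χ hχ h1 => ?_⟩
  have hχ' := hχ
  obtain ⟨n, ρ, hρ, rfl⟩ := hχ'
  have hd : ρ.character 1 = n := by rw [Representation.char_one, Module.finrank_fin_fun]
  by_cases h0 : ρ.character g = 0
  · exact Or.inr (Or.inl h0)
  by_cases hU : av ρ D.U = 0
  · rcases hc n ρ hρ hU (by
      rw [trace_fpf ρ (fun x hx => by
        have := D.ParV ((D.Par i).inv_mem hg) hx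
        rwa [inv_inv] at this) hfp]
      exact h0) with h | h
    · exact Or.inr (Or.inr h)
    · exact Or.inl (zero_of_dvd hχ E.hl hd h (by rw [hz]))
  · rcases ps_case E ρ i hU hg hell hfp h0 with h | h | h
    · exact absurd (H956.OZ.Ree.eq_one_of_perfect hperf hχ (by rw [hd, h, Nat.cast_one])) h1
    · exact Or.inl (zero_of_dvd hχ E.hl hd h (by rw [hz]))
    · exact Or.inr (Or.inr (zero_of_dvd hχ E.hp hd h hg'))

/-- **Rank two.** -/
theorem van3 (E : D.Num p l) (hperf : commutator G = ⊤) (i : Bool) {g g' : G} (hg : g ∈ D.Par i)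
    (hell : ∀ y ∈ D.Par i, y⁻¹ * g * y ∉ D.P.B) (hfp : ∀ x ∈ D.V i, g * x = x * g → x = 1) (hp : p ∣ orderOf g')
    (hg' : g' ∈ D.Par (!i)) (hfp' : ∀ x ∈ D.V (!i), g' * x = x * g' → x = 1) : Van3 G := by
  refine van3_of_cusp E hperf i hg hell hfp hp fun n ρ hρ hU ht => Or.inl ?_
  have h1 := cross_zero (ρ := ρ) ⟨E.h, by rw [E.hm, two_mul]⟩ i hU (by
    intro h
    rw [h, mul_zero, map_zero] at ht
    exact ht rfl)
  have h2 := trace_fpf ρ (fun x hx => by
    have := D.ParV ((D.Par (!i)).inv_mem hg') hx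
    rwa [inv_inv] at this) hfp'
  rw [h1, mul_zero, map_zero] at h2
  exact h2.symm

end R2

end Cfsg.Agent.VAN.Rk
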