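import Cfsg.Agent.VAN.Rk.Ell

/-!
# S4942, rank two: the degree of a character that does not vanish at an elliptic element (helper77)
-/

set_option autoImplicit false

namespace Cfsg.Agent.VAN.Rk

open Module Cfsg Cfsg.Agent.LieExceptional.BNPairCore Cfsg.Agent.Characters
open scoped ComplexConjugate ComplexOrder

universe u

theorem sum_period (ν : ℕ → ℂ) (d : ℕ) (z : ℂ) (h : ∀ j, ν (j + d) = z * ν j) (t r : ℕ) :
    ∑ j ∈ Finset.range (d * t + r), ν j =
      (∑ s ∈ Finset.range t, z ^ s) * ∑ j ∈ Finset.range d, ν j + z ^ t * ∑ j ∈ Finset.range r, ν j := by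
  have h1 : ∀ t j, ν (d * t + j) = z ^ t * ν j := by
    intro t j
    induction t with
    | zero => simp
    | succ t ih => rw [show d * (t + 1) + j = d * t + j + d by ring, h, ih, pow_succ', mul_assoc]
  have h2 : ∀ t r, ∑ j ∈ Finset.range (d * t + r), ν j =
      ∑ j ∈ Finset.range (d * t), ν j + z ^ t * ∑ j ∈ Finset.range r, ν j := fun t r => by
    rw [Finset.sum_range_add, Finset.mul_sum, Finset.sum_congr rfl fun j _ => h1 t j]
  rw [h2]
  congr 1
  induction t with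
  | zero => simp
  | succ t ih => rw [mul_add, mul_one, h2, ih, Finset.sum_range_succ, add_mul]

namespace R2

variable {G : Type u} [Group G] (D : R2 G) {V : Type} [AddCommGroup V] [Module ℂ V] (ρ : Representation ℂ G V)

/-- the weights along an alternating word -/
def th (i : Bool) (θ : D.T → ℂ) (j : ℕ) : D.T → ℂ := D.act (alt D.n i j) (D.altN i j) θ

theorem th_zero (i : Bool) (θ : D.T → ℂ) : D.th i θ 0 = θ := by
  funext t
  show θ _ = θ t
  congr 1
  apply Subtype.ext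
  show (1 : G)⁻¹ * t * 1 = t
  group

theorem th_succ (i : Bool) (θ : D.T → ℂ) (j : ℕ) : D.th i θ (j + 1) = D.s (lt i j) (D.th i θ j) := by
  funext t
  show θ _ = θ _
  congr 1
  apply Subtype.ext
  show (D.n (lt i j) * alt D.n i j)⁻¹ * t * (D.n (lt i j) * alt D.n i j) =
    (alt D.n i j)⁻¹ * ((D.n (lt i j))⁻¹ * t * D.n (lt i j)) * alt D.n i j
  group

theorem th_loop {i : Bool} {θ : D.T → ℂ} (hs : D.s i θ = θ) {j : ℕ} (hj : j + 1 = D.m) :
    D.th (!i) θ (j + 1) = D.th (!i) θ j := by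
  funext t
  have h1 := D.braid' i
  rw [← hj, alt_succ'] at h1
  have h2 := congrFun hs ⟨_, D.NT (D.altN (!i) j) t.2⟩
  refine Eq.trans ?_ h2
  show θ _ = θ _
  congr 1
  apply Subtype.ext
  show (alt D.n (!i) (j + 1))⁻¹ * t * alt D.n (!i) (j + 1) =
    (D.n i)⁻¹ * ((alt D.n (!i) j)⁻¹ * t * alt D.n (!i) j) * D.n i
  have h3 := D.comm _ h1 _ (D.NT (D.nN i) (D.NT (D.altN (!i) j) t.2))
  calc _ = ((alt D.n (!i) j * D.n i)⁻¹ * alt D.n (!i) (j + 1))⁻¹ *
        ((D.n i)⁻¹ * ((alt D.n (!i) j)⁻¹ * t * alt D.n (!i) j) * D.n i *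
          ((alt D.n (!i) j * D.n i)⁻¹ * alt D.n (!i) (j + 1))) := by group
    _ = _ := by rw [← h3]; group

theorem th_ne {i : Bool} {θ : D.T → ℂ} (hs : D.s i θ = θ) {k : ℕ}
    (hk : ∀ j < k, D.th (!i) θ (j + 1) ≠ D.th (!i) θ j) {j : ℕ} (h0 : 0 < j) (hj : j ≤ k) : D.th (!i) θ j ≠ θ := by
  have odd : ∀ r, 2 * r + 1 ≤ k → D.th (!i) θ (2 * r + 1) ≠ θ := by
    intro r hr h
    have key : ∀ a b, a + b = r → D.th (!i) θ (a + 2 * b + 1) = D.th (!i) θ a := by
      intro a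
      induction a with
      | zero =>
        intro b hb
        rw [zero_add] at hb
        rw [zero_add, hb, h, th_zero]
      | succ a ih =>
        intro b hb
        have h1 := ih (b + 1) (by omega)
        rw [th_succ, lt_add_two_mul] at h1
        rw [th_succ D _ _ a, ← h1, s_s]
        congr 1
        omega
    exact hk r (by omega) (key r 0 rfl)
  rcases Nat.even_or_odd' j with ⟨r, rfl | rfl⟩
  · obtain ⟨r, rfl⟩ : ∃ r', r = r' + 1 := ⟨r - 1, by omega⟩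
    intro h
    apply odd r (by omega)
    rw [show 2 * (r + 1) = 2 * r + 1 + 1 by ring, th_succ, lt_odd _ ⟨r, rfl⟩, Bool.not_not] at h
    rw [← D.s_s i (D.th (!i) θ (2 * r + 1)), h, hs]
  · exact odd r hj

theorem Q_add (i : Bool) (j k : ℕ) : D.Q i (j + 2 * k) = D.Q i j * D.Q i (2 * k) := by
  induction j with
  | zero => rw [zero_add, Q_zero, one_mul]
  | succ j ih => rw [show j + 1 + 2 * k = j + 2 * k + 1 by ring, Q_succ, Q_succ, ih, lt_add_two_mul, mul_assoc]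

variable [Finite G]

/-- the operators of the alternating words -/
noncomputable def Pth (i : Bool) : ℕ → Module.End ℂ V
  | 0 => 1
  | j + 1 => D.A ρ (lt i j) * Pth i j

theorem Pth_realised : True := by have := @Pth.eq_def.{0}; trivial

theorem Pth_zero (i : Bool) (v : V) : D.Pth ρ i 0 v = v := rfl

theorem Pth_succ (i : Bool) (j : ℕ) (v : V) : D.Pth ρ i (j + 1) v = D.A ρ (lt i j) (D.Pth ρ i j v) := rfl

theorem Pth_add (i : Bool) (j k : ℕ) (v : V) : D.Pth ρ i (j + 2 * k) v = D.Pth ρ i j (D.Pth ρ i (2 * k) v) := by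
  induction j with
  | zero => rw [zero_add, Pth_zero]
  | succ j ih => rw [show j + 1 + 2 * k = j + 2 * k + 1 by ring, Pth_succ, Pth_succ, ih, lt_add_two_mul]

variable {D ρ}

theorem Pth_mem (i : Bool) {θ : D.T → ℂ} {v : V} (hv : v ∈ D.W ρ θ) (j : ℕ) : D.Pth ρ i j v ∈ D.W ρ (D.th i θ j) := by
  induction j with
  | zero => rwa [th_zero]
  | succ j ih =>
    rw [th_succ]
    exact A_mem _ ih

theorem av_alt (i : Bool) {v : V} (hv : ∀ u ∈ D.U, ρ u v = v) {j : ℕ} (hj : j ≤ D.m) :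
    av ρ D.U (ρ (alt D.n i j) v) = D.Pth ρ i j v := by
  induction j with
  | zero => rw [alt_zero, map_one, Module.End.one_apply, av_fix ρ hv, Pth_zero]
  | succ j ih =>
    rw [Pth_succ, ← ih (by omega), ← Module.End.mul_apply (D.A ρ _), A_av, Module.End.mul_apply, alt_succ, ← rho_mul,
      ← A_apply]
    refine (app_av ρ _ fun x hx => ?_).symm
    rw [rho_mul, show x * alt D.n i j = alt D.n i j * ((alt D.n i j)⁻¹ * x * alt D.n i j) by group, ← rho_mul,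
      hv _ (D.red i j (by omega) x hx)]

theorem av_alt_n (i : Bool) {v : V} (hv : ∀ u ∈ D.U, ρ u v = v) {l : ℂ} (hA : D.A ρ i v = l • v) {j : ℕ}
    (hj : j < D.m) : av ρ D.U (ρ (alt D.n (!i) j * D.n i) v) = l • D.Pth ρ (!i) j v := by
  have key : ∀ j, j < D.m → D.Pth ρ i (j + 1) v = D.Pth ρ (!i) j (D.A ρ i v) := by
    intro j hj
    induction j with
    | zero => rfl
    | succ j ih => rw [Pth_succ, ih (by omega), Pth_succ, lt_succ, lt_not]
  rw [← alt_succ', av_alt i hv hj, key j hj, hA, map_smul]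

/-- Schur's relation -/
theorem schur [FiniteDimensional ℂ V] [ρ.IsIrreducible] (F : Uni ρ) (i : Bool) {θ : D.T → ℂ} {v : V}
    (hv : v ∈ D.W ρ θ) (h0 : v ≠ 0) {l : ℂ} (hA : D.A ρ i v = l • v) :
    (Nat.card G : ℂ) * F.B v v ^ 2 = finrank ℂ V * Nat.card D.P.B * (1 + D.q i * (conj l * l)) *
      ∑ j ∈ Finset.range D.m, D.Q (!i) j * (conj (F.B v (D.Pth ρ (!i) j v)) * F.B v (D.Pth ρ (!i) j v)) := by
  have := Fintype.ofFinite G
  have h1 := congrArg (fun f : Module.End ℂ V => F.B v (f v)) (Ito.sum_conj ρ ((F.B v).smulRight v))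
  simp only [LinearMap.sum_apply, map_sum, LinearMap.trace_smulRight, LinearMap.smul_apply, Module.End.one_apply,
    Module.End.mul_apply, LinearMap.smulRight_apply, map_smul, smul_eq_mul] at h1
  have h2 : ∀ g, F.B v (ρ g⁻¹ v) = conj (F.B v (ρ g v)) := fun g => by rw [F.symm, F.adj]
  simp only [h2] at h1
  have hB : ∀ w, F.B v w = F.B v (av ρ D.U w) := fun w => by rw [← F.av_adj, av_fix ρ hv.1]
  rw [D.sum_eq i (fun g => conj (F.B v (ρ g v)) * F.B v (ρ g v)) fun b hb b' hb' g => by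
    obtain ⟨c, hc⟩ := B_apply hv (D.P.B.inv_mem hb)
    obtain ⟨d, hd⟩ := B_apply hv hb'
    rw [← rho_mul, ← rho_mul, hd, ← inv_inv b, ← F.adj, hc, F.smul_left, map_smul (ρ g), F.smul_right, map_mul, map_mul,
      Complex.conj_conj]
    have e1 := F.eig h0 hc
    have e2 := F.eig h0 hd
    linear_combination (conj d * d * (conj (F.B v (ρ g v)) * F.B v (ρ g v))) * e1 +
      (conj (F.B v (ρ g v)) * F.B v (ρ g v)) * e2] at h1
  have hn : (finrank ℂ V : ℂ) ≠ 0 := Nat.cast_ne_zero.2 (Ito.finrank_pos_of_irreducible ρ).ne'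
  have h3 : ∑ j ∈ Finset.range D.m, (D.Q (!i) j : ℂ) *
      (conj (F.B v (ρ (alt D.n (!i) j) v)) * F.B v (ρ (alt D.n (!i) j) v) +
        D.q i * (conj (F.B v (ρ (alt D.n (!i) j * D.n i) v)) * F.B v (ρ (alt D.n (!i) j * D.n i) v))) =
      (1 + D.q i * (conj l * l)) *
      ∑ j ∈ Finset.range D.m, D.Q (!i) j * (conj (F.B v (D.Pth ρ (!i) j v)) * F.B v (D.Pth ρ (!i) j v)) := by
    rw [Finset.mul_sum]
    refine Finset.sum_congr rfl fun j hj => ?_
    have hj := Finset.mem_range.1 hj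
    rw [hB (ρ (alt D.n (!i) j) v), hB (ρ (alt D.n (!i) j * D.n i) v), av_alt _ hv.1 hj.le, av_alt_n i hv.1 hA hj,
      F.smul_right, map_mul]
    ring
  rw [h3] at h1
  rw [Nat.card_eq_fintype_card, mul_assoc, mul_assoc, h1]
  field_simp

/-- **The degree.** -/
theorem deg [FiniteDimensional ℂ V] [ρ.IsIrreducible] (F : Uni ρ) (hm : Even D.m) (i : Bool) {θ : D.T → ℂ}
    (hs : D.s i θ = θ) {l : ℂ} {S : Submodule ℂ V} (hS : S ≤ D.W ρ θ) (hd : finrank ℂ (D.W ρ θ) < 2 * finrank ℂ S)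
    (hl : ∀ w ∈ S, D.A ρ i w = l • w) {p : ℕ} (hp : p.Prime) {f : Bool → ℕ} (hq : ∀ i, D.q i = p ^ f i) :
    ∃ (a b : ℤ) (k t : ℕ), |a| ≤ f i ∧ |b| ≤ f (lt (!i) k) ∧
      ((D.m = 2 * (k + 1) * t ∧ (Nat.card G : ℂ) = finrank ℂ V * Nat.card D.P.B * (1 + (p : ℂ) ^ a) *
          ((∑ s ∈ Finset.range t, ((p : ℂ) ^ a * p ^ b) ^ s) * (1 + (p : ℂ) ^ b))) ∨
        (D.m = 2 * (k + 1) * t + (k + 1) ∧ (Nat.card G : ℂ) = finrank ℂ V * Nat.card D.P.B * (1 + (p : ℂ) ^ a) *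
          ((∑ s ∈ Finset.range t, ((p : ℂ) ^ a * p ^ a) ^ s) * (1 + (p : ℂ) ^ a) + ((p : ℂ) ^ a * p ^ a) ^ t))) := by
  classical
  obtain ⟨m', hm'⟩ : ∃ m', m' + 1 = D.m := ⟨D.m - 1, by have := D.m_pos; omega⟩
  have hex : ∃ j, D.th (!i) θ (j + 1) = D.th (!i) θ j := ⟨m', D.th_loop hs hm'⟩
  obtain ⟨k, hk⟩ : ∃ k, k = Nat.find hex := ⟨_, rfl⟩
  have hk1 : D.th (!i) θ (k + 1) = D.th (!i) θ k := hk ▸ Nat.find_spec hex
  have hk2 : ∀ j < k, D.th (!i) θ (j + 1) ≠ D.th (!i) θ j := fun j hj => Nat.find_min hex (hk ▸ hj)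
  have hk3 : ∀ j < k, D.s (lt (!i) j) (D.th (!i) θ j) ≠ D.th (!i) θ j := fun j hj => D.th_succ _ _ _ ▸ hk2 j hj
  have hle : ∀ j, S.map (D.Pth ρ (!i) j) ≤ D.W ρ (D.th (!i) θ j) := fun j => by
    rintro _ ⟨v, hv, rfl⟩
    exact Pth_mem _ (hS hv) j
  have hbig : ∀ j ≤ k, finrank ℂ (D.W ρ (D.th (!i) θ j)) < 2 * finrank ℂ (S.map (D.Pth ρ (!i) j)) := by
    intro j hj
    induction j with
    | zero =>
      rw [th_zero]
      exact hd.trans_eq (congrArg (fun T : Submodule ℂ V => 2 * finrank ℂ T) (Submodule.map_id S).symm)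
    | succ j ih =>
      have h1 := large_map F (hk3 j hj) (hle j) (ih (by omega))
      rwa [← th_succ, ← Submodule.map_comp] at h1
  obtain ⟨c, -, hc⟩ := quad (ρ := ρ) (lt (!i) k) (D.th (!i) θ k)
  obtain ⟨_, ⟨v, hvS, rfl⟩, hw0, μ, hμ⟩ := exists_eig (hle k) (hbig k le_rfl) (D.A ρ (lt (!i) k))
    (fun w hw => by
      have h1 := A_mem (lt (!i) k) hw
      rwa [← th_succ, hk1] at h1)
    (a := (D.q (lt (!i) k) : ℂ)⁻¹ * D.eps (lt (!i) k) (D.th (!i) θ k) * c)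
    (b := (D.q (lt (!i) k) : ℂ)⁻¹ * D.eps (lt (!i) k) (D.th (!i) θ k)) (fun w hw => by
      apply smul_right_injective V (q_ne (D := D) (lt (!i) k))
      show (D.q (lt (!i) k) : ℂ) • _ = (D.q (lt (!i) k) : ℂ) • _
      rw [hc w hw]
      have := q_ne (D := D) (lt (!i) k)
      match_scalars <;> field_simp)
  have hv := hS hvS
  have h0 : v ≠ 0 := by
    rintro rfl
    exact hw0 (map_zero _)
  have hA := hl v hvS
  have hvv : F.B v v ≠ 0 := fun h => h0 (F.dfn v h)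
  obtain ⟨a, ha, hx⟩ := eig_pow F hv h0 hA hp (hq i)
  obtain ⟨b, hb, hy⟩ := eig_pow F (Pth_mem (!i) hv k) hw0 hμ hp (hq _)
  obtain ⟨w, hw⟩ : ∃ w : ℕ → V, w = fun j => D.Pth ρ (!i) j v := ⟨_, rfl⟩
  have hws : ∀ j, w (j + 1) = D.A ρ (lt (!i) j) (w j) := fun j => by rw [hw]; rfl
  have hwm : ∀ j, w j ∈ D.W ρ (D.th (!i) θ j) := fun j => by rw [hw]; exact Pth_mem _ hv j
  have hw00 : w 0 = v := by rw [hw]; rfl
  have hμ' : w (k + 1) = μ • w k := by rw [hw]; exact hμ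
  have n1 : ∀ j ≤ k, (D.Q (!i) j : ℂ) * F.B (w j) (w j) = F.B v v := by
    intro j hj
    induction j with
    | zero => rw [Q_zero, hw00, Nat.cast_one, one_mul]
    | succ j ih => rw [Q_succ, hws, Nat.cast_mul, mul_comm (D.q _ : ℂ), mul_assoc, norm_A F (hk3 j hj) (hwm j), ih (by omega)]
  have back : ∀ s r, s + r = k → ∃ c : ℂ, w (k + 1 + s) = c • w r ∧ D.th (!i) θ (k + 1 + s) = D.th (!i) θ r ∧
      (D.Q (!i) (k + 1 + s) : ℂ) * F.B (w (k + 1 + s)) (w (k + 1 + s)) = (p : ℂ) ^ b * F.B v v := by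
    intro s
    induction s with
    | zero =>
      intro r hr
      rw [zero_add] at hr
      subst hr
      refine ⟨μ, hμ', hk1, ?_⟩
      rw [add_zero, hμ', Q_succ, F.smul_left, F.smul_right, ← hy, ← n1 r le_rfl]
      push_cast
      ring
    | succ s ih =>
      intro r hr
      obtain ⟨c, h1, h2, h3⟩ := ih (r + 1) (by omega)
      have e : lt (!i) (k + 1 + s) = lt (!i) r := by
        rw [show k + 1 + s = r + 2 * (s + 1) by omega, lt_add_two_mul]
      have hq0 := q_ne (D := D) (lt (!i) r)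
      refine ⟨c * (D.q (lt (!i) r) : ℂ)⁻¹ * D.eps (lt (!i) r) (D.th (!i) θ r), ?_, ?_, ?_⟩
      · rw [← add_assoc, hws, e, h1, hws, map_smul, mul_smul, ← quad_ne (hk3 r (by omega)) (hwm r), smul_smul,
          mul_assoc, inv_mul_cancel₀ hq0, mul_one]
      · rw [← add_assoc, th_succ, e, h2, th_succ, s_s]
      · have h4 : D.s (lt (!i) r) (D.th (!i) θ (k + 1 + s)) ≠ D.th (!i) θ (k + 1 + s) := by
          rw [h2, th_succ, s_s, ← th_succ]
          exact (hk2 r (by omega)).symm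
        rw [← add_assoc, Q_succ, hws, e, Nat.cast_mul, mul_comm (D.q _ : ℂ), mul_assoc, norm_A F h4 (hwm _), h3]
  obtain ⟨c₀, b1, b2, b3⟩ := back k 0 rfl
  rw [hw00] at b1
  rw [th_zero] at b2
  rw [b1, F.smul_left, F.smul_right, ← mul_assoc, ← mul_assoc] at b3
  have b4 := mul_right_cancel₀ hvv b3
  have e2 : lt (!i) (k + 1 + k) = i := by rw [lt_odd _ ⟨k, by ring⟩, Bool.not_not]
  have e3 : 2 * (k + 1) = k + 1 + k + 1 := by ring
  have p1 : w (2 * (k + 1)) = (c₀ * l) • v := by rw [e3, hws, e2, b1, map_smul, hA, smul_smul]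
  have p2 : ∀ j, w (j + 2 * (k + 1)) = (c₀ * l) • w j := fun j => by
    have h1 : w (j + 2 * (k + 1)) = D.Pth ρ (!i) j (w (2 * (k + 1))) := by rw [hw]; exact D.Pth_add ρ _ _ _ _
    rw [h1, p1, map_smul, hw]
  have p3 : ∀ j, D.th (!i) θ (j + 2 * (k + 1)) = D.th (!i) θ j := by
    intro j
    induction j with
    | zero => rw [zero_add, e3, th_succ, e2, b2, hs, th_zero]
    | succ j ih => rw [show j + 1 + 2 * (k + 1) = j + 2 * (k + 1) + 1 by ring, th_succ, ih, lt_add_two_mul, ← th_succ]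
  have p4 : (D.Q (!i) (2 * (k + 1)) : ℂ) * (conj (c₀ * l) * (c₀ * l)) = (p : ℂ) ^ a * p ^ b := by
    rw [e3, Q_succ, e2, ← hx, ← b4, map_mul]
    push_cast
    ring
  obtain ⟨ν, hν⟩ : ∃ ν : ℕ → ℂ, ν = fun j => (D.Q (!i) j : ℂ) * (conj (F.B v (w j)) * F.B v (w j)) := ⟨_, rfl⟩
  have v0 : ν 0 = F.B v v ^ 2 := by
    rw [hν]
    show (D.Q (!i) 0 : ℂ) * (conj (F.B v (w 0)) * F.B v (w 0)) = _
    rw [Q_zero, hw00, F.symm]
    push_cast
    ring
  have v1 : ∀ j, D.th (!i) θ j ≠ θ → ν j = 0 := fun j hj => by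
    rw [hν]
    show (D.Q (!i) j : ℂ) * (conj (F.B v (w j)) * F.B v (w j)) = _
    rw [orth F hj.symm hv (hwm j), mul_zero, mul_zero]
  have v2 : ν (k + 1 + k) = (p : ℂ) ^ b * F.B v v ^ 2 := by
    rw [hν]
    show (D.Q (!i) _ : ℂ) * (conj (F.B v (w _)) * F.B v (w _)) = _
    rw [b1, F.smul_right, map_mul, F.symm, ← b4]
    ring
  have v3 : ∀ j, ν (j + 2 * (k + 1)) = (p : ℂ) ^ a * p ^ b * ν j := fun j => by
    rw [hν]
    show (D.Q (!i) _ : ℂ) * (conj (F.B v (w _)) * F.B v (w _)) = _ * ((D.Q (!i) _ : ℂ) * (conj (F.B v (w _)) * F.B v (w _)))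
    rw [p2, Q_add, ← p4, F.smul_right, map_mul]
    push_cast
    ring
  have s1 : ∑ j ∈ Finset.range (k + 1), ν j = F.B v v ^ 2 := by
    rw [Finset.sum_range_succ', v0, Finset.sum_eq_zero, zero_add]
    intro j hj
    exact v1 _ (D.th_ne hs hk2 (by omega) (Finset.mem_range.1 hj))
  have s2 : ∑ j ∈ Finset.range (2 * (k + 1)), ν j = (1 + (p : ℂ) ^ b) * F.B v v ^ 2 := by
    rw [e3, Finset.sum_range_succ, Finset.sum_range_add, s1, v2, Finset.sum_eq_zero]
    · ring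
    · intro j hj
      have hj := Finset.mem_range.1 hj
      obtain ⟨_, -, h1, -⟩ := back j (k - j) (by omega)
      exact v1 _ (h1 ▸ D.th_ne hs hk2 (by omega) (by omega))
  have hsch := schur F i hv h0 hA
  have hsum : ∑ j ∈ Finset.range D.m, D.Q (!i) j * (conj (F.B v (D.Pth ρ (!i) j v)) * F.B v (D.Pth ρ (!i) j v)) =
      ∑ j ∈ Finset.range D.m, ν j := by rw [hν, hw]
  rw [hsum, hx] at hsch
  obtain ⟨t, r, hr, hmr⟩ : ∃ t r, r < 2 * (k + 1) ∧ m' = r + 2 * (k + 1) * t :=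
    ⟨m' / (2 * (k + 1)), m' % (2 * (k + 1)), Nat.mod_lt _ (by omega), (Nat.mod_add_div _ _).symm⟩
  have p5 : ∀ t j, D.th (!i) θ (j + 2 * (k + 1) * t) = D.th (!i) θ j := by
    intro t j
    induction t with
    | zero => rfl
    | succ t ih => rw [mul_add, mul_one, ← add_assoc, p3, ih]
  have hloop : D.th (!i) θ (r + 1) = D.th (!i) θ r := by
    have h1 := D.th_loop hs hm'
    rwa [hmr, add_right_comm, p5, p5] at h1
  have hvv2 : F.B v v ^ 2 ≠ 0 := pow_ne_zero 2 hvv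
  by_cases h1 : r = k + 1 + k
  · have h2 : D.m = 2 * (k + 1) * (t + 1) := by rw [← hm', hmr, h1]; ring
    refine ⟨a, b, k, t + 1, ha, hb, Or.inl ⟨h2, mul_right_cancel₀ hvv2 ?_⟩⟩
    rw [hsch, h2, ← add_zero (2 * (k + 1) * (t + 1)), sum_period ν _ _ v3, s2, Finset.sum_range_zero]
    ring
  have h2 : r = k := by
    by_contra h2
    rcases lt_or_gt_of_ne h2 with h3 | h3
    · exact hk2 r h3 hloop
    · obtain ⟨s, rfl⟩ : ∃ s, r = k + 1 + s := ⟨r - (k + 1), by omega⟩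
      obtain ⟨r', hr'⟩ : ∃ r', s + 1 + r' = k := ⟨k - (s + 1), by omega⟩
      obtain ⟨_, -, h4, -⟩ := back s (r' + 1) (by omega)
      obtain ⟨_, -, h5, -⟩ := back (s + 1) r' hr'
      rw [add_assoc, h5, h4] at hloop
      exact hk2 r' (by omega) hloop.symm
  subst h2
  have h2 : D.m = 2 * (r + 1) * t + (r + 1) := by rw [← hm', hmr]; ring
  have p6 : ∀ t j, w (j + 2 * (r + 1) * t) = (c₀ * l) ^ t • w j := by
    intro t j
    induction t with
    | zero => simp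
    | succ t ih => rw [mul_add, mul_one, ← add_assoc, p2, ih, smul_smul, pow_succ']
  have hab : (p : ℂ) ^ b = (p : ℂ) ^ a := by
    have h3 := D.braid' i
    rw [← hm', alt_succ'] at h3
    have h4 : w (m' + 1) = (θ ⟨_, h3⟩ * l) • w m' := by
      rw [hw]
      show D.Pth ρ (!i) (m' + 1) v = _ • D.Pth ρ (!i) m' v
      rw [← av_alt (!i) hv.1 hm'.le, mul_smul, ← av_alt_n i hv.1 hA (by omega), ← map_smul, ← map_smul, ← hv.2,
        rho_mul, mul_inv_cancel_left]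
    have h9 := conj_mul F hv h0 ⟨_, h3⟩
    generalize θ ⟨_, h3⟩ = e at h4 h9
    rw [hmr, add_right_comm, p6, p6, hμ', smul_comm] at h4
    have hp0 : (p : ℂ) ≠ 0 := Nat.cast_ne_zero.2 hp.ne_zero
    have h5 : (c₀ * l) ^ t • w r ≠ 0 := by
      refine smul_ne_zero (pow_ne_zero _ fun h => ?_) (by rw [hw]; exact hw0)
      rw [h, mul_zero, mul_zero] at p4
      exact mul_ne_zero (zpow_ne_zero _ hp0) (zpow_ne_zero _ hp0) p4.symm
    have h6 : μ = e * l := smul_left_injective ℂ h5 h4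
    have h7 : lt (!i) r = i := by
      have h8 : Odd m' := by
        rw [← hm'] at hm
        exact Nat.not_even_iff_odd.1 (Nat.even_add_one.1 hm)
      rw [← lt_add_two_mul _ r ((r + 1) * t), ← mul_assoc, ← hmr, lt_odd _ h8, Bool.not_not]
    rw [← hx, ← hy, h7, h6, map_mul, mul_mul_mul_comm, h9, one_mul]
  refine ⟨a, b, r, t, ha, hb, Or.inr ⟨h2, mul_right_cancel₀ hvv2 ?_⟩⟩
  rw [hsch, h2, sum_period ν _ _ v3, s2, s1, hab]
  ring

end R2

end Cfsg.Agent.VAN.Rk
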