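import Cfsg.Agent.Characters.Ito

/-!
# S4942, rank two: representation theoretic tools (helper77)

Invariant hermitian forms, averaging projections, linear algebra of quadratic operators.
-/

set_option autoImplicit false

namespace Cfsg.Agent.VAN.Rk

open Module
open scoped ComplexConjugate ComplexOrder

universe u

variable {G : Type u} [Group G] {V : Type} [AddCommGroup V] [Module ℂ V]

/-- an invariant positive definite hermitian form -/
structure Uni (ρ : Representation ℂ G V) where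
  /-- the form -/
  B : V →ₗ⋆[ℂ] V →ₗ[ℂ] ℂ
  symm : ∀ v w, conj (B v w) = B w v
  inv : ∀ g v w, B (ρ g v) (ρ g w) = B v w
  pos : ∀ v, 0 ≤ B v v
  dfn : ∀ v, B v v = 0 → v = 0

theorem exists_uni [Finite G] {n : ℕ} (ρ : Representation ℂ G (Fin n → ℂ)) : Nonempty (Uni ρ) := by
  have := Fintype.ofFinite G
  have hp : ∀ (v : Fin n → ℂ) g i, 0 ≤ conj (ρ g v i) * ρ g v i := fun v g i => by
    rw [Complex.conj_mul']
    positivity
  refine ⟨⟨LinearMap.mk₂'ₛₗ (starRingEnd ℂ) (RingHom.id ℂ) (fun v w => ∑ g, ∑ i, conj (ρ g v i) * ρ g w i)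
    ?_ ?_ ?_ ?_, ?_, ?_, ?_, ?_⟩⟩
  · intro a b w
    simp [add_mul, Finset.sum_add_distrib]
  · intro c v w
    simp [Finset.mul_sum, mul_assoc]
  · intro v a b
    simp [mul_add, Finset.sum_add_distrib]
  · intro c v w
    simp [Finset.mul_sum, mul_left_comm]
  · intro v w
    simp [mul_comm]
  · intro g v w
    simp only [LinearMap.mk₂'ₛₗ_apply]
    refine Fintype.sum_equiv (Equiv.mulRight g) _ _ fun h => ?_
    simp
  · intro v
    simp only [LinearMap.mk₂'ₛₗ_apply]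
    exact Finset.sum_nonneg fun g _ => Finset.sum_nonneg fun i _ => hp v g i
  · intro v hv
    simp only [LinearMap.mk₂'ₛₗ_apply] at hv
    have h1 := (Finset.sum_eq_zero_iff_of_nonneg fun g _ => Finset.sum_nonneg fun i _ => hp v g i).1 hv 1
      (Finset.mem_univ _)
    funext i
    have h2 := (Finset.sum_eq_zero_iff_of_nonneg fun i _ => hp v 1 i).1 h1 i (Finset.mem_univ _)
    simpa using h2

theorem rho_mul (ρ : Representation ℂ G V) (a b : G) (v : V) : ρ a (ρ b v) = ρ (a * b) v := by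
  rw [map_mul, Module.End.mul_apply]

namespace Uni

variable {ρ : Representation ℂ G V} (F : Uni ρ)

theorem adj (g : G) (v w : V) : F.B (ρ g v) w = F.B v (ρ g⁻¹ w) := by
  rw [← F.inv g v, rho_mul, mul_inv_cancel, map_one, Module.End.one_apply]

theorem smul_left (c : ℂ) (v w : V) : F.B (c • v) w = conj c * F.B v w := by
  rw [LinearMap.map_smulₛₗ₂, smul_eq_mul]

theorem smul_right (c : ℂ) (v w : V) : F.B v (c • w) = c * F.B v w := by
  rw [map_smul, smul_eq_mul]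

include F in
/-- eigenvalues have absolute value one -/
theorem eig {g : G} {v : V} {c : ℂ} (hv : v ≠ 0) (h : ρ g v = c • v) : conj c * c = 1 := by
  have h1 := F.inv g v v
  rw [h, smul_left, smul_right, ← mul_assoc] at h1
  exact mul_right_cancel₀ (fun h2 => hv (F.dfn v h2)) (h1.trans (one_mul _).symm)

/-- eigenvectors for different eigenvalues are orthogonal -/
theorem orth {g : G} {v w : V} {c d : ℂ} (hv : ρ g v = c • v) (hw : ρ g w = d • w) (h : c ≠ d) : F.B v w = 0 := by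
  by_cases h0 : v = 0
  · rw [h0, map_zero, LinearMap.zero_apply]
  have h1 := F.inv g v w
  rw [hv, hw, smul_left, smul_right, ← mul_assoc] at h1
  by_contra h2
  have h3 : conj c * d = 1 := mul_right_cancel₀ h2 (h1.trans (one_mul _).symm)
  have h4 := F.eig h0 hv
  have h5 : conj c ≠ 0 := left_ne_zero_of_mul_eq_one h4
  exact h (mul_left_cancel₀ h5 (h4.trans h3.symm))

end Uni

theorem eig_integral [Finite G] {ρ : Representation ℂ G V} {g : G} {v : V} {c : ℂ} (hv : v ≠ 0)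
    (h : ρ g v = c • v) : IsIntegral ℤ c := by
  have h1 : ∀ k : ℕ, ρ (g ^ k) v = c ^ k • v := by
    intro k
    induction k with
    | zero => simp
    | succ k ih => rw [pow_succ, ← rho_mul, h, map_smul, ih, smul_smul, pow_succ']
  have h2 := h1 (orderOf g)
  rw [pow_orderOf_eq_one, map_one, Module.End.one_apply] at h2
  have h3 : c ^ orderOf g = 1 := by
    have h4 : (c ^ orderOf g - 1) • v = 0 := by rw [sub_smul, ← h2, one_smul, sub_self]
    exact sub_eq_zero.1 ((smul_eq_zero.1 h4).resolve_right hv)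
  exact IsIntegral.of_pow (orderOf_pos g) (by rw [h3]; exact isIntegral_one)

/-! ### Averaging -/

/-- the projection onto the fixed vectors of `H` -/
noncomputable def av [Finite G] (ρ : Representation ℂ G V) (H : Subgroup G) : Module.End ℂ V :=
  (Nat.card H : ℂ)⁻¹ • ∑ᶠ h : H, ρ h

section av

variable [Finite G] (ρ : Representation ℂ G V) {H : Subgroup G}

theorem av_def (H : Subgroup G) [Fintype H] : av ρ H = (Nat.card H : ℂ)⁻¹ • ∑ h : H, ρ h := by
  rw [av, finsum_eq_sum_of_fintype]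

theorem card_ne (H : Subgroup G) : (Nat.card H : ℂ) ≠ 0 := Nat.cast_ne_zero.2 Nat.card_pos.ne'

theorem lin_av {E : Type*} [AddCommGroup E] [Module ℂ E] (L : Module.End ℂ V →ₗ[ℂ] E) {c : E}
    (h : ∀ x ∈ H, L (ρ x) = c) : L (av ρ H) = c := by
  have := Fintype.ofFinite H
  rw [av_def, map_smul, map_sum, Finset.sum_congr rfl fun (x : H) _ => h x x.2, Finset.sum_const, Finset.card_univ,
    ← Nat.card_eq_fintype_card, ← Nat.cast_smul_eq_nsmul ℂ, smul_smul, inv_mul_cancel₀ (card_ne H), one_smul]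

theorem mul_av_mul (f g c : Module.End ℂ V) (h : ∀ x ∈ H, f * ρ x * g = c) : f * av ρ H * g = c :=
  lin_av ρ (LinearMap.mulRight ℂ g ∘ₗ LinearMap.mulLeft ℂ f) h

theorem mul_av_of {f : Module.End ℂ V} (h : ∀ x ∈ H, f * ρ x = f) : f * av ρ H = f :=
  lin_av ρ (LinearMap.mulLeft ℂ f) h

theorem av_mul_of {f : Module.End ℂ V} (h : ∀ x ∈ H, ρ x * f = f) : av ρ H * f = f :=
  lin_av ρ (LinearMap.mulRight ℂ f) h

theorem app_av (f : Module.End ℂ V) {v c : V} (h : ∀ x ∈ H, f (ρ x v) = c) : f (av ρ H v) = c :=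
  lin_av ρ (f ∘ₗ LinearMap.applyₗ v) h

theorem av_fix {v : V} (h : ∀ x ∈ H, ρ x v = v) : av ρ H v = v := app_av ρ 1 h

theorem rho_av {x : G} (hx : x ∈ H) : ρ x * av ρ H = av ρ H := by
  have := Fintype.ofFinite H
  rw [av_def, mul_smul_comm, Finset.mul_sum]
  congr 1
  refine Fintype.sum_equiv (Equiv.mulLeft (⟨x, hx⟩ : H)) _ _ fun y => ?_
  rw [← map_mul]
  rfl

theorem av_rho {x : G} (hx : x ∈ H) : av ρ H * ρ x = av ρ H := by
  have := Fintype.ofFinite H
  rw [av_def, smul_mul_assoc, Finset.sum_mul]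
  congr 1
  refine Fintype.sum_equiv (Equiv.mulRight (⟨x, hx⟩ : H)) _ _ fun y => ?_
  rw [← map_mul]
  rfl

theorem rho_av_app {x : G} (hx : x ∈ H) (v : V) : ρ x (av ρ H v) = av ρ H v := by
  rw [← Module.End.mul_apply, rho_av ρ hx]

theorem av_rho_app {x : G} (hx : x ∈ H) (v : V) : av ρ H (ρ x v) = av ρ H v := by
  rw [← Module.End.mul_apply, av_rho ρ hx]

theorem av_av {K : Subgroup G} (h : H ≤ K) : av ρ H * av ρ K = av ρ K := av_mul_of ρ fun _ hx => rho_av ρ (h hx)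

theorem av_av' {K : Subgroup G} (h : H ≤ K) : av ρ K * av ρ H = av ρ K := mul_av_of ρ fun _ hx => av_rho ρ (h hx)

theorem av_comm {g : G} (h1 : ∀ x ∈ H, g * x * g⁻¹ ∈ H) (h2 : ∀ x ∈ H, g⁻¹ * x * g ∈ H) :
    ρ g * av ρ H = av ρ H * ρ g := by
  have e1 : av ρ H * (ρ g * av ρ H) = ρ g * av ρ H := av_mul_of ρ fun x hx => by
    rw [← mul_assoc, ← map_mul, show x * g = g * (g⁻¹ * x * g) by group, map_mul, mul_assoc, rho_av ρ (h2 x hx)]
  have e2 : av ρ H * ρ g * av ρ H = av ρ H * ρ g := mul_av_of ρ fun x hx => by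
    rw [mul_assoc, ← map_mul, show g * x = (g * x * g⁻¹) * g by group, map_mul, ← mul_assoc, av_rho ρ (h1 x hx)]
  rw [← e1, ← mul_assoc, e2]

variable {ρ} in
theorem Uni.av_adj (F : Uni ρ) (v w : V) : F.B (av ρ H v) w = F.B v (av ρ H w) := by
  have key : ∀ v w, F.B (av ρ H v) (av ρ H w) = F.B (av ρ H v) w := fun v w =>
    lin_av ρ (F.B (av ρ H v) ∘ₗ LinearMap.applyₗ w) fun x hx => by
      show F.B (av ρ H v) (ρ x w) = _
      rw [← inv_inv x, ← F.adj, rho_av_app ρ (H.inv_mem hx)]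
  rw [← key, ← F.symm, key, F.symm]

/-- the character value at an element without fixed points on `H` -/
theorem trace_fpf {g : G} (h1 : ∀ x ∈ H, g⁻¹ * x * g ∈ H) (h2 : ∀ x ∈ H, g * x = x * g → x = 1) :
    LinearMap.trace ℂ V (ρ g * av ρ H) = LinearMap.trace ℂ V (ρ g) := by
  refine lin_av ρ (LinearMap.trace ℂ V ∘ₗ LinearMap.mulLeft ℂ (ρ g)) fun x hx => ?_
  let f : H → H := fun v => ⟨g⁻¹ * v⁻¹ * g * v, H.mul_mem (h1 _ (H.inv_mem v.2)) v.2⟩
  have hf : Function.Injective f := by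
    intro v w h
    have h3 : g⁻¹ * (v : G)⁻¹ * g * v = g⁻¹ * (w : G)⁻¹ * g * w := congrArg Subtype.val h
    have h4 := h2 (w * (v : G)⁻¹) (H.mul_mem w.2 (H.inv_mem v.2)) (by
      calc g * (w * (v : G)⁻¹) = w * g * (g⁻¹ * (w : G)⁻¹ * g * w) * (v : G)⁻¹ := by group
        _ = w * (v : G)⁻¹ * g := by rw [← h3]; group)
    exact Subtype.ext (mul_inv_eq_one.1 h4).symm
  obtain ⟨v, hv⟩ := Finite.injective_iff_surjective.1 hf ⟨x, hx⟩
  have h5 : g * x = (v : G)⁻¹ * g * v := by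
    have h6 : g⁻¹ * (v : G)⁻¹ * g * v = x := congrArg Subtype.val hv
    rw [← h6]; group
  show LinearMap.trace ℂ V (ρ g * ρ x) = _
  rw [← map_mul, h5, map_mul, LinearMap.trace_mul_comm, ← map_mul, ← mul_assoc, mul_inv_cancel, one_mul]

end av

/-! ### Linear algebra -/

section lin

variable [FiniteDimensional ℂ V]

theorem trace_idem {e : Module.End ℂ V} (h : e * e = e) : LinearMap.trace ℂ V e = finrank ℂ (LinearMap.range e) :=
  (LinearMap.IsIdempotentElem.isProj_range e h).trace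

/-- an operator with a quadratic relation has an eigenvector in a large subspace -/
theorem exists_eig {W S : Submodule ℂ V} (hS : S ≤ W) (hd : finrank ℂ W < 2 * finrank ℂ S) (L : Module.End ℂ V)
    (hL : ∀ w ∈ W, L w ∈ W) {a b : ℂ} (hq : ∀ w ∈ W, L (L w) = a • L w + b • w) :
    ∃ w ∈ S, w ≠ 0 ∧ ∃ μ : ℂ, L w = μ • w := by
  obtain ⟨s, hs⟩ := IsAlgClosed.exists_pow_nat_eq (a ^ 2 + 4 * b) (n := 2) two_pos
  have key : ∀ μ ν : ℂ, μ + ν = a → μ * ν = -b →
      finrank ℂ W ≤ finrank ℂ ↥(W ⊓ LinearMap.ker (L - μ • 1)) + finrank ℂ ↥(W ⊓ LinearMap.ker (L - ν • 1)) := by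
    intro μ ν h1 h2
    have h3 := LinearMap.finrank_range_add_finrank_ker ((L - ν • 1).domRestrict W)
    have h4 : LinearMap.range ((L - ν • 1).domRestrict W) ≤ W ⊓ LinearMap.ker (L - μ • 1) := by
      rintro _ ⟨w, rfl⟩
      have e : (L - ν • 1).domRestrict W w = L w - ν • (w : V) := rfl
      rw [e]
      refine ⟨W.sub_mem (hL _ w.2) (W.smul_mem _ w.2), ?_⟩
      show L (L w - ν • (w : V)) - μ • (L w - ν • (w : V)) = 0
      rw [map_sub, map_smul, hq _ w.2, ← h1, ← neg_eq_iff_eq_neg.2 h2]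
      module
    have h5 : finrank ℂ ↥(LinearMap.ker ((L - ν • 1).domRestrict W)) ≤
        finrank ℂ ↥(W ⊓ LinearMap.ker (L - ν • 1)) := by
      rw [← Submodule.finrank_map_subtype_eq]
      apply Submodule.finrank_mono
      rintro _ ⟨w, hw, rfl⟩
      exact ⟨w.2, hw⟩
    have h6 := Submodule.finrank_mono h4
    omega
  have key2 : ∀ μ : ℂ, finrank ℂ W ≤ 2 * finrank ℂ ↥(W ⊓ LinearMap.ker (L - μ • 1)) →
      ∃ w ∈ S, w ≠ 0 ∧ ∃ μ : ℂ, L w = μ • w := by
    intro μ h1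
    have h2 := Submodule.finrank_sup_add_finrank_inf_eq S (W ⊓ LinearMap.ker (L - μ • 1))
    have h3 : finrank ℂ ↥(S ⊔ W ⊓ LinearMap.ker (L - μ • 1)) ≤ finrank ℂ W :=
      Submodule.finrank_mono (sup_le hS inf_le_left)
    have h4 : S ⊓ (W ⊓ LinearMap.ker (L - μ • 1)) ≠ ⊥ := by
      intro h5
      rw [h5, finrank_bot] at h2
      omega
    obtain ⟨w, ⟨hw1, -, hw2⟩, hw3⟩ := Submodule.exists_mem_ne_zero_of_ne_bot h4
    exact ⟨w, hw1, hw3, μ, sub_eq_zero.1 hw2⟩
  have h1 := key ((a + s) / 2) ((a - s) / 2) (by ring) (by linear_combination (-1 / 4 : ℂ) * hs)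
  rcases le_total (finrank ℂ ↥(W ⊓ LinearMap.ker (L - ((a + s) / 2) • 1)))
    (finrank ℂ ↥(W ⊓ LinearMap.ker (L - ((a - s) / 2) • 1))) with h | h
  · exact key2 ((a - s) / 2) (by omega)
  · exact key2 ((a + s) / 2) (by omega)

/-- an operator `K` with `K ^ 2 = δ` on the range of `π` and non-zero trace has a large eigenspace -/
theorem exists_large {π K : Module.End ℂ V} (hπ : π * π = π) (h1 : π * K = K) (h2 : K * π = K) {δ : ℂ}
    (hK : K * K = δ • π) (hδ : δ ≠ 0) (ht : LinearMap.trace ℂ V K ≠ 0) :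
    ∃ s : ℂ, ∃ S ≤ LinearMap.range π, finrank ℂ (LinearMap.range π) < 2 * finrank ℂ S ∧ ∀ w ∈ S, K w = s • w := by
  have key : ∀ s : ℂ, s ^ 2 = δ → ∃ S ≤ LinearMap.range π, (∀ w ∈ S, K w = s • w) ∧
      (2 * finrank ℂ S : ℂ) = finrank ℂ (LinearMap.range π) + s⁻¹ * LinearMap.trace ℂ V K := by
    intro s hs
    have hs0 : s ≠ 0 := by
      rintro rfl
      exact hδ (by rw [← hs]; ring)
    have hKP : K * ((2 : ℂ)⁻¹ • (π + s⁻¹ • K)) = s • ((2 : ℂ)⁻¹ • (π + s⁻¹ • K)) := by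
      rw [mul_smul_comm, mul_add, mul_smul_comm, h2, hK, ← hs]
      match_scalars <;> field_simp
    have hπP : π * ((2 : ℂ)⁻¹ • (π + s⁻¹ • K)) = (2 : ℂ)⁻¹ • (π + s⁻¹ • K) := by
      rw [mul_smul_comm, mul_add, mul_smul_comm, h1, hπ]
    have hP : ((2 : ℂ)⁻¹ • (π + s⁻¹ • K)) * ((2 : ℂ)⁻¹ • (π + s⁻¹ • K)) = (2 : ℂ)⁻¹ • (π + s⁻¹ • K) := by
      nth_rewrite 1 [smul_mul_assoc]
      rw [add_mul, smul_mul_assoc, hKP, hπP]
      match_scalars <;> field_simp <;> ring
    refine ⟨LinearMap.range ((2 : ℂ)⁻¹ • (π + s⁻¹ • K)), ?_, ?_, ?_⟩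
    · rintro _ ⟨w, rfl⟩
      exact ⟨_, by rw [← Module.End.mul_apply, hπP]⟩
    · rintro _ ⟨w, rfl⟩
      rw [← Module.End.mul_apply, hKP, LinearMap.smul_apply]
    · rw [← trace_idem hP, ← trace_idem hπ, map_smul, map_add, map_smul, smul_eq_mul, smul_eq_mul]
      field_simp
  obtain ⟨s, hs⟩ := IsAlgClosed.exists_pow_nat_eq δ (n := 2) two_pos
  have hs0 : s ≠ 0 := by
    rintro rfl
    exact hδ (by rw [← hs]; ring)
  obtain ⟨S, a1, a2, a3⟩ := key s hs
  obtain ⟨S', b1, b2, b3⟩ := key (-s) (by rw [← hs]; ring)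
  have c1 : 2 * finrank ℂ S + 2 * finrank ℂ S' = 2 * finrank ℂ (LinearMap.range π) := by
    have : (2 * finrank ℂ S + 2 * finrank ℂ S' : ℂ) = 2 * finrank ℂ (LinearMap.range π) := by
      rw [a3, b3, inv_neg]; ring
    exact_mod_cast this
  have c2 : 2 * finrank ℂ S ≠ finrank ℂ (LinearMap.range π) := by
    intro h
    have h3 : (2 * finrank ℂ S : ℂ) = finrank ℂ (LinearMap.range π) := by exact_mod_cast h
    rw [a3, add_eq_left] at h3
    exact mul_ne_zero (inv_ne_zero hs0) ht h3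
  rcases lt_or_gt_of_ne c2 with h | h
  · exact ⟨-s, S', b1, by omega, b2⟩
  · exact ⟨s, S, a1, h, a2⟩

end lin

end Cfsg.Agent.VAN.Rk
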