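import Cfsg.Agent.VAN.Rk.Main
import Cfsg.Agent.H985.VZ.GTwo
import Cfsg.Agent.Nodes.RGDLib
import Cfsg.Agent.Lib.Zsigmondy

/-!
# S4942, rank two: the numerical data, and the datum of a root group datum of rank two (helper77)
-/

set_option autoImplicit false
set_option linter.unusedSectionVars false

namespace Cfsg.Agent.VAN.Rk

open Cfsg Cfsg.Agent.LieExceptional.BNPairCore

universe u

namespace R2

variable {G : Type u} [Group G] (D : R2 G)

/-- powers of elements of `B` -/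
theorem pow_mem_U {e : ℕ} (hT : ∀ t ∈ D.T, t ^ e = 1) {b : G} (hb : b ∈ D.P.B) : b ^ e ∈ D.U := by
  obtain ⟨t, ht, v, hv, rfl⟩ := D.mem_B' hb
  have key : ∀ k : ℕ, ∃ u ∈ D.U, (t * v) ^ k = t ^ k * u := by
    intro k
    induction k with
    | zero => exact ⟨1, one_mem _, by simp⟩
    | succ k ih =>
      obtain ⟨u, hu, e⟩ := ih
      refine ⟨(t⁻¹ * u * t) * v, mul_mem (D.TU' ht hu) hv, ?_⟩
      rw [pow_succ, e, pow_succ]
      group
  obtain ⟨u, hu, e⟩ := key e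
  rw [e, hT t ht, one_mul]
  exact hu

/-- the orders of the elements of `B` -/
theorem exists_pow_eq_one {p e : ℕ} (hU : IsPGroup p D.U) (hT : ∀ t ∈ D.T, t ^ e = 1) {b : G} (hb : b ∈ D.P.B) :
    ∃ k, b ^ (e * p ^ k) = 1 := by
  obtain ⟨k, hk⟩ := hU ⟨_, D.pow_mem_U hT hb⟩
  exact ⟨k, by rw [pow_mul]; exact congrArg Subtype.val hk⟩

/-- ellipticity from the order -/
theorem ell_of_order {p e : ℕ} (hU : IsPGroup p D.U) (hT : ∀ t ∈ D.T, t ^ e = 1) {g : G}
    (hg : ∀ k, ¬ orderOf g ∣ e * p ^ k) (y : G) : y⁻¹ * g * y ∉ D.P.B := by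
  intro h
  obtain ⟨k, hk⟩ := D.exists_pow_eq_one hU hT h
  apply hg k
  apply orderOf_dvd_of_pow_eq_one
  have h1 : (y⁻¹ * g * y⁻¹⁻¹) ^ (e * p ^ k) = 1 := by rwa [inv_inv]
  rw [conj_pow, mul_inv_eq_one, mul_eq_left] at h1
  exact h1

/-- **the numerical data exist** -/
theorem exists_num [Finite G] {p h k c : ℕ} (f : Bool → ℕ) (hp : p.Prime) (hm : D.m = 2 * h) (h2 : 2 ≤ h)
    (hf : ∀ i, 0 < f i) (hq : ∀ i, D.q i = p ^ f i) (hU : IsPGroup p D.U) (hT : ∀ t ∈ D.T, t ^ (p ^ k - 1) = 1)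
    (hk0 : 0 < k) (hk : k < h * (f true + f false)) (hG : Nat.card G = p ^ (h * (f true + f false)) * c)
    (hc : ¬ p ∣ c) (h6 : ¬ (p = 2 ∧ h * (f true + f false) = 6)) : ∃ l, Nonempty (D.Num p l) := by
  have hN : 2 * h ≤ h * (f true + f false) := by
    have := hf true
    have := hf false
    nlinarith
  obtain ⟨l, hl, h1, h3, h4⟩ := Lib.Zsigmondy.exists_primitive (a := p) (n := h * (f true + f false)) hp.two_le
    (by omega) (by omega) h6
  have prim : ∀ k, 0 < k → k < h * (f true + f false) → ¬ l ∣ p ^ k - 1 := fun k a b hd =>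
    absurd (Nat.le_of_dvd a ((h1 k).1 hd)) (by omega)
  have hpq : ∀ i, p ∣ D.q i := fun i => by rw [hq]; exact dvd_pow_self p (hf i).ne'
  have hI : ¬ p ∣ (1 + D.q true) * ((∑ s ∈ Finset.range h, (D.q true * D.q (!true)) ^ s) * (1 + D.q (!true))) := by
    have a1 : ∀ i, ¬ p ∣ 1 + D.q i := fun i hd =>
      hp.one_lt.ne' (Nat.dvd_one.1 ((Nat.dvd_add_left (hpq i)).1 hd))
    intro hd
    rcases hp.dvd_mul.1 hd with hd | hd
    · exact a1 _ hd
    rcases hp.dvd_mul.1 hd with hd | hd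
    · obtain ⟨j, rfl⟩ : ∃ j, h = j + 1 := ⟨h - 1, by omega⟩
      rw [Finset.sum_range_succ', pow_zero] at hd
      refine hp.one_lt.ne' (Nat.dvd_one.1 ((Nat.dvd_add_right ?_).1 hd))
      exact Finset.dvd_sum fun s _ => ((hpq true).mul_right _).trans (dvd_pow_self _ (by omega))
    · exact a1 _ hd
  have hcG := D.card_G' true hm
  rw [mul_assoc] at hcG
  have hd : p ^ (h * (f true + f false)) ∣ Nat.card D.P.B :=
    (Nat.Coprime.pow_left _ (hp.coprime_iff_not_dvd.2 hI)).dvd_of_dvd_mul_right (by rw [← hcG, hG]; exact dvd_mul_right _ _)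
  obtain ⟨b, hb⟩ := hd
  refine ⟨l, ⟨⟨f, h, b, hp, hl, hm, h2, hf, hq, hb, fun hd => hc ?_, fun hd => ?_, ?_, (h1 _).2 dvd_rfl, prim⟩⟩⟩
  · rw [hb, hG, mul_assoc] at hcG
    rw [Nat.eq_of_mul_eq_mul_left (pow_pos hp.pos _) hcG]
    exact hd.mul_right _
  · have : Fact l.Prime := ⟨hl⟩
    obtain ⟨x, hx⟩ := exists_prime_orderOf_dvd_card' (G := D.P.B) l (by rw [hb]; exact hd.mul_left _)
    obtain ⟨j, hj⟩ := D.exists_pow_eq_one hU hT x.2
    have h5 := orderOf_dvd_of_pow_eq_one hj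
    rw [Subgroup.orderOf_coe, hx] at h5
    rcases hl.dvd_mul.1 h5 with h5 | h5
    · exact prim k hk0 hk h5
    · exact h4 (hl.dvd_of_dvd_pow h5)
  · have h5 := Nat.le_of_dvd (by have := hl.two_le; omega) h3
    omega

end R2

open CoxeterSystem Cfsg.Agent.ChevalleyStructure.CoxeterGeom Cfsg.Agent.Tits.Roots Cfsg.Agent.Tits.Core
  Cfsg.Agent.Nodes.Reps Cfsg.Agent.Nodes.BNOf Cfsg.Agent.Nodes.StabComb
  Cfsg.Agent.Nodes.Bruhat Cfsg.Agent.Nodes.LeviDec
open Cfsg.Agent.H985.VZ (gu ua rp_gu pos_ua ua_M mem_WJ_single Free Ell)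

variable {I W : Type*} {Y : Type u} [Fintype I] [DecidableEq I] [Group W] [Group Y] {M : CoxeterMatrix I}
  {cs : CoxeterSystem M W} {A : I → I → ℤ} {h : IsCartan M A} {p : ℕ} {T : Subgroup Y} {n : I → Y}
  {X : (I → ℤ) → Subgroup Y}

/-- A root group datum of rank two. -/
structure Two (cs : CoxeterSystem M W) (h : IsCartan M A) (p : ℕ) (T : Subgroup Y) (n : I → Y)
    (X : (I → ℤ) → Subgroup Y) (ι : Bool → I) : Prop where
  R : RGD cs h p T n X
  inj : ι true ≠ ι false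
  surj : ∀ i, i = ι true ∨ i = ι false
  top : GG cs h T X = ⊤
  comm : ∀ s ∈ T, ∀ t ∈ T, s * t = t * s
  pos : 0 < M (ι true) (ι false)

theorem notJ_single (i : I) : NotJ cs h {i} = RGD.PosNe cs h i := by
  ext x
  constructor
  · rintro ⟨h1, h2, k, hk, hk0⟩
    refine ⟨h1, h2, fun e => ?_⟩
    rw [e] at hk0
    have : sr i k = 0 := by
      unfold sr
      exact Pi.single_eq_of_ne hk 1
    omega
  · rintro ⟨h1, h2, h3⟩
    obtain ⟨k, hk, hk0⟩ := RGD.exists_coeff h1 h2 h3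
    exact ⟨h1, h2, k, hk, hk0⟩

theorem alt_eq_gu (ι : Bool → I) (i : Bool) (j : ℕ) :
    alt (fun i => n (ι i)) i j = gu n (ι (!(lt i j))) (ι (lt i j)) j := by
  induction j with
  | zero => rfl
  | succ j ih => rw [alt_succ, ih, lt_succ, Bool.not_not]; rfl

namespace Two

variable {ι : Bool → I} (H : Two cs h p T n X ι) [Finite W] [Finite Y]

include H

theorem ne (i : Bool) : ι i ≠ ι (!i) := by
  cases i
  · exact H.inj.symm
  · exact H.inj

theorem M_eq (i : Bool) : M (ι i) (ι (!i)) = M (ι true) (ι false) := by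
  cases i
  · exact M.symmetric _ _
  · rfl

theorem gen : RGD.B cs h T X ⊔ NN cs H.R.nsys = ⊤ := by
  rw [← top_le_iff, ← H.top]
  exact sup_le (RGD.T_le_B.trans le_sup_left) (Nodes.RGDLib.rgd_G1_le H.R)

/-- the datum -/
noncomputable def r2 : R2 Y where
  P := H.R.bnPair H.gen
  U := RGD.Sup X (RGD.Pos cs h)
  T := T
  X i := X (sr (ι i))
  V i := VJ cs h X {ι i}
  n i := n (ι i)
  m := M (ι true) (ι false)
  mem_B g := by
    constructor
    · intro hg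
      obtain ⟨t, ht, u, hu, rfl⟩ := H.R.mem_B.1 hg
      exact ⟨t * u * t⁻¹, (Subgroup.mem_normalizer_iff.1 (H.R.T_le_normalizer_U ht) u).1 hu, t, ht, by group⟩
    · rintro ⟨u, hu, t, ht, rfl⟩
      exact mul_mem (RGD.U_le_B hu) (RGD.T_le_B ht)
  S_eq := by
    ext g
    constructor
    · rintro ⟨i, rfl⟩
      rcases H.surj i with rfl | rfl
      · exact ⟨true, rfl⟩
      · exact ⟨false, rfl⟩
    · rintro ⟨i, rfl⟩
      exact ⟨ι i, rfl⟩
  TN := fun t ht => ⟨1, rp_of_mem ht⟩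
  BN := fun g h1 h2 => by
    rw [← H.R.B_inf_NN]
    exact ⟨h1, h2⟩
  comm := H.comm
  TU := fun t ht u hu => (Subgroup.mem_normalizer_iff.1 (H.R.T_le_normalizer_U ht) u).1 hu
  XU := fun i => RGD.le_Sup (S := RGD.Pos cs h) ⟨isRoot_sr cs h _, sr_nonneg _⟩
  VU := fun i => VJ_le_U _
  dec := fun i u hu => by
    have h1 : u⁻¹ ∈ ((X (sr (ι i)) ⊔ RGD.Sup X (RGD.PosNe cs h (ι i)) : Subgroup Y) : Set Y) := by
      rw [← H.R.Upos_eq]
      exact inv_mem hu
    rw [Subgroup.coe_mul_of_left_le_normalizer_right _ _ (H.R.X_le_normalizer_V (ι i)), Set.mem_mul] at h1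
    obtain ⟨x, hx, v, hv, e⟩ := h1
    refine ⟨v⁻¹, ?_, x⁻¹, inv_mem hx, by rw [← mul_inv_rev, e, inv_inv]⟩
    unfold VJ
    rw [notJ_single]
    exact inv_mem hv
  UV := fun i u hu v hv =>
    (Subgroup.mem_normalizer_iff.1 (PJ_le_normalizer_VJ H.R _ (B_le_PJ (RGD.U_le_B hu))) v).1 hv
  nV := fun i v hv => by
    unfold VJ at hv
    rw [notJ_single] at hv
    have h1 := conj_mem_cj (g := n (ι i)).2 hv
    rw [H.R.cj_n_V, ← notJ_single] at h1
    exact VJ_le_U _ h1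
  rk1 := fun i x hx h1 => by
    have h2 := H.R.conj_mem' (rp_simple cs H.R.nsys (ι i)) (isRoot_sr cs h (ι i)) hx
    rw [cs.inv_simple, rep_simple_sr] at h2
    obtain ⟨a, ha, t, ht, b, hb, e⟩ := H.R.rk1 _ _ h2 (fun e => h1 (by
      have : x = n (ι i) * ((n (ι i))⁻¹ * x * n (ι i)) * (n (ι i))⁻¹ := by group
      rw [this, e]
      group))
    have hX : X (sr (ι i)) ≤ RGD.Sup X (RGD.Pos cs h) := RGD.le_Sup (S := RGD.Pos cs h) ⟨isRoot_sr cs h _, sr_nonneg _⟩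
    exact ⟨a, hX ha, t, ht, b, hX hb, e⟩
  rk1' := fun i x hx h1 => by
    have h2 := H.R.conj_mem (rp_simple cs H.R.nsys (ι i)) (isRoot_sr cs h (ι i)) hx
    rw [rep_simple_sr] at h2
    obtain ⟨a, ha, t, ht, b, hb, e⟩ := H.R.rk1 _ _ h2 (fun e => h1 (by
      have : x = (n (ι i))⁻¹ * (n (ι i) * x * (n (ι i))⁻¹) * n (ι i) := by group
      rw [this, e]
      group))
    have hX : X (sr (ι i)) ≤ RGD.Sup X (RGD.Pos cs h) := RGD.le_Sup (S := RGD.Pos cs h) ⟨isRoot_sr cs h _, sr_nonneg _⟩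
    exact ⟨a, hX ha, t, ht, b, hX hb, e⟩
  m_pos := H.pos
  red := fun i j hj x hx => by
    rw [alt_eq_gu]
    have h1 := H.R.conj_mem' (rp_gu H.R (ι (!(lt i j))) (ι (lt i j)) j) (isRoot_sr cs h _) hx
    exact RGD.le_Sup (S := RGD.Pos cs h) ⟨(isRoot_sr cs h _).act _,
      pos_ua H.R (H.ne (lt i j)) (by rw [H.M_eq]; exact hj)⟩ h1
  braid := by
    rw [alt_eq_gu, alt_eq_gu, show false = !true from rfl, lt_not, Bool.not_not]
    have h1 := rp_gu H.R (ι (!(lt true (M (ι true) (ι false))))) (ι (lt true (M (ι true) (ι false)))) (M (ι true) (ι false))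
    have h2 := rp_gu H.R (ι (lt true (M (ι true) (ι false)))) (ι (!(lt true (M (ι true) (ι false))))) (M (ι true) (ι false))
    have h3 := ua_M cs (ι (lt true (M (ι true) (ι false)))) (ι (!(lt true (M (ι true) (ι false)))))
    rw [H.M_eq] at h3
    rw [h3] at h2
    exact h1.unique h2

theorem Par_eq (i : Bool) : H.r2.Par i = PJ cs h T X {ι i} := by
  ext g
  rw [R2.mem_Par, mem_PJ_iff_cell H.R]
  constructor
  · rintro (hg | hg)
    · exact ⟨1, one_mem _, cell_one_of_mem hg⟩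
    · obtain ⟨x, hx, y, hy, rfl⟩ := mem_C.1 hg
      exact ⟨cs.simple (ι i), Subgroup.subset_closure ⟨ι i, rfl, rfl⟩, x, hx, _, rp_simple cs H.R.nsys _, y, hy, rfl⟩
  · rintro ⟨w, hw, hc⟩
    rcases mem_WJ_single hw with rfl | rfl
    · exact Or.inl hc.mem_of_one
    · obtain ⟨x, hx, k, hk, y, hy, rfl⟩ := hc
      refine Or.inr (mem_C.2 ⟨x, hx, (n (ι i))⁻¹ * k * y,
        mul_mem (RGD.T_le_B ((rp_simple cs H.R.nsys _).unique hk)) hy, ?_⟩)
      show _ = x * n (ι i) * _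
      group

theorem mem_Par {i : Bool} {g : Y} (hg : g ∈ LJ cs h T X {ι i}) : g ∈ H.r2.Par i := by
  rw [H.Par_eq]
  exact LJ_le_PJ hg

theorem ell {i : Bool} {g : Y} (hg : Ell cs h T X {ι i} g) : ∀ y ∈ H.r2.Par i, y⁻¹ * g * y ∉ H.r2.P.B := by
  intro y hy hB
  rw [H.Par_eq] at hy
  exact hg.not_mem H.R (K := ∅) (Set.empty_ssubset.2 (Set.singleton_nonempty _)) hy (B_le_PJ hB)

theorem isPGroup : IsPGroup p H.r2.U := H.R.isPGroup_Upos

/-- **Rank two, for a root group datum** -/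
theorem van3 {l : ℕ} (E : H.r2.Num p l) (hperf : commutator Y = ⊤) (i : Bool) {g g' : Y} (hg : Ell cs h T X {ι i} g)
    (hp : p ∣ orderOf g') (hg' : Free cs h T X {ι (!i)} g') : Van3 Y :=
  R2.van3 E hperf i (H.mem_Par hg.toFree.mem) (H.ell hg) hg.toFree.free hp (H.mem_Par hg'.mem) hg'.free

end Two

end Cfsg.Agent.VAN.Rk
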