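import Cfsg.Agent.VAN.Rk.Rgd
import Cfsg.Agent.H654.OZ.El
import Cfsg.Agent.S1068

/-!
# S4942: the row `²F₄(q)`, `q > 2` (helper77)
-/

set_option autoImplicit false
set_option linter.unusedSectionVars false

namespace Cfsg.Agent.VAN.Rk

open Cfsg Cfsg.Agent.SplitTwo Cfsg.Agent.SplitTwo.ZS Cfsg.Agent.SplitTwo.RootSysZ
open Cfsg.Agent.KFacts.TwF4 Cfsg.Agent.KFacts.TwF4.Irr Cfsg.Agent.H628.Sq.TwFNorm Cfsg.Agent.H628.Sq.TwFHC
open Cfsg.Agent.H654.OZ (Ro Re Dih re1 re2 bruhat' BB_form' alt_maps lt1 lt2 exists_wd T_inf_J frP frB)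
open Cfsg.Agent.LieExceptional.BNPairCore

universe u

namespace TF

variable {F : Type*} [Field F] {σ : F →+* F} {G : Type u} [Group G] (S : Full σ G) [Finite F] (hF : ∃ c : Fˣ, c ≠ 1)

include hF in
theorem not_nine : ¬ S.XZ 9 ≤ J S.XZ 1 8 := fun h => by
  obtain ⟨c, hc⟩ := hF
  have h1 := T_inf_J S (S.mem_T.2 ⟨c, c, rfl⟩)
    ((sup_le (X_le_J le_rfl (by norm_num)) h : S.LO ≤ J S.XZ 1 8) (H42.Deg.F4.TM_le_LO S ⟨c, rfl⟩))
  exact hc (S.h_inj _ _ _ _ (h1.trans S.h_one.symm)).1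

include hF in
theorem not_zero : ¬ S.XZ 0 ≤ J S.XZ 1 8 := fun h => by
  obtain ⟨c, hc⟩ := hF
  have h1 := T_inf_J S (S.mem_T.2 ⟨_, c, rfl⟩)
    ((sup_le h (X_le_J (by norm_num) le_rfl) : L4 S ≤ J S.XZ 1 8) (H42.Deg.F4B.TE_le_L4 S ⟨c, rfl⟩))
  exact hc (S.h_inj _ _ _ _ (h1.trans S.h_one.symm)).2

theorem back {g x : G} (hg : g ∈ BB S) (h : g⁻¹ * x * g ∈ J S.XZ 1 8) : x ∈ J S.XZ 1 8 := by
  have := BB_norm S hg h
  rwa [show g * (g⁻¹ * x * g) * g⁻¹ = x by group] at this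

include hF in
theorem ro_B {g : G} {c : ℤ} (h : Ro S g c) (h1 : -3 ≤ c) (h2 : c ≤ 4) (hg : g ∈ BB S) : c = 0 := by
  by_contra h0
  rcases lt_or_gt_of_ne h0 with h3 | h3
  · exact not_zero S hF fun x hx => back S hg (h.arc (by omega) (by omega) (mem_J hx le_rfl le_rfl))
  · exact not_nine S hF fun x hx => back S hg (h.arc (by omega) (by omega) (mem_J hx le_rfl le_rfl))

include hF in
theorem re_B {g : G} {c : ℤ} (h : Re S g c) : g ∉ BB S := fun hg => by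
  obtain ⟨c, h1, h2, h⟩ := h.red 1
  rcases le_or_gt c 4 with h3 | h3
  · exact not_zero S hF fun x hx => back S hg (h.arc (by omega) (by omega) (mem_J hx le_rfl le_rfl))
  · exact not_nine S hF fun x hx => back S hg (h.arc (by omega) (by omega) (mem_J hx le_rfl le_rfl))

include hF in
theorem mem_T {g : G} (hg : g ∈ BB S) (h : Dih S g) : g ∈ S.T := by
  obtain ⟨c, h | h⟩ := h
  · obtain ⟨c, h1, h2, h⟩ := h.red (-3)
    rw [ro_B S hF h h1 (by omega) hg] at h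
    exact Ro.zero_iff.1 h
  · exact absurd hg (re_B S hF h)

/-- the group `N` -/
def NN : Subgroup G where
  carrier := {w | Dih S w}
  one_mem' := ⟨0, Or.inl (Ro.zero_iff.2 (one_mem _))⟩
  mul_mem' := by
    rintro a b ⟨c, h | h⟩ ⟨d, k | k⟩
    · exact ⟨_, Or.inl (h.mul k)⟩
    · exact ⟨_, Or.inr (h.mulRe k)⟩
    · exact ⟨_, Or.inr (h.mulRo k)⟩
    · exact ⟨_, Or.inl (h.mul k)⟩
  inv_mem' := by
    rintro a ⟨c, h | h⟩
    · exact ⟨_, Or.inl h.inv⟩
    · exact ⟨_, Or.inr h.inv⟩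

/-- the simple reflections -/
def nn (i : Bool) : G := cond i S.n1 S.n2

/-- the simple root groups -/
def XX (i : Bool) : Subgroup G := cond i (S.XZ 1) (S.XZ 8)

/-- the unipotent radicals -/
def VV (i : Bool) : Subgroup G := cond i (J S.XZ 2 8) (J S.XZ 1 7)

theorem re_n (i : Bool) : Re S (nn S i) (cond i 5 4) := by
  cases i
  · exact re2 S
  · exact re1 S

theorem n_sq (i : Bool) : nn S i * nn S i = 1 := by
  cases i
  · exact S.n2_sq
  · exact S.n1_sq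

theorem n_inv (i : Bool) : (nn S i)⁻¹ = nn S i := inv_eq_of_mul_eq_one_right (n_sq S i)

theorem XU (i : Bool) : XX S i ≤ J S.XZ 1 8 := by
  cases i
  · exact (X_le_J (by norm_num) le_rfl : S.XZ 8 ≤ J S.XZ 1 8)
  · exact (X_le_J le_rfl (by norm_num) : S.XZ 1 ≤ J S.XZ 1 8)

theorem dec (i : Bool) {u : G} (hu : u ∈ J S.XZ 1 8) : ∃ v ∈ VV S i, ∃ x ∈ XX S i, u = v * x := by
  cases i
  · obtain ⟨v, hv, x, hx, e⟩ := S.zsys8.split_rr (by norm_num) (by norm_num) hu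
    exact ⟨v, (J_mono le_rfl (by norm_num) : _ ≤ J S.XZ 1 7) hv, x, hx, e⟩
  · obtain ⟨v, hv, x, hx, e⟩ := S.zsys8.split_lr (by norm_num) (by norm_num) hu
    exact ⟨v, (J_mono (by norm_num) le_rfl : _ ≤ J S.XZ 2 8) hv, x, hx, e⟩

theorem nV (i : Bool) {v : G} (hv : v ∈ VV S i) : nn S i * v * (nn S i)⁻¹ ∈ J S.XZ 1 8 := by
  cases i
  · exact (re2 S).arc' (by norm_num) (by norm_num) hv
  · exact (re1 S).arc' (by norm_num) (by norm_num) hv

theorem rk (i : Bool) {x : G} (hx : x ∈ XX S i) (h1 : x ≠ 1) :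
    ∃ u ∈ XX S i, ∃ t ∈ S.T, ∃ u' ∈ XX S i, nn S i * x * (nn S i)⁻¹ = u * t * nn S i * u' := by
  have h2 : nn S i * x * (nn S i)⁻¹ ≠ 1 := fun h => h1 (by rwa [mul_inv_eq_one, mul_eq_left] at h)
  obtain ⟨a, ha, b, hb, h⟩ : ∃ a ∈ XX S i, ∃ b ∈ XX S i, Re S (a * (nn S i * x * (nn S i)⁻¹) * b) (cond i 5 4) := by
    cases i
    · have h3 : S.n2 * x * S.n2⁻¹ ∈ S.XZ 0 :=
        mem_of_J_self ((re2 S).arc' (by norm_num) (by norm_num) (mem_J hx le_rfl le_rfl)) le_rfl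
      obtain ⟨a, ha, b, hb, h⟩ := (rgdz S.R).muJ _ h3 h2
      exact ⟨a, ha, b, hb, h.congr fun k => by simp⟩
    · have h3 : S.n1 * x * S.n1⁻¹ ∈ S.XZ 9 :=
        mem_of_J_self ((re1 S).arc' (by norm_num) (by norm_num) (mem_J hx le_rfl le_rfl)) le_rfl
      obtain ⟨a, ha, b, hb, h⟩ := (rgdz S.R).muI _ h3 h2
      exact ⟨a, ha, b, hb, h.congr fun k => by norm_num⟩
  have h4 := h.mul (re_n S i).inv
  rw [sub_self, Ro.zero_iff] at h4
  exact ⟨a⁻¹, inv_mem ha, _, h4, b⁻¹, inv_mem hb, by group⟩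

theorem dich (i : Bool) {w : G} (h : Dih S w) : (∀ x ∈ XX S i, w⁻¹ * x * w ∈ J S.XZ 1 8) ∨
    ∀ x ∈ XX S i, (nn S i * w)⁻¹ * x * (nn S i * w) ∈ J S.XZ 1 8 := by
  cases i
  · exact h.eight
  · exact h.one

theorem alt_mem {K : Subgroup G} (k : ℕ) : ∀ {a b : G}, a ∈ K → b ∈ K → H654.OZ.alt a b k ∈ K := by
  induction k with
  | zero => exact fun _ _ => one_mem _
  | succ k ih => exact fun ha hb => mul_mem ha (ih hb ha)

theorem alt_eq (n : Bool → G) (i : Bool) (j : ℕ) : alt n i j = H654.OZ.alt (n (!(lt i j))) (n (lt i j)) j := by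
  induction j with
  | zero => rfl
  | succ j ih => rw [alt_succ, ih, lt_succ, Bool.not_not]; rfl

/-- the BN pair -/
def bn : BNPair G where
  B := BB S
  N := NN S
  S := Set.range (nn S)
  sup_eq_top := by
    rw [eq_top_iff]
    intro g _
    obtain ⟨b, hb, w, hw, b', hb', rfl⟩ := bruhat' (S := S) g
    exact mul_mem (mul_mem (Subgroup.mem_sup_left hb) (Subgroup.mem_sup_right hw)) (Subgroup.mem_sup_left hb')
  conj_mem n hn t ht := by
    have := Dih.tor ((NN S).inv_mem hn) (mem_T S hF ht.1 ht.2)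
    rw [inv_inv] at this
    exact T_le_BB S this
  subset := by
    rintro _ ⟨i, rfl⟩
    exact ⟨_, Or.inr (re_n S i)⟩
  sq_mem := by
    rintro _ ⟨i, rfl⟩
    rw [n_sq]
    exact one_mem _
  inj := by
    rintro _ ⟨i, rfl⟩ _ ⟨j, rfl⟩ h
    have h1 := ro_B S hF ((re_n S i).inv.mul (re_n S j)) (by cases i <;> cases j <;> simp) (by cases i <;> cases j <;> simp) h
    cases i <;> cases j <;> simp at h1 ⊢
  closure_sup := by
    refine le_antisymm (sup_le ((Subgroup.closure_le _).2 ?_) inf_le_right) fun w hw => ?_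
    · rintro _ ⟨i, rfl⟩
      exact ⟨_, Or.inr (re_n S i)⟩
    · obtain ⟨i, hi⟩ := exists_wd S hw
      have h1 : S.n1 ∈ Subgroup.closure (Set.range (nn S)) := Subgroup.subset_closure ⟨true, rfl⟩
      have h2 : S.n2 ∈ Subgroup.closure (Set.range (nn S)) := Subgroup.subset_closure ⟨false, rfl⟩
      rw [← mul_inv_cancel_left (H654.OZ.wd S i) w]
      refine mul_mem (Subgroup.mem_sup_left ?_) (Subgroup.mem_sup_right ⟨T_le_BB S hi, 0, Or.inl (Ro.zero_iff.2 hi)⟩)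
      unfold H654.OZ.wd
      split_ifs
      · exact alt_mem _ h2 h1
      · exact alt_mem _ h1 h2
  mul_mem_union := by
    rintro _ ⟨i, rfl⟩ w hw b hb
    obtain ⟨u, hu, t, ht, rfl⟩ := BB_form' S hb
    obtain ⟨v, hv, x, hx, rfl⟩ := dec S i hu
    have a1 := J_le_BB S (nV S i hv)
    have a2 := T_le_BB S (Dih.tor hw ht)
    have left : w⁻¹ * x * w ∈ J S.XZ 1 8 →
        nn S i * (v * x * t) * w ∈ DoubleCoset.doubleCoset (nn S i * w) (BB S : Set G) (BB S) := fun h =>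
      DoubleCoset.mem_doubleCoset.2 ⟨_, a1, _, mul_mem (J_le_BB S h) a2, by group⟩
    rcases dich S i hw with h | h
    · exact Or.inl (left (h x hx))
    by_cases h1 : x = 1
    · exact Or.inl (left (by rw [h1, mul_one, inv_mul_cancel]; exact one_mem _))
    obtain ⟨a, ha, s, hs, a', ha', e⟩ := rk S i hx h1
    refine Or.inr (DoubleCoset.mem_doubleCoset.2 ⟨_, mul_mem (mul_mem a1 (J_le_BB S (XU S i ha))) (T_le_BB S hs), _,
      mul_mem (J_le_BB S (h a' ha')) a2, ?_⟩)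
    calc _ = nn S i * v * (nn S i)⁻¹ * (nn S i * x * (nn S i)⁻¹) * nn S i * t * w := by group
      _ = nn S i * v * (nn S i)⁻¹ * a * s * (nn S i)⁻¹ * a' * nn S i * t * w := by rw [e, n_inv]; group
      _ = _ := by group
  conj_ne := by
    rintro _ ⟨i, rfl⟩ h
    obtain ⟨x, hx⟩ := Subgroup.ne_bot_iff_exists_ne_one.1
      (show XX S i ≠ ⊥ by cases i <;> exact S.zsys8.ne_bot _)
    obtain ⟨a, ha, s, hs, a', ha', e⟩ := rk S i x.2 fun e => hx (Subtype.ext e)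
    have h1 : nn S i * x * nn S i ∈ BB S := by
      rw [← SetLike.mem_coe, ← h]
      exact ⟨x, J_le_BB S (XU S i x.2), rfl⟩
    rw [n_inv] at e
    rw [e] at h1
    exact re_B S hF (re_n S i) ((Subgroup.mul_mem_cancel_left _ (mul_mem (J_le_BB S (XU S i ha)) (T_le_BB S hs))).1
      ((Subgroup.mul_mem_cancel_right _ (J_le_BB S (XU S i ha'))).1 h1))

/-- the datum -/
def r2 : R2 G where
  P := bn S hF
  U := J S.XZ 1 8
  T := S.T
  X := XX S
  V := VV S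
  n := nn S
  m := 8
  mem_B g := ⟨fun h => BB_form' S h, by
    rintro ⟨u, hu, t, ht, rfl⟩
    exact mul_mem (J_le_BB S hu) (T_le_BB S ht)⟩
  S_eq := rfl
  TN t ht := ⟨0, Or.inl (Ro.zero_iff.2 ht)⟩
  BN g := mem_T S hF
  comm s hs t ht := H42.Deg.F4.T_comm S hs ht
  TU t ht u hu := S.T_conj_J ht hu
  XU := XU S
  VU i := by
    cases i
    · exact J_mono le_rfl (by norm_num)
    · exact J_mono (by norm_num) le_rfl
  dec i u := dec S i
  UV i u hu v hv := by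
    cases i
    · exact PB_norm S (H654.OZ.BB_le_PB (J_le_BB S hu)) hv
    · exact PP_norm S (BB_le_PP S (J_le_BB S hu)) hv
  nV i v := nV S i
  rk1 i x hx h1 := by
    obtain ⟨a, ha, s, hs, a', ha', e⟩ := rk S i hx h1
    rw [n_inv] at e ⊢
    exact ⟨a, XU S i ha, s, hs, a', XU S i ha', e⟩
  rk1' i x hx h1 := by
    obtain ⟨a, ha, s, hs, a', ha', e⟩ := rk S i hx h1
    exact ⟨a, XU S i ha, s, hs, a', XU S i ha', e⟩
  m_pos := by norm_num
  red i j hj x hx := by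
    rw [alt_eq]
    revert hx
    cases lt i j
    · exact lt2 S hj
    · exact lt1 S hj
  braid := by
    rw [alt_eq, alt_eq, ← Ro.zero_iff]
    exact ((alt_maps S 4).2.1.inv.mul (alt_maps S 4).1.1).cong (by decide)

include S in
theorem van3 [Finite G] {m : ℕ} (hm : 1 ≤ m) (hq : Nat.card F = 2 ^ (2 * m + 1))
    (hG : Nat.card G = Nat.card F ^ 12 * ((Nat.card F - 1) * (Nat.card F ^ 3 + 1) * (Nat.card F ^ 4 - 1) * (Nat.card F ^ 6 + 1)))
    (hperf : commutator G = ⊤) : Van3 G := by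
  obtain ⟨h3, h4, -, h2⟩ := H654.OZ.three_dvd hm
  have hF : ∃ c : Fˣ, c ≠ 1 := by
    have := Fintype.ofFinite F
    obtain ⟨c, hc⟩ := exists_unit_pow_ne (K := F) one_pos (by rw [← Nat.card_eq_fintype_card, hq]; omega)
    exact ⟨c, by rwa [pow_one] at hc⟩
  have hU : IsPGroup 2 (r2 S hF).U := IsPGroup.of_card (n := (2 * m + 1) * 12) (by
    show Nat.card (J S.XZ 1 8) = _
    rw [(H654.OZ.card_J18 S).1, hq, pow_mul])
  have hT : ∀ t ∈ (r2 S hF).T, t ^ (2 ^ (2 * m + 1) - 1) = 1 := fun t ht => by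
    obtain ⟨c, d, rfl⟩ := S.mem_T.1 ht
    rw [Arc.h_pow, ← hq, ← Nat.card_units, pow_card_eq_one', pow_card_eq_one', S.h_one]
  obtain ⟨l, ⟨E⟩⟩ := (r2 S hF).exists_num (p := 2) (h := 4) (k := 2 * m + 1)
    (c := (Nat.card F - 1) * (Nat.card F ^ 3 + 1) * (Nat.card F ^ 4 - 1) * (Nat.card F ^ 6 + 1))
    (fun b => cond b (2 * m + 1) ((2 * m + 1) * 2)) Nat.prime_two rfl (by norm_num) (by rintro (_ | _) <;> simp)
    (by
      rintro (_ | _)
      · exact (H654.OZ.card_even S 4).trans (by rw [hq, ← pow_mul]; rfl)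
      · exact (H654.OZ.card_odd S 0).trans hq) hU hT (by omega)
    (by show 2 * m + 1 < 4 * (2 * m + 1 + (2 * m + 1) * 2); omega)
    (by
      show _ = 2 ^ (4 * (2 * m + 1 + (2 * m + 1) * 2)) * _
      rw [hG, show 4 * (2 * m + 1 + (2 * m + 1) * 2) = (2 * m + 1) * 12 by ring, pow_mul, ← hq])
    (by
      rw [← hq] at h2 h4
      have a : ∀ k, 0 < k → 2 ∣ Nat.card F ^ k ∧ 0 < Nat.card F ^ k := fun k hk =>
        ⟨h2.trans (dvd_pow_self _ hk.ne'), pow_pos (by omega) _⟩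
      have a3 := a 3 (by norm_num)
      have a4 := a 4 (by norm_num)
      have a6 := a 6 (by norm_num)
      simp only [Nat.prime_two.dvd_mul]
      omega)
    (by show ¬ (2 = 2 ∧ 4 * (2 * m + 1 + (2 * m + 1) * 2) = 6); omega)
  obtain ⟨z, b, -, -, -, El, -, -, -, h5⟩ := H654.OZ.el_one S hm hq hF
  obtain ⟨z', hz, hz1, hz2⟩ := H42.Deg.F4B.exists_z0 S hF
  obtain ⟨x, hx⟩ := Subgroup.ne_bot_iff_exists_ne_one.1 (S.zsys8.ne_bot 8)
  have hxU := XU S false x.2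
  have hc : Commute z' x := mul_inv_eq_iff_eq_mul.1 (hz1 x (X8_L4 S x.2))
  obtain ⟨k, hk⟩ := hU ⟨x, hxU⟩
  have hxo : orderOf (x : G) ∣ 2 ^ k := orderOf_dvd_of_pow_eq_one (congrArg Subtype.val hk)
  have hco : (orderOf z').Coprime (orderOf (x : G)) :=
    Nat.Coprime.of_dvd (orderOf_dvd_of_pow_eq_one (hT z' hz)) hxo
      (Nat.Coprime.pow_right _ ((Nat.coprime_two_right).2 (Nat.not_even_iff_odd.1 (by rw [even_iff_two_dvd]; omega))))
  refine R2.van3 E hperf true (g := z * b) (g' := z' * x) ?_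
    (fun y _ => (r2 S hF).ell_of_order hU hT (fun j hj => ?_) y) El.free ?_
    ((r2 S hF).B_le_Par _ (mul_mem (T_le_BB S hz) (J_le_BB S hxU))) fun v hv h => ?_
  · rcases (frP S).bru _ El.mem with h | ⟨a, ha, c, hc, e⟩
    · exact Or.inl ((frP S).CB h)
    · exact Or.inr (mem_C.2 ⟨a, (frP S).CB ha, c, (frP S).CB hc, e⟩)
  · rcases Nat.prime_three.dvd_mul.1 (h5.trans hj) with h | h
    · omega
    · exact absurd (Nat.prime_three.dvd_of_dvd_pow h) (by norm_num)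
  · rw [hc.orderOf_mul_eq_mul_orderOf_of_coprime hco]
    obtain ⟨j, -, hj⟩ := (Nat.dvd_prime_pow Nat.prime_two).1 hxo
    refine Dvd.dvd.mul_left (hj ▸ dvd_pow_self 2 fun e => hx (Subtype.ext ?_)) _
    rw [e, pow_zero] at hj
    exact orderOf_eq_one_iff.1 hj
  · obtain ⟨j, hj⟩ := H654.OZ.exists_zpow hc hco
    have h1 := (show Commute _ v from h).zpow_left j
    rw [hj] at h1
    exact hz2 v hv (by rw [h1.eq, mul_inv_cancel_right])

end TF

/-- **the row `²F₄(q)`** -/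
theorem row_f4t : Row.{u} (fun G _ => Lie.Iso2F4 G) := by
  rintro G _ _ _ hna ⟨K, _, _, m, hm, hK, ⟨e⟩⟩
  have hch := ChevalleyStructure.TwF4.Twisted.charP_two hK
  have hfin : Finite ↥(Lie.twistedF4 K (2 ^ m)) := Finite.of_equiv G e.toEquiv
  obtain ⟨φ, hφ⟩ := ChevalleyStructure.TwF4.TwistedFix.exists_rln hK
  have hq : Nat.card K = 2 ^ (2 * m + 1) := by rw [Nat.card_eq_fintype_card, hK]
  refine (TF.van3 (Inst.full hK hφ) hm hq ?_ (perfect_of_equiv (perfect_of_simple hna) e)).of_equiv e.symm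
  rw [S1068.result hK, hq]
  ring

end Cfsg.Agent.VAN.Rk
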