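import Cfsg.Agent.VAN.Rk.Dat
import Cfsg.Agent.VAN.Rk.Rep

/-!
# S4942, rank two: weight spaces and the operators of the simple reflections (helper77)
-/

set_option autoImplicit false

namespace Cfsg.Agent.VAN.Rk

open Module Cfsg Cfsg.Agent.LieExceptional.BNPairCore
open scoped ComplexConjugate ComplexOrder

universe u

namespace R2

variable {G : Type u} [Group G] (D : R2 G) {V : Type} [AddCommGroup V] [Module ℂ V] (ρ : Representation ℂ G V)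

/-- the weight spaces -/
def W (θ : D.T → ℂ) : Submodule ℂ V where
  carrier := {v | (∀ u ∈ D.U, ρ u v = v) ∧ ∀ t : D.T, ρ t v = θ t • v}
  add_mem' := fun ha hb => ⟨fun u hu => by rw [map_add, ha.1 u hu, hb.1 u hu],
    fun t => by rw [map_add, ha.2 t, hb.2 t, smul_add]⟩
  zero_mem' := ⟨fun _ _ => map_zero _, fun t => by rw [map_zero, smul_zero]⟩
  smul_mem' := fun c v hv => ⟨fun u hu => by rw [map_smul, hv.1 u hu], fun t => by rw [map_smul, hv.2 t, smul_comm]⟩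

/-- the action of `N` on the weights -/
def act (g : G) (hg : g ∈ D.P.N) (θ : D.T → ℂ) : D.T → ℂ := fun t => θ ⟨g⁻¹ * t * g, D.NT hg t.2⟩

/-- the simple reflections on the weights -/
def s (i : Bool) (θ : D.T → ℂ) : D.T → ℂ := D.act (D.n i) (D.nN i) θ

/-- the value on the square of the simple reflection -/
def eps (i : Bool) (θ : D.T → ℂ) : ℂ := θ ⟨D.n i * D.n i, D.sq i⟩

theorem s_s (i : Bool) (θ : D.T → ℂ) : D.s i (D.s i θ) = θ := by
  funext t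
  show θ _ = θ t
  congr 1
  apply Subtype.ext
  show (D.n i)⁻¹ * ((D.n i)⁻¹ * t * D.n i) * D.n i = t
  have h1 := D.comm _ (D.sq i) _ t.2
  calc _ = (D.n i * D.n i)⁻¹ * (t * (D.n i * D.n i)) := by group
    _ = t := by rw [← h1]; group

theorem eps_s (i : Bool) (θ : D.T → ℂ) : D.eps i (D.s i θ) = D.eps i θ := by
  show θ _ = θ _
  congr 1
  apply Subtype.ext
  show (D.n i)⁻¹ * (D.n i * D.n i) * D.n i = D.n i * D.n i
  group

variable {D ρ}

theorem eq_zero_of_ne {θ η : D.T → ℂ} (h : θ ≠ η) {v : V} (h1 : v ∈ D.W ρ θ) (h2 : v ∈ D.W ρ η) : v = 0 := by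
  obtain ⟨t, ht⟩ := Function.ne_iff.1 h
  have h3 : (θ t - η t) • v = 0 := by rw [sub_smul, ← h1.2 t, ← h2.2 t, sub_self]
  exact (smul_eq_zero.1 h3).resolve_left (sub_ne_zero.2 ht)

theorem orth (F : Uni ρ) {θ η : D.T → ℂ} (h : θ ≠ η) {v w : V} (h1 : v ∈ D.W ρ θ) (h2 : w ∈ D.W ρ η) :
    F.B v w = 0 := by
  obtain ⟨t, ht⟩ := Function.ne_iff.1 h
  exact F.orth (h1.2 t) (h2.2 t) ht

theorem conj_mul (F : Uni ρ) {θ : D.T → ℂ} {v : V} (hv : v ∈ D.W ρ θ) (h0 : v ≠ 0) (t : D.T) :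
    conj (θ t) * θ t = 1 := F.eig h0 (hv.2 t)

theorem B_apply {θ : D.T → ℂ} {v : V} (hv : v ∈ D.W ρ θ) {b : G} (hb : b ∈ D.P.B) : ∃ c : ℂ, ρ b v = c • v := by
  obtain ⟨t, ht, u, hu, rfl⟩ := D.mem_B' hb
  exact ⟨θ ⟨t, ht⟩, by rw [← rho_mul, hv.1 u hu, hv.2 ⟨t, ht⟩]⟩

variable [Finite G] (D ρ)

/-- the operator of a simple reflection -/
noncomputable def A (i : Bool) : Module.End ℂ V := av ρ D.U * ρ (D.n i)

theorem A_apply (i : Bool) (v : V) : D.A ρ i v = av ρ D.U (ρ (D.n i) v) := rfl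

theorem B_av {b : G} (hb : b ∈ D.P.B) : ρ b * av ρ D.U = av ρ D.U * ρ b :=
  av_comm ρ (fun _ hx => D.BU hb hx) fun x hx => by
    have := D.BU (D.P.B.inv_mem hb) hx
    rwa [inv_inv] at this

theorem Par_av {i : Bool} {g : G} (hg : g ∈ D.Par i) : ρ g * av ρ (D.V i) = av ρ (D.V i) * ρ g :=
  av_comm ρ (fun _ hx => D.ParV hg hx) fun x hx => by
    have := D.ParV ((D.Par i).inv_mem hg) hx
    rwa [inv_inv] at this

theorem av_X_V (i : Bool) : av ρ (D.X i) * av ρ (D.V i) = av ρ D.U := by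
  have h1 : av ρ D.U * (av ρ (D.X i) * av ρ (D.V i)) = av ρ (D.X i) * av ρ (D.V i) := by
    refine av_mul_of ρ fun u hu => ?_
    obtain ⟨x, hx, v, hv, rfl⟩ := D.dec' i hu
    have h2 : av ρ (D.X i) * av ρ (D.V i) = av ρ (D.V i) * av ρ (D.X i) := by
      have h3 : av ρ (D.X i) * (av ρ (D.V i) * av ρ (D.X i)) = av ρ (D.V i) * av ρ (D.X i) :=
        av_mul_of ρ fun y hy => by
          rw [← mul_assoc, D.Par_av ρ (D.B_le_Par i (D.UB (D.XU i hy))), mul_assoc, rho_av ρ hy]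
      have h4 : av ρ (D.X i) * av ρ (D.V i) * av ρ (D.X i) = av ρ (D.X i) * av ρ (D.V i) :=
        mul_av_of ρ fun y hy => by
          rw [mul_assoc, ← D.Par_av ρ (D.B_le_Par i (D.UB (D.XU i hy))), ← mul_assoc, av_rho ρ hy]
      rw [← h3, ← mul_assoc, h4]
    rw [map_mul, mul_assoc, h2, ← mul_assoc (ρ v), rho_av ρ hv, ← h2, ← mul_assoc, rho_av ρ hx]
  rw [← h1, ← mul_assoc, av_av' ρ (D.XU i), av_av' ρ (D.VU i)]

theorem av_V_X (i : Bool) : av ρ (D.V i) * av ρ (D.X i) = av ρ D.U := by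
  rw [← D.av_X_V ρ i]
  have h3 : av ρ (D.X i) * (av ρ (D.V i) * av ρ (D.X i)) = av ρ (D.V i) * av ρ (D.X i) :=
    av_mul_of ρ fun y hy => by
      rw [← mul_assoc, D.Par_av ρ (D.B_le_Par i (D.UB (D.XU i hy))), mul_assoc, rho_av ρ hy]
  have h4 : av ρ (D.X i) * av ρ (D.V i) * av ρ (D.X i) = av ρ (D.X i) * av ρ (D.V i) :=
    mul_av_of ρ fun y hy => by
      rw [mul_assoc, ← D.Par_av ρ (D.B_le_Par i (D.UB (D.XU i hy))), ← mul_assoc, av_rho ρ hy]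
  rw [← h3, ← mul_assoc, h4]

theorem A_av (i : Bool) : D.A ρ i * av ρ D.U = D.A ρ i * av ρ (D.X i) := by
  rw [← D.av_V_X ρ i, ← mul_assoc, A, mul_assoc _ (ρ (D.n i)), D.Par_av ρ (D.n_mem_Par i), ← mul_assoc,
    av_av' ρ (D.VU i)]

variable {D ρ}

theorem av_B_app {b : G} (hb : b ∈ D.P.B) (v : V) : av ρ D.U (ρ b v) = ρ b (av ρ D.U v) := by
  rw [← Module.End.mul_apply, ← D.B_av ρ hb, Module.End.mul_apply]

theorem A_mem (i : Bool) {θ : D.T → ℂ} {v : V} (hv : v ∈ D.W ρ θ) : D.A ρ i v ∈ D.W ρ (D.s i θ) := by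
  refine ⟨fun u hu => rho_av_app ρ hu _, fun t => ?_⟩
  rw [A_apply, ← av_B_app (D.TB t.2), rho_mul, show (t : G) * D.n i = D.n i * ((D.n i)⁻¹ * t * D.n i) by group,
    ← rho_mul, hv.2 ⟨_, D.NT (D.nN i) t.2⟩, map_smul, map_smul]
  rfl

/-- the quadratic relation -/
theorem quad (i : Bool) (θ : D.T → ℂ) : ∃ c : ℂ, ((∀ t, IsIntegral ℤ (θ t)) → IsIntegral ℤ c) ∧
    ∀ v ∈ D.W ρ θ, (D.q i : ℂ) • D.A ρ i (D.A ρ i v) = D.eps i θ • (v + c • D.A ρ i v) := by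
  classical
  have := Fintype.ofFinite (D.X i)
  have key : ∀ x : D.X i, ∃ c : ℂ, ((∀ t, IsIntegral ℤ (θ t)) → IsIntegral ℤ c) ∧ ∀ v ∈ D.W ρ θ,
      D.A ρ i (ρ x (ρ (D.n i) v)) = D.eps i θ • ((if x = 1 then v else 0) + c • D.A ρ i v) := by
    intro x
    by_cases hx : x = 1
    · refine ⟨0, fun _ => isIntegral_zero, fun v hv => ?_⟩
      rw [if_pos hx, hx, zero_smul, add_zero, OneMemClass.coe_one, map_one, Module.End.one_apply, A_apply, rho_mul,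
        hv.2 ⟨_, D.sq i⟩, map_smul, av_fix ρ hv.1]
      rfl
    · obtain ⟨u, hu, t, ht, u', hu', e⟩ := D.rk1' i x x.2 fun h => hx (Subtype.ext h)
      refine ⟨D.s i θ ⟨t, ht⟩, fun h => h _, fun v hv => ?_⟩
      have e2 : D.n i * (x * D.n i) = u * (t * (D.n i * (u' * (D.n i * D.n i)))) := by
        calc _ = D.n i * x * (D.n i)⁻¹ * (D.n i * D.n i) := by group
          _ = _ := by rw [e]; group
      rw [if_neg hx, zero_add, A_apply, rho_mul, rho_mul, mul_assoc, e2, ← rho_mul, av_rho_app ρ hu, ← rho_mul,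
        av_B_app (D.TB ht), ← rho_mul, ← rho_mul, hv.2 ⟨_, D.sq i⟩, map_smul, hv.1 u' hu', map_smul, map_smul,
        map_smul, ← A_apply, (A_mem i hv).2 ⟨t, ht⟩]
      rfl
  choose c hc1 hc2 using key
  refine ⟨∑ x, c x, fun h => IsIntegral.sum _ fun x _ => hc1 x h, fun v hv => ?_⟩
  have h1 : D.A ρ i (D.A ρ i v) = D.A ρ i (av ρ (D.X i) (ρ (D.n i) v)) := by
    rw [A_apply D ρ i v, ← Module.End.mul_apply, A_av, Module.End.mul_apply]
  rw [h1, av_def, LinearMap.smul_apply, map_smul, smul_smul, q, mul_inv_cancel₀ (card_ne _), one_smul,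
    LinearMap.sum_apply, map_sum, Finset.sum_congr rfl fun x _ => hc2 x v hv, ← Finset.smul_sum,
    Finset.sum_add_distrib, Finset.sum_ite_eq' Finset.univ, if_pos (Finset.mem_univ _), Finset.sum_smul]

theorem quad_ne {i : Bool} {θ : D.T → ℂ} (h : D.s i θ ≠ θ) {v : V} (hv : v ∈ D.W ρ θ) :
    (D.q i : ℂ) • D.A ρ i (D.A ρ i v) = D.eps i θ • v := by
  obtain ⟨c, -, hc⟩ := quad (ρ := ρ) i θ
  have h1 := hc v hv
  have h2 := A_mem i (A_mem i hv)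
  rw [s_s] at h2
  have h3 : D.eps i θ • c • D.A ρ i v = 0 := by
    refine eq_zero_of_ne h ((D.W ρ _).smul_mem _ ((D.W ρ _).smul_mem _ (A_mem i hv))) ?_
    have h4 : D.eps i θ • c • D.A ρ i v = (D.q i : ℂ) • D.A ρ i (D.A ρ i v) - D.eps i θ • v := by
      rw [h1, smul_add, add_sub_cancel_left]
    rw [h4]
    exact (D.W ρ _).sub_mem ((D.W ρ _).smul_mem _ h2) ((D.W ρ _).smul_mem _ hv)
  rw [h1, smul_add, h3, add_zero]

theorem q_ne (i : Bool) : (D.q i : ℂ) ≠ 0 := card_ne _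

omit [Finite G] in
theorem eps_ne (F : Uni ρ) (i : Bool) {θ : D.T → ℂ} {v : V} (hv : v ∈ D.W ρ θ) (h0 : v ≠ 0) : D.eps i θ ≠ 0 :=
  right_ne_zero_of_mul_eq_one (conj_mul F hv h0 _)

omit [Finite G] in
theorem inv_apply (i : Bool) {θ : D.T → ℂ} {v : V} (hv : v ∈ D.W ρ θ) :
    D.eps i θ • ρ (D.n i)⁻¹ v = ρ (D.n i) v := by
  rw [← map_smul, eps, ← hv.2 ⟨_, D.sq i⟩, rho_mul, inv_mul_cancel_left]

theorem norm_A (F : Uni ρ) {i : Bool} {θ : D.T → ℂ} (h : D.s i θ ≠ θ) {v : V} (hv : v ∈ D.W ρ θ) :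
    (D.q i : ℂ) * F.B (D.A ρ i v) (D.A ρ i v) = F.B v v := by
  by_cases h0 : v = 0
  · simp [h0]
  have h1 := A_mem i hv
  have h2 : D.eps i θ * F.B (D.A ρ i v) (D.A ρ i v) = F.B v (D.A ρ i (D.A ρ i v)) := by
    nth_rewrite 1 [A_apply]
    rw [F.av_adj, av_fix ρ h1.1, F.adj, ← F.smul_right, ← D.eps_s, inv_apply i h1, A_apply D ρ i (D.A ρ i v),
      ← F.av_adj, av_fix ρ hv.1]
  apply mul_left_cancel₀ (eps_ne F i hv h0)
  rw [mul_left_comm, h2, ← F.smul_right, quad_ne h hv, F.smul_right]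

/-- large subspaces are transported -/
theorem large_map [FiniteDimensional ℂ V] (F : Uni ρ) {i : Bool} {θ : D.T → ℂ} (h : D.s i θ ≠ θ) {S : Submodule ℂ V}
    (hS : S ≤ D.W ρ θ) (hd : finrank ℂ (D.W ρ θ) < 2 * finrank ℂ S) :
    finrank ℂ (D.W ρ (D.s i θ)) < 2 * finrank ℂ (S.map (D.A ρ i)) := by
  have key : ∀ η, D.s i η ≠ η → ∀ v ∈ D.W ρ η, ∃ c : ℂ, v = D.A ρ i (D.A ρ i (c • v)) := by
    intro η hη v hv
    by_cases h0 : v = 0
    · exact ⟨0, by simp [h0]⟩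
    refine ⟨(D.eps i η)⁻¹ * D.q i, ?_⟩
    rw [map_smul, map_smul, mul_smul, quad_ne hη hv, smul_smul, inv_mul_cancel₀ (eps_ne F i hv h0), one_smul]
  have h1 : S ≤ (S.map (D.A ρ i)).map (D.A ρ i) := fun v hv => by
    obtain ⟨c, hc⟩ := key θ h v (hS hv)
    exact ⟨_, ⟨_, S.smul_mem c hv, rfl⟩, hc.symm⟩
  have h2 : D.W ρ (D.s i θ) ≤ (D.W ρ θ).map (D.A ρ i) := fun v hv => by
    obtain ⟨c, hc⟩ := key (D.s i θ) (by rw [s_s]; exact h.symm) v hv
    refine ⟨_, ?_, hc.symm⟩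
    have h3 := A_mem i ((D.W ρ _).smul_mem c hv)
    rwa [s_s] at h3
  have h3 := (Submodule.finrank_mono h1).trans (Submodule.finrank_map_le _ _)
  have h4 := (Submodule.finrank_mono h2).trans (Submodule.finrank_map_le _ _)
  omega

end R2

end Cfsg.Agent.VAN.Rk
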